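import Mathlib
import Cfsg.Prelude.Def_Local
import Cfsg.Prelude.Def_CaseTheorems
import Cfsg.Agent.Lib.Helper75.FrattiniAct
import Cfsg.Agent.Lib.Helper94.F2Lin
import Cfsg.Agent.Lib.Helper94.LargeExtra
import Cfsg.Agent.Lib.Helper41.Cores

set_option autoImplicit false

/-! Action of a `p`-constrained group on the Frattini quotient of its `p`-core, and automorphism
groups of elementary abelian 2-groups as subgroups of `GL_n(2)` (helper60). -/

namespace Cfsg.Agent.Lib.Helper60

open Cfsg
open scoped commutatorElement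

/-- Automorphisms act on the quotient by a characteristic subgroup. -/
noncomputable def autQuot {G : Type*} [Group G] (N : Subgroup G) [hN : N.Characteristic] :
    MulAut G →* MulAut (G ⧸ N) where
  toFun e := QuotientGroup.congr N N e (Subgroup.characteristic_iff_map_eq.mp hN e)
  map_one' := by
    ext x
    induction x using QuotientGroup.induction_on
    rfl
  map_mul' e₁ e₂ := by
    ext x
    induction x using QuotientGroup.induction_on
    rfl

theorem autQuot_mk {G : Type*} [Group G] (N : Subgroup G) [hN : N.Characteristic] (e : MulAut G)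
    (g : G) : autQuot N e (g : G ⧸ N) = ((e g : G) : G ⧸ N) := rfl

/-- If `O_{p'}(X) = 1` then `O_{p',p}(X)` is a `p`-group. -/
theorem pPrimePCore_isPGroup_of_bot {X : Type*} [Group X] [Finite X] (p : ℕ) [Fact p.Prime]
    (hO : pPrimeCore p X = ⊥) : IsPGroup p ↥(pPrimePCore p X) := by
  rintro ⟨x, hx⟩
  have h1 : (QuotientGroup.mk' (pPrimeCore p X) x) ∈ pCore p (X ⧸ pPrimeCore p X) := hx
  obtain ⟨k, hk⟩ := (Helper41.pCore_isPGroup (G := X ⧸ pPrimeCore p X) p) ⟨_, h1⟩
  refine ⟨k, ?_⟩
  have h2 : (QuotientGroup.mk' (pPrimeCore p X) (x ^ p ^ k)) = 1 := by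
    rw [map_pow]; exact congrArg Subtype.val hk
  have h3 : x ^ p ^ k ∈ pPrimeCore p X := (QuotientGroup.eq_one_iff _).mp h2
  rw [hO, Subgroup.mem_bot] at h3
  exact Subtype.ext h3

/-- In a `p`-constrained group with `O_{p'}(X) = 1`, the centralizer of `O_p(X)` lies in
`O_p(X)`. -/
theorem centralizer_pCore_le {X : Type*} [Group X] [Finite X] (p : ℕ) [Fact p.Prime]
    (hc : IsPConstrained p X) (hO : pPrimeCore p X = ⊥) :
    Subgroup.centralizer (pCore p X : Set X) ≤ pCore p X := by
  have hR : IsPGroup p ↥(pPrimePCore p X) := pPrimePCore_isPGroup_of_bot p hO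
  have hRn : (pPrimePCore p X).Normal := Helper41.pPrimePCore_normal' p
  have hRQ : pPrimePCore p X ≤ pCore p X := Helper41.le_pCore _ hR
  obtain ⟨P, hP⟩ := IsPGroup.exists_le_sylow (hR.to_subgroup ⊤)
  have hP' : (P : Subgroup ↥(pPrimePCore p X)) = ⊤ := top_le_iff.mp hP
  have h1 := hc P
  rw [hP'] at h1
  have h2 : (⊤ : Subgroup ↥(pPrimePCore p X)).map (pPrimePCore p X).subtype =
      pPrimePCore p X := by
    rw [← MonoidHom.range_eq_map, Subgroup.range_subtype]
  rw [h2] at h1
  exact (Subgroup.centralizer_le (fun x hx => hRQ hx)).trans (h1.trans hRQ)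

/-- In a `p`-constrained group `X` with `O_{p'}(X) = 1`, the quotient `X / O_p(X)` acts faithfully
on the Frattini quotient of `O_p(X)`. -/
theorem exists_quot_pCore_to_aut_frattini {X : Type*} [Group X] [Finite X] (p : ℕ)
    [Fact p.Prime] (hc : IsPConstrained p X) (hO : pPrimeCore p X = ⊥) :
    ∃ f : X ⧸ pCore p X →* MulAut (↥(pCore p X) ⧸ frattini ↥(pCore p X)),
      Function.Injective f := by
  classical
  have hQ : IsPGroup p ↥(pCore p X) := Helper41.pCore_isPGroup p
  let ρ : X →* MulAut (↥(pCore p X) ⧸ frattini ↥(pCore p X)) :=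
    (autQuot (frattini ↥(pCore p X))).comp MulAut.conjNormal
  have hρ : ∀ (x : X) (q : ↥(pCore p X)),
      ρ x (q : ↥(pCore p X) ⧸ frattini ↥(pCore p X)) =
        ((MulAut.conjNormal x q : ↥(pCore p X)) : ↥(pCore p X) ⧸ frattini ↥(pCore p X)) :=
    fun x q => rfl
  have hQker : pCore p X ≤ ρ.ker := by
    intro q₀ hq₀
    rw [MonoidHom.mem_ker]
    ext v
    induction v using QuotientGroup.induction_on with
    | H q =>
      rw [hρ, MulAut.one_apply, QuotientGroup.eq]
      have h1 : (MulAut.conjNormal q₀ q : ↥(pCore p X)) = ⟨q₀, hq₀⟩ * q * ⟨q₀, hq₀⟩⁻¹ := by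
        apply Subtype.ext
        simp [MulAut.conjNormal_apply]
      have h2 : (MulAut.conjNormal q₀ q : ↥(pCore p X))⁻¹ * q =
          ⁅(⟨q₀, hq₀⟩ : ↥(pCore p X)), q⁻¹⁆ := by
        rw [h1, commutatorElement_def]; group
      rw [h2]
      apply Helper75.Fratt.commutator_le_frattini hQ
      rw [commutator_def]
      exact Subgroup.commutator_mem_commutator (Subgroup.mem_top _) (Subgroup.mem_top _)
  have hkerQ : ρ.ker ≤ pCore p X := by
    have hK2 : IsPGroup p ↥ρ.ker := by
      by_contra hnot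
      have hcard : ∃ q : ℕ, q.Prime ∧ q ≠ p ∧ q ∣ Nat.card ↥ρ.ker := by
        by_contra hno
        push Not at hno
        apply hnot
        rw [IsPGroup.iff_card]
        exact ⟨_, Nat.eq_prime_pow_of_unique_prime_dvd Nat.card_pos.ne' (fun {d} hd hdvd => by
          by_contra hne; exact hno d hd hne hdvd)⟩
      obtain ⟨q, hq, hqp, hqdvd⟩ := hcard
      have : Fact q.Prime := ⟨hq⟩
      obtain ⟨⟨c, hcK⟩, hcord⟩ := exists_prime_orderOf_dvd_card' q hqdvd
      have hcord' : orderOf c = q := by rw [← hcord]; exact (Subgroup.orderOf_mk c hcK).symm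
      have hcq : c ^ q ^ 1 = 1 := by rw [pow_one, ← hcord']; exact pow_orderOf_eq_one c
      have hcent : c ∈ Subgroup.centralizer (pCore p X : Set X) := by
        apply Helper75.Fratt.mem_centralizer_of_frattini (p := p) (q := q) (Ne.symm hqp)
          (pCore p X) hQ c 1 hcq
        intro y hy
        have h1 : ρ c ((⟨y, hy⟩ : ↥(pCore p X)) : ↥(pCore p X) ⧸ frattini ↥(pCore p X)) =
            ((⟨y, hy⟩ : ↥(pCore p X)) : ↥(pCore p X) ⧸ frattini ↥(pCore p X)) := by
          rw [MonoidHom.mem_ker.mp hcK]; rfl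
        rw [hρ, QuotientGroup.eq_iff_div_mem] at h1
        refine ⟨_, h1, ?_⟩
        simp [div_eq_mul_inv, MulAut.conjNormal_apply]
      have hcQ : c ∈ pCore p X := centralizer_pCore_le p hc hO hcent
      obtain ⟨k, hk⟩ := hQ ⟨c, hcQ⟩
      have hk' : c ^ p ^ k = 1 := congrArg Subtype.val hk
      have hdvd : q ∣ p ^ k := by rw [← hcord']; exact orderOf_dvd_of_pow_eq_one hk'
      have := (Nat.prime_dvd_prime_iff_eq hq (Fact.out : p.Prime)).mp (hq.dvd_of_dvd_pow hdvd)
      exact hqp this
    exact Helper41.le_pCore _ hK2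
  refine ⟨QuotientGroup.lift (pCore p X) ρ hQker, ?_⟩
  rw [injective_iff_map_eq_one]
  intro a ha
  induction a using QuotientGroup.induction_on with
  | H x =>
    have hx : x ∈ ρ.ker := ha
    exact (QuotientGroup.eq_one_iff x).mpr (hkerQ hx)

/-- The Frattini quotient of a 2-group of sectional 2-rank at most `k` has order at most
`2 ^ k`. -/
theorem card_quot_frattini_le {Q : Type*} [Group Q] [Finite Q] (hQ : IsPGroup 2 Q) (k : ℕ)
    (h : SectionalPRankLE 2 k Q) : Nat.card (Q ⧸ frattini Q) ≤ 2 ^ k := by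
  let N : Subgroup ↥(⊤ : Subgroup Q) := (frattini Q).comap (⊤ : Subgroup Q).subtype
  have : N.Normal := inferInstanceAs (((frattini Q).comap (⊤ : Subgroup Q).subtype).Normal)
  have hsq : ∀ a : ↥(⊤ : Subgroup Q) ⧸ N, a ^ 2 = 1 := by
    intro a
    induction a using QuotientGroup.induction_on with
    | H t =>
      rw [← QuotientGroup.mk_pow, QuotientGroup.eq_one_iff]
      show ((t ^ 2 : ↥(⊤ : Subgroup Q)) : Q) ∈ frattini Q
      rw [Subgroup.coe_pow, pow_two]
      exact Helper94.sq_mem_frattini hQ _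
  have hcomm' : ∀ a b : ↥(⊤ : Subgroup Q) ⧸ N, a * b = b * a := by
    intro a b
    have ha : a⁻¹ = a := inv_eq_of_mul_eq_one_left (by rw [← pow_two]; exact hsq a)
    have hb : b⁻¹ = b := inv_eq_of_mul_eq_one_left (by rw [← pow_two]; exact hsq b)
    have hab : (a * b)⁻¹ = a * b := inv_eq_of_mul_eq_one_left (by rw [← pow_two]; exact hsq _)
    calc a * b = (a * b)⁻¹ := hab.symm
      _ = b⁻¹ * a⁻¹ := mul_inv_rev a b
      _ = b * a := by rw [ha, hb]
  have hcomm : IsMulCommutative (⊤ : Subgroup (↥(⊤ : Subgroup Q) ⧸ N)) :=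
    ⟨⟨fun a b => Subtype.ext (hcomm' a b)⟩⟩
  have h0 := h ⊤ N ⊤ hcomm (fun a _ => hsq a)
  have h1 : Nat.card ↥(⊤ : Subgroup (↥(⊤ : Subgroup Q) ⧸ N)) = Nat.card (Q ⧸ frattini Q) := by
    rw [Subgroup.card_top, ← Subgroup.index_eq_card, ← Subgroup.index_eq_card]
    exact Subgroup.index_comap_of_surjective _ (fun q => ⟨⟨q, Subgroup.mem_top q⟩, rfl⟩)
  rw [← h1]; exact h0

/-- Extending an automorphism by the identity on a second factor. -/
def prodLeftAut (V W : Type*) [Group V] [Group W] : MulAut V →* MulAut (V × W) where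
  toFun e := MulEquiv.prodCongr e (MulEquiv.refl W)
  map_one' := by ext x <;> rfl
  map_mul' e₁ e₂ := by ext x <;> rfl

theorem prodLeftAut_injective (V W : Type*) [Group V] [Group W] :
    Function.Injective (prodLeftAut V W) := by
  intro e₁ e₂ h
  ext v
  have := congrArg (fun e : MulAut (V × W) => (e (v, 1)).1) h
  exact this

/-- The linear map of `𝔽₂ⁿ` given by an automorphism of its multiplicative copy. -/
noncomputable def linOfAut (n : ℕ) (e : MulAut (Multiplicative (Fin n → ZMod 2))) :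
    (Fin n → ZMod 2) →ₗ[ZMod 2] (Fin n → ZMod 2) :=
  (AddMonoidHom.toMultiplicative.symm e.toMonoidHom).toZModLinearMap 2

theorem linOfAut_apply (n : ℕ) (e : MulAut (Multiplicative (Fin n → ZMod 2)))
    (a : Fin n → ZMod 2) :
    linOfAut n e a = Multiplicative.toAdd (e (Multiplicative.ofAdd a)) := rfl

/-- Automorphisms of the multiplicative copy of `𝔽₂ⁿ` as matrices. -/
noncomputable def autToMatrix (n : ℕ) :
    MulAut (Multiplicative (Fin n → ZMod 2)) →* Matrix (Fin n) (Fin n) (ZMod 2) where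
  toFun e := LinearMap.toMatrix' (linOfAut n e)
  map_one' := by
    rw [← LinearMap.toMatrix'_id]
    congr 1
  map_mul' e₁ e₂ := by
    rw [← LinearMap.toMatrix'_comp]
    congr 1

theorem autToMatrix_injective (n : ℕ) : Function.Injective (autToMatrix n) := by
  intro e₁ e₂ h
  have h1 : linOfAut n e₁ = linOfAut n e₂ := LinearMap.toMatrix'.injective h
  apply MulEquiv.ext
  intro x
  have h2 := LinearMap.congr_fun h1 (Multiplicative.toAdd x)
  rw [linOfAut_apply, linOfAut_apply] at h2
  exact Multiplicative.toAdd.injective h2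

/-- The automorphism group of an elementary abelian 2-group of order `2 ^ n` embeds in
`GL_n(2)`. -/
theorem exists_mulAut_to_GL_of_card (U : Type*) [Group U] [Finite U] (h2 : ∀ u : U, u * u = 1)
    (n : ℕ) (hcard : Nat.card U = 2 ^ n) :
    ∃ f : MulAut U →* GL (Fin n) (ZMod 2), Function.Injective f := by
  classical
  obtain ⟨m, κ, hκ, hadd⟩ := Helper94.exists_coords U h2
  have hm : m = n := by
    have h1 : Nat.card U = 2 ^ m := by
      rw [Nat.card_congr (Equiv.ofBijective κ hκ), Nat.card_fun, Nat.card_zmod, Nat.card_fin]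
    rw [hcard] at h1
    exact (Nat.pow_right_injective (le_refl 2) h1).symm
  subst hm
  let κm : U ≃* Multiplicative (Fin m → ZMod 2) :=
    { toEquiv := (Equiv.ofBijective κ hκ).trans Multiplicative.ofAdd
      map_mul' := fun u v => by
        show Multiplicative.ofAdd (κ (u * v)) = Multiplicative.ofAdd (κ u) * Multiplicative.ofAdd (κ v)
        rw [hadd, ofAdd_add] }
  refine ⟨(autToMatrix m).toHomUnits.comp (MulAut.congr κm).toMonoidHom, ?_⟩
  intro a b hab
  apply (MulAut.congr κm).injective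
  apply autToMatrix_injective
  have := congrArg (fun g : GL (Fin m) (ZMod 2) => (g : Matrix (Fin m) (Fin m) (ZMod 2))) hab
  exact this

/-- The automorphism group of an elementary abelian 2-group of order at most `2 ^ n` embeds in
`GL_n(2)`. -/
theorem exists_mulAut_to_GL (V : Type*) [Group V] [Finite V] (h2 : ∀ v : V, v * v = 1)
    (n : ℕ) (hcard : Nat.card V ≤ 2 ^ n) :
    ∃ f : MulAut V →* GL (Fin n) (ZMod 2), Function.Injective f := by
  classical
  obtain ⟨m, κ₀, hκ₀, -⟩ := Helper94.exists_coords V h2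
  have hVcard : Nat.card V = 2 ^ m := by
    rw [Nat.card_congr (Equiv.ofBijective κ₀ hκ₀), Nat.card_fun, Nat.card_zmod, Nat.card_fin]
  have hm : m ≤ n := by
    rw [hVcard] at hcard
    exact (Nat.pow_le_pow_iff_right (by norm_num)).mp hcard
  have hU2 : ∀ u : V × Multiplicative (Fin (n - m) → ZMod 2), u * u = 1 := by
    rintro ⟨v, w⟩
    refine Prod.ext (h2 v) ?_
    show w * w = 1
    apply Multiplicative.toAdd.injective
    rw [toAdd_mul, toAdd_one]
    funext i
    exact CharTwo.add_self_eq_zero _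
  have hUcard : Nat.card (V × Multiplicative (Fin (n - m) → ZMod 2)) = 2 ^ n := by
    rw [Nat.card_prod, hVcard, Nat.card_congr Multiplicative.toAdd, Nat.card_fun, Nat.card_zmod,
      Nat.card_fin, ← pow_add]
    congr 1
    omega
  obtain ⟨f, hf⟩ := exists_mulAut_to_GL_of_card _ hU2 n hUcard
  exact ⟨f.comp (prodLeftAut V _), hf.comp (prodLeftAut_injective V _)⟩

end Cfsg.Agent.Lib.Helper60
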