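import Mathlib

set_option autoImplicit false
set_option linter.unusedSectionVars false
set_option linter.style.haveILetI false

/-! Central extensions of exponent-2 type are determined by their squaring map (helper60). -/

namespace Cfsg.Agent.Lib.Helper60

/-- A subgroup of a commutative group of exponent 2 has a complement. -/
theorem exists_isCompl_of_sq_eq_one {Q : Type*} [CommGroup Q] (h2 : ∀ x : Q, x * x = 1)
    (S : Subgroup Q) : ∃ W : Subgroup Q, IsCompl S W := by
  haveI : Fact (Nat.Prime 2) := ⟨Nat.prime_two⟩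
  letI : Module (ZMod 2) (Additive Q) := AddCommGroup.zmodModule (n := 2) (by
    intro x
    rw [two_nsmul]
    exact congrArg Additive.ofMul (h2 (Additive.toMul x)))
  let f : Subgroup Q ≃o Submodule (ZMod 2) (Additive Q) :=
    Subgroup.toAddSubgroup.trans (AddSubgroup.toZModSubmodule 2)
  obtain ⟨W', hW'⟩ := exists_isCompl (f S)
  refine ⟨f.symm W', ?_⟩
  have h := f.symm.isCompl hW'
  rwa [OrderIso.symm_apply_apply] at h

/-- A group of exponent 2 is commutative. -/
theorem mul_comm_of_sq_eq_one' {Q : Type*} [Group Q] (h2 : ∀ x : Q, x * x = 1) (x y : Q) :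
    x * y = y * x := by
  have hinv : ∀ x : Q, x⁻¹ = x := fun x => inv_eq_of_mul_eq_one_left (h2 x)
  calc x * y = (x * y)⁻¹ := (hinv _).symm
    _ = y⁻¹ * x⁻¹ := mul_inv_rev _ _
    _ = y * x := by rw [hinv, hinv]

/-- Two central extensions with the same "squaring data" are isomorphic. -/
theorem iso_of_square_data {P T A : Type*} [Group P] [Group T] [AddCommGroup A]
    (a : P → A) (b : T → A) (ha_mul : ∀ x y, a (x * y) = a x + a y)
    (hb_mul : ∀ x y, b (x * y) = b x + b y)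
    (ha_surj : Function.Surjective a) (hb_surj : Function.Surjective b)
    (EP : Subgroup P) (haker : ∀ x, a x = 0 ↔ x ∈ EP) (hcP : EP ≤ Subgroup.center P)
    (γ : ↥EP →* T) (hγinj : Function.Injective γ) (hγb : ∀ t, b t = 0 ↔ ∃ e, γ e = t)
    (hcT : ∀ e, γ e ∈ Subgroup.center T)
    (hsq : ∀ g t, a g = b t → ∃ h : g * g ∈ EP, γ ⟨g * g, h⟩ = t * t) :
    Nonempty (P ≃* T) := by
  have ha1 : a 1 = 0 := by
    have h := ha_mul 1 1
    rw [mul_one] at h
    exact left_eq_add.mp h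
  have hb1 : b 1 = 0 := by
    have h := hb_mul 1 1
    rw [mul_one] at h
    exact left_eq_add.mp h
  have ha_inv : ∀ x, a x⁻¹ = -a x := by
    intro x
    have h := ha_mul x x⁻¹
    rw [mul_inv_cancel, ha1] at h
    exact eq_neg_of_add_eq_zero_right h.symm
  have hb_inv : ∀ x, b x⁻¹ = -b x := by
    intro x
    have h := hb_mul x x⁻¹
    rw [mul_inv_cancel, hb1] at h
    exact eq_neg_of_add_eq_zero_right h.symm
  have hbγ : ∀ e, b (γ e) = 0 := fun e => (hγb _).mpr ⟨e, rfl⟩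
  -- the fibre product
  let D : Subgroup (P × T) :=
    { carrier := {d | a d.1 = b d.2}
      mul_mem' := by
        intro x y hx hy
        show a (x.1 * y.1) = b (x.2 * y.2)
        rw [ha_mul, hb_mul, hx, hy]
      one_mem' := by
        show a 1 = b 1
        rw [ha1, hb1]
      inv_mem' := by
        intro x hx
        show a x.1⁻¹ = b x.2⁻¹
        rw [ha_inv, hb_inv, hx] }
  have hD : ∀ d : P × T, d ∈ D ↔ a d.1 = b d.2 := fun d => Iff.rfl
  -- the diagonal copy of the kernel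
  let Δ : Subgroup ↥D :=
    { carrier := {d | ∃ e : ↥EP, (d : P × T) = ((e : P), γ e)}
      mul_mem' := by
        rintro x y ⟨e, he⟩ ⟨e', he'⟩
        refine ⟨e * e', ?_⟩
        rw [Subgroup.coe_mul, he, he', map_mul]
        rfl
      one_mem' := ⟨1, by rw [map_one]; rfl⟩
      inv_mem' := by
        rintro x ⟨e, he⟩
        refine ⟨e⁻¹, ?_⟩
        rw [Subgroup.coe_inv, he, map_inv]
        rfl }
  have hΔ : ∀ d : ↥D, d ∈ Δ ↔ ∃ e : ↥EP, (d : P × T) = ((e : P), γ e) := fun d => Iff.rfl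
  have hΔcentral : ∀ n ∈ Δ, ∀ g : ↥D, g * n = n * g := by
    rintro n ⟨e, he⟩ g
    apply Subtype.ext
    rw [Subgroup.coe_mul, Subgroup.coe_mul, he]
    apply Prod.ext
    · exact (Subgroup.mem_center_iff.mp (hcP e.2) _)
    · exact (Subgroup.mem_center_iff.mp (hcT e) _)
  haveI hΔn : Δ.Normal := by
    constructor
    intro n hn g
    rw [hΔcentral n hn g, mul_inv_cancel_right]
    exact hn
  have hsqD : ∀ d : ↥D, d * d ∈ Δ := by
    intro d
    obtain ⟨h, hh⟩ := hsq d.1.1 d.1.2 d.2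
    refine ⟨⟨d.1.1 * d.1.1, h⟩, ?_⟩
    rw [hh]
    rfl
  have h2Q : ∀ x : ↥D ⧸ Δ, x * x = 1 := by
    intro x
    induction x using QuotientGroup.induction_on with
    | H d =>
      rw [← QuotientGroup.mk_mul, QuotientGroup.eq_one_iff]
      exact hsqD d
  letI : CommGroup (↥D ⧸ Δ) :=
    { (inferInstance : Group (↥D ⧸ Δ)) with mul_comm := mul_comm_of_sq_eq_one' h2Q }
  -- the image of the kernel of the second projection
  let Sk : Subgroup ↥D :=
    { carrier := {d | (d : P × T).2 = 1}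
      mul_mem' := by
        intro x y hx hy
        show (x : P × T).2 * (y : P × T).2 = 1
        rw [hx, hy, mul_one]
      one_mem' := rfl
      inv_mem' := by
        intro x hx
        show ((x : P × T).2)⁻¹ = 1
        rw [hx, inv_one] }
  have hSk : ∀ d : ↥D, d ∈ Sk ↔ (d : P × T).2 = 1 := fun d => Iff.rfl
  obtain ⟨W, hW⟩ := exists_isCompl_of_sq_eq_one h2Q (Sk.map (QuotientGroup.mk' Δ))
  let Wt : Subgroup ↥D := W.comap (QuotientGroup.mk' Δ)
  have hWt : ∀ d : ↥D, d ∈ Wt ↔ (QuotientGroup.mk' Δ d) ∈ W := fun d => Iff.rfl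
  have hΔW : ∀ d ∈ Δ, d ∈ Wt := by
    intro d hd
    rw [hWt]
    have : QuotientGroup.mk' Δ d = 1 := (QuotientGroup.eq_one_iff d).mpr hd
    rw [this]
    exact W.one_mem
  -- an element of `Sk ∩ Wt` is trivial
  have hSW : ∀ d : ↥D, d ∈ Sk → d ∈ Wt → d = 1 := by
    intro d hdS hdW
    have h1 : QuotientGroup.mk' Δ d ∈ Sk.map (QuotientGroup.mk' Δ) ⊓ W :=
      ⟨Subgroup.mem_map_of_mem _ hdS, hdW⟩
    rw [hW.inf_eq_bot, Subgroup.mem_bot] at h1
    have h3 : d ∈ Δ := (QuotientGroup.eq_one_iff d).mp h1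
    obtain ⟨e, he⟩ := h3
    have h4 : γ e = 1 := by
      have := congrArg Prod.snd he
      rw [(hSk d).mp hdS] at this
      exact this.symm
    have h5 : e = 1 := hγinj (by rw [h4, map_one])
    apply Subtype.ext
    rw [he, h5, map_one]
    rfl
  -- every element of `D` is a product of an element of `Sk` and an element of `Wt`
  have hsup : ∀ d : ↥D, ∃ s ∈ Sk, s⁻¹ * d ∈ Wt := by
    intro d
    have h1 : QuotientGroup.mk' Δ d ∈ Sk.map (QuotientGroup.mk' Δ) ⊔ W := by
      rw [hW.sup_eq_top]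
      exact Subgroup.mem_top _
    rw [Subgroup.mem_sup] at h1
    obtain ⟨y, hy, z, hz, hyz⟩ := h1
    obtain ⟨s, hs, rfl⟩ := Subgroup.mem_map.mp hy
    refine ⟨s, hs, ?_⟩
    rw [hWt, map_mul, map_inv, ← hyz, inv_mul_cancel_left]
    exact hz
  -- the two projections
  let p1 : ↥Wt →* P := ((MonoidHom.fst P T).comp D.subtype).comp Wt.subtype
  let p2 : ↥Wt →* T := ((MonoidHom.snd P T).comp D.subtype).comp Wt.subtype
  have hp1 : ∀ w : ↥Wt, p1 w = ((w : ↥D) : P × T).1 := fun w => rfl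
  have hp2 : ∀ w : ↥Wt, p2 w = ((w : ↥D) : P × T).2 := fun w => rfl
  have hp2inj : Function.Injective p2 := by
    rw [injective_iff_map_eq_one]
    intro w hw
    rw [hp2] at hw
    apply Subtype.ext
    exact hSW w.1 ((hSk _).mpr hw) w.2
  have hp2surj : Function.Surjective p2 := by
    intro t
    obtain ⟨g, hg⟩ := ha_surj (b t)
    let d : ↥D := ⟨(g, t), hg⟩
    obtain ⟨s, hs, hsd⟩ := hsup d
    refine ⟨⟨s⁻¹ * d, hsd⟩, ?_⟩
    rw [hp2]
    show ((s⁻¹ * d : ↥D) : P × T).2 = t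
    rw [Subgroup.coe_mul, Subgroup.coe_inv, Prod.snd_mul, Prod.snd_inv, (hSk s).mp hs, inv_one,
      one_mul]
  have hp1inj : Function.Injective p1 := by
    rw [injective_iff_map_eq_one]
    intro w hw
    rw [hp1] at hw
    -- the second coordinate lies in the kernel of `b`
    have hb0 : b ((w : ↥D) : P × T).2 = 0 := by
      have h := (w : ↥D).2
      rw [hD, hw, ha1] at h
      exact h.symm
    obtain ⟨e, he⟩ := (hγb _).mp hb0
    -- `δ = (e, γ e) ∈ Δ`
    have hδmem : ((e : P), γ e) ∈ D := by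
      rw [hD]
      show a (e : P) = b (γ e)
      rw [hbγ, (haker _).mpr e.2]
    let δ : ↥D := ⟨((e : P), γ e), hδmem⟩
    have hδ : δ ∈ Δ := ⟨e, rfl⟩
    have h1 : δ⁻¹ * (w : ↥D) ∈ Sk := by
      rw [hSk]
      show ((δ⁻¹ * (w : ↥D) : ↥D) : P × T).2 = 1
      rw [Subgroup.coe_mul, Subgroup.coe_inv, Prod.snd_mul, Prod.snd_inv, ← he]
      exact inv_mul_cancel _
    have h3 : δ⁻¹ * (w : ↥D) ∈ Wt := Wt.mul_mem (Wt.inv_mem (hΔW δ hδ)) w.2
    have h4 := hSW _ h1 h3
    have h5 : (w : ↥D) = δ := by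
      rw [← mul_right_inj δ⁻¹, h4, inv_mul_cancel]
    have h6 : (e : P) = 1 := by
      have h := congrArg (fun d : ↥D => (d : P × T).1) h5
      exact (hw.symm.trans h).symm
    have h7 : e = 1 := Subtype.ext h6
    apply Subtype.ext
    rw [h5]
    apply Subtype.ext
    show ((e : P), γ e) = 1
    rw [h7, map_one]
    rfl
  have hp1surj : Function.Surjective p1 := by
    intro g
    obtain ⟨t, ht⟩ := hb_surj (a g)
    let d : ↥D := ⟨(g, t), ht.symm⟩
    obtain ⟨s, hs, hsd⟩ := hsup d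
    -- `s = (e, 1)` with `e ∈ EP`
    have hs2 : ((s : ↥D) : P × T).2 = 1 := (hSk s).mp hs
    have hse : ((s : ↥D) : P × T).1 ∈ EP := by
      rw [← haker]
      have h := s.2
      rw [hD, hs2, hb1] at h
      exact h
    let e : ↥EP := ⟨_, hse⟩
    have hδmem : ((e : P), γ e) ∈ D := by
      rw [hD]
      show a (e : P) = b (γ e)
      rw [hbγ, (haker _).mpr e.2]
    let δ : ↥D := ⟨((e : P), γ e), hδmem⟩
    have hδ : δ ∈ Δ := ⟨e, rfl⟩
    refine ⟨⟨δ * (s⁻¹ * d), Wt.mul_mem (hΔW δ hδ) hsd⟩, ?_⟩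
    rw [hp1]
    show ((δ * (s⁻¹ * d) : ↥D) : P × T).1 = g
    rw [Subgroup.coe_mul, Subgroup.coe_mul, Subgroup.coe_inv, Prod.fst_mul, Prod.fst_mul,
      Prod.fst_inv]
    show ((s : ↥D) : P × T).1 * ((((s : ↥D) : P × T).1)⁻¹ * g) = g
    rw [mul_inv_cancel_left]
  exact ⟨(MulEquiv.ofBijective p1 ⟨hp1inj, hp1surj⟩).symm.trans
    (MulEquiv.ofBijective p2 ⟨hp2inj, hp2surj⟩)⟩

end Cfsg.Agent.Lib.Helper60
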