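import Mathlib
import Cfsg.Agent.Lib.Helper60.U3Base

set_option autoImplicit false
set_option linter.unusedSectionVars false
set_option linter.style.haveILetI false

/-! Structure of the group `U3 hF` (Sylow 2-subgroup of `PSU₃(q)`, `q` even) and of any group
isomorphic to it (helper60). -/

namespace Cfsg.Agent.Lib.Helper60

open Cfsg.Agent.Lib.Helper7
open scoped commutatorElement

section Struct

variable {F : Type*} [Field F] [Fintype F] {q : ℕ}

theorem U3_ext (hF : Fintype.card F = q ^ 2) {a b : ↥(U3 hF)} (hc : a.1.c = b.1.c)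
    (hu : a.1.u = b.1.u) : a = b :=
  Subtype.ext (Heis.ext hc hu)

theorem U3_mem (hF : Fintype.card F = q ^ 2) (a : ↥(U3 hF)) :
    a.1.u + a.1.u ^ q = a.1.c * a.1.c ^ q := a.2

theorem U3_mul_c (hF : Fintype.card F = q ^ 2) (a b : ↥(U3 hF)) : (a * b).1.c = a.1.c + b.1.c :=
  rfl

theorem U3_mul_u (hF : Fintype.card F = q ^ 2) (a b : ↥(U3 hF)) :
    (a * b).1.u = a.1.u + b.1.u + a.1.c * b.1.c ^ q := rfl

theorem U3_one_c (hF : Fintype.card F = q ^ 2) : (1 : ↥(U3 hF)).1.c = 0 := rfl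

theorem U3_one_u (hF : Fintype.card F = q ^ 2) : (1 : ↥(U3 hF)).1.u = 0 := rfl

theorem U3_inv_c (hF : Fintype.card F = q ^ 2) (a : ↥(U3 hF)) : (a⁻¹).1.c = -a.1.c := rfl

theorem U3_inv_u (hF : Fintype.card F = q ^ 2) (a : ↥(U3 hF)) :
    (a⁻¹).1.u = -a.1.u + a.1.c * a.1.c ^ q := rfl

theorem U3_exists_c (hF : Fintype.card F = q ^ 2) (c : F) : ∃ a : ↥(U3 hF), a.1.c = c := by
  obtain ⟨u, hu⟩ := trace_surj hF (c * c ^ q) (by
    have := herm_norm_fixed hF c
    rw [pow_succ'] at this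
    exact this)
  exact ⟨⟨⟨c, u⟩, hu⟩, rfl⟩

theorem U3_exists_zero (hF : Fintype.card F = q ^ 2) (h2 : (2 : F) = 0) (f : F) (hf : f ^ q = f) :
    ∃ a : ↥(U3 hF), a.1.c = 0 ∧ a.1.u = f := by
  refine ⟨⟨⟨0, f⟩, ?_⟩, rfl, rfl⟩
  show f + f ^ q = 0 * 0 ^ q
  rw [hf]
  linear_combination f * h2

theorem U3_fix_of_c_zero (hF : Fintype.card F = q ^ 2) (h2 : (2 : F) = 0) (a : ↥(U3 hF))
    (ha : a.1.c = 0) : a.1.u ^ q = a.1.u := by
  have h := U3_mem hF a
  rw [ha] at h
  linear_combination h - a.1.u * h2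

theorem U3_comm_iff (hF : Fintype.card F = q ^ 2) (a b : ↥(U3 hF)) :
    a * b = b * a ↔ a.1.c * b.1.c ^ q = b.1.c * a.1.c ^ q := by
  constructor
  · intro h
    have h1 := congrArg (fun x : ↥(U3 hF) => x.1.u) h
    simp only [U3_mul_u] at h1
    linear_combination h1
  · intro h
    apply U3_ext hF
    · rw [U3_mul_c, U3_mul_c, add_comm]
    · rw [U3_mul_u, U3_mul_u]
      linear_combination h

theorem U3_sq_c (hF : Fintype.card F = q ^ 2) (h2 : (2 : F) = 0) (a : ↥(U3 hF)) :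
    (a * a).1.c = 0 := by
  rw [U3_mul_c]
  linear_combination a.1.c * h2

theorem U3_sq_u (hF : Fintype.card F = q ^ 2) (h2 : (2 : F) = 0) (a : ↥(U3 hF)) :
    (a * a).1.u = a.1.c * a.1.c ^ q := by
  rw [U3_mul_u]
  linear_combination a.1.u * h2

theorem U3_eq_one_iff (hF : Fintype.card F = q ^ 2) (a : ↥(U3 hF)) :
    a = 1 ↔ a.1.c = 0 ∧ a.1.u = 0 := by
  constructor
  · rintro rfl
    exact ⟨rfl, rfl⟩
  · rintro ⟨h1, h2⟩
    exact U3_ext hF h1 h2

theorem U3_sq_eq_one_iff (hF : Fintype.card F = q ^ 2) (h2 : (2 : F) = 0) (a : ↥(U3 hF)) :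
    a * a = 1 ↔ a.1.c = 0 := by
  rw [U3_eq_one_iff, U3_sq_u hF h2]
  constructor
  · rintro ⟨-, h⟩
    rcases mul_eq_zero.mp h with h | h
    · exact h
    · exact pow_eq_zero_iff (herm_q_ne_zero hF) |>.mp h
  · intro h
    exact ⟨U3_sq_c hF h2 a, by rw [h, zero_mul]⟩

theorem U3_central_iff (hF : Fintype.card F = q ^ 2) (h2 : (2 : F) = 0) (a : ↥(U3 hF)) :
    (∀ b : ↥(U3 hF), b * a = a * b) ↔ a.1.c = 0 := by
  constructor
  · intro h
    obtain ⟨l, hl⟩ := Cfsg.Agent.Lib.Helper18.exists_trace_one hF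
    obtain ⟨b1, hb1⟩ := U3_exists_c hF (1 : F)
    obtain ⟨bl, hbl⟩ := U3_exists_c hF l
    have e1 := (U3_comm_iff hF b1 a).mp (h b1)
    have el := (U3_comm_iff hF bl a).mp (h bl)
    rw [hb1, one_mul, one_pow, mul_one] at e1
    rw [hbl] at el
    -- e1 : a.c ^ q = a.c ; el : l * a.c ^ q = a.c * l ^ q
    have h3 : a.1.c * (1 - 2 * l) = 0 := by
      linear_combination (-(a.1.c : F)) * hl - el + l * e1
    have h4 : (1 : F) - 2 * l = 1 := by rw [h2]; ring
    rw [h4, mul_one] at h3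
    exact h3
  · intro h b
    apply (U3_comm_iff hF b a).mpr
    rw [h]; simp [herm_q_ne_zero hF]

theorem neg_eq_self_of_two (h2 : (2 : F) = 0) (x : F) : -x = x := by
  linear_combination (-x) * h2

theorem U3_inv_c' (hF : Fintype.card F = q ^ 2) (h2 : (2 : F) = 0) (a : ↥(U3 hF)) :
    (a⁻¹).1.c = a.1.c := by
  rw [U3_inv_c, neg_eq_self_of_two h2]

theorem U3_inv_u' (hF : Fintype.card F = q ^ 2) (h2 : (2 : F) = 0) (a : ↥(U3 hF)) :
    (a⁻¹).1.u = a.1.u + a.1.c * a.1.c ^ q := by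
  rw [U3_inv_u, neg_eq_self_of_two h2]

theorem U3_commutator_c (hF : Fintype.card F = q ^ 2) (a b : ↥(U3 hF)) : (⁅a, b⁆).1.c = 0 := by
  rw [commutatorElement_def, U3_mul_c, U3_mul_c, U3_mul_c, U3_inv_c, U3_inv_c]
  ring

theorem U3_exists_commutator (hF : Fintype.card F = q ^ 2) (h2 : (2 : F) = 0) (z : ↥(U3 hF))
    (hz : z.1.c = 0) : ∃ a b : ↥(U3 hF), ⁅a, b⁆ = z := by
  have hfix := U3_fix_of_c_zero hF h2 z hz
  obtain ⟨c, hc⟩ := trace_surj hF z.1.u hfix
  obtain ⟨a, ha⟩ := U3_exists_c hF c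
  obtain ⟨b, hb⟩ := U3_exists_c hF (1 : F)
  refine ⟨a, b, U3_ext hF ?_ ?_⟩
  · rw [U3_commutator_c, hz]
  · rw [commutatorElement_def]
    simp only [U3_mul_u, U3_mul_c, U3_inv_u' hF h2, U3_inv_c' hF h2, ha, hb, one_pow]
    linear_combination hc + (a.1.u + b.1.u + c * c ^ q + 1 + c) * h2

/-! ### Groups isomorphic to `U3 hF` -/

variable {S : Type*} [Group S]

theorem equivU3_card (hF : Fintype.card F = q ^ 2) (h2 : (2 : F) = 0) (e : S ≃* ↥(U3 hF)) :
    Nat.card S = q ^ 3 := by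
  rw [Nat.card_congr e.toEquiv, card_U3 hF h2]

theorem equivU3_center_iff (hF : Fintype.card F = q ^ 2) (h2 : (2 : F) = 0) (e : S ≃* ↥(U3 hF))
    (x : S) : x ∈ Subgroup.center S ↔ (e x).1.c = 0 := by
  rw [Subgroup.mem_center_iff, ← U3_central_iff hF h2]
  constructor
  · intro h b
    have h1 := congrArg e (h (e.symm b))
    simpa using h1
  · intro h y
    apply e.injective
    rw [map_mul, map_mul]
    exact h (e y)

theorem equivU3_sq_eq_one_iff (hF : Fintype.card F = q ^ 2) (h2 : (2 : F) = 0)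
    (e : S ≃* ↥(U3 hF)) (x : S) : x * x = 1 ↔ (e x).1.c = 0 := by
  rw [← U3_sq_eq_one_iff hF h2, ← map_mul]
  constructor
  · intro h; rw [h, map_one]
  · intro h; exact e.injective (by rw [h, map_one])

theorem equivU3_sq_mem_center (hF : Fintype.card F = q ^ 2) (h2 : (2 : F) = 0)
    (e : S ≃* ↥(U3 hF)) (x : S) : x * x ∈ Subgroup.center S := by
  rw [equivU3_center_iff hF h2 e, map_mul]
  exact U3_sq_c hF h2 (e x)

theorem equivU3_center_eq_closure (hF : Fintype.card F = q ^ 2) (h2 : (2 : F) = 0)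
    (e : S ≃* ↥(U3 hF)) : Subgroup.center S = Subgroup.closure {x : S | orderOf x = 2} := by
  haveI : Fact (Nat.Prime 2) := ⟨Nat.prime_two⟩
  apply le_antisymm
  · intro x hx
    by_cases h1 : x = 1
    · rw [h1]; exact Subgroup.one_mem _
    · apply Subgroup.subset_closure
      have h3 : x * x = 1 :=
        (equivU3_sq_eq_one_iff hF h2 e x).mpr ((equivU3_center_iff hF h2 e x).mp hx)
      exact orderOf_eq_prime (by rw [pow_two]; exact h3) h1
  · rw [Subgroup.closure_le]
    intro x hx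
    have hx' : orderOf x = 2 := hx
    have h3 : x * x = 1 := by
      rw [← pow_two, ← hx']; exact pow_orderOf_eq_one x
    exact (equivU3_center_iff hF h2 e x).mpr ((equivU3_sq_eq_one_iff hF h2 e x).mp h3)

theorem equivU3_center_eq_commutator (hF : Fintype.card F = q ^ 2) (h2 : (2 : F) = 0)
    (e : S ≃* ↥(U3 hF)) : Subgroup.center S = commutator S := by
  apply le_antisymm
  · intro x hx
    obtain ⟨a, b, hab⟩ := U3_exists_commutator hF h2 (e x) ((equivU3_center_iff hF h2 e x).mp hx)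
    have hx' : x = ⁅e.symm a, e.symm b⁆ := by
      apply e.injective
      rw [map_commutatorElement]
      simp [hab]
    rw [hx', commutator_def]
    exact Subgroup.commutator_mem_commutator (Subgroup.mem_top _) (Subgroup.mem_top _)
  · rw [commutator_def, Subgroup.commutator_le]
    intro x _ y _
    rw [equivU3_center_iff hF h2 e, map_commutatorElement]
    exact U3_commutator_c hF _ _

theorem equivU3_card_center (hF : Fintype.card F = q ^ 2) (h2 : (2 : F) = 0)
    (e : S ≃* ↥(U3 hF)) : Nat.card ↥(Subgroup.center S) = q := by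
  rw [← card_Fixq hF h2]
  let f : ↥(Subgroup.center S) → Fixq F q := fun x =>
    ⟨(e x.1).1.u, U3_fix_of_c_zero hF h2 _ ((equivU3_center_iff hF h2 e x.1).mp x.2)⟩
  have hf : Function.Bijective f := by
    constructor
    · intro x y hxy
      have h1 : (e x.1).1.u = (e y.1).1.u := congrArg Subtype.val hxy
      have h3 : e x.1 = e y.1 := U3_ext hF
        (by rw [(equivU3_center_iff hF h2 e x.1).mp x.2, (equivU3_center_iff hF h2 e y.1).mp y.2])
        h1
      exact Subtype.ext (e.injective h3)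
    · intro g
      obtain ⟨a, ha0, hau⟩ := U3_exists_zero hF h2 g.1 g.2
      refine ⟨⟨e.symm a, ?_⟩, ?_⟩
      · rw [equivU3_center_iff hF h2 e]; simpa using ha0
      · apply Subtype.ext
        show (e (e.symm a)).1.u = g.1
        simpa using hau
  exact Nat.card_congr (Equiv.ofBijective f hf)

theorem equivU3_card_quot (hF : Fintype.card F = q ^ 2) (h2 : (2 : F) = 0)
    (e : S ≃* ↥(U3 hF)) : Nat.card (S ⧸ Subgroup.center S) = q ^ 2 := by
  have h1 := Subgroup.card_eq_card_quotient_mul_card_subgroup (Subgroup.center S)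
  rw [equivU3_card hF h2 e, equivU3_card_center hF h2 e] at h1
  have hq : 0 < q := Nat.pos_of_ne_zero (herm_q_ne_zero hF)
  have h3 : q ^ 2 * q = Nat.card (S ⧸ Subgroup.center S) * q := by rw [← h1]; ring
  exact (Nat.eq_of_mul_eq_mul_right hq h3).symm

theorem equivU3_quot_sq (hF : Fintype.card F = q ^ 2) (h2 : (2 : F) = 0)
    (e : S ≃* ↥(U3 hF)) (x : S ⧸ Subgroup.center S) : x ^ 2 = 1 := by
  induction x using QuotientGroup.induction_on with
  | H y =>
    rw [← QuotientGroup.mk_pow, QuotientGroup.eq_one_iff, pow_two]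
    exact equivU3_sq_mem_center hF h2 e y

theorem equivU3_center_exponent (hF : Fintype.card F = q ^ 2) (h2 : (2 : F) = 0)
    (e : S ≃* ↥(U3 hF)) : Monoid.exponent ↥(Subgroup.center S) = 2 := by
  have h1 : Monoid.exponent ↥(Subgroup.center S) ∣ 2 :=
    Monoid.exponent_dvd_of_forall_pow_eq_one (fun g => by
      apply Subtype.ext
      rw [Subgroup.coe_pow, pow_two]
      exact (equivU3_sq_eq_one_iff hF h2 e g.1).mpr ((equivU3_center_iff hF h2 e g.1).mp g.2))
  have h3 : Monoid.exponent ↥(Subgroup.center S) ≠ 1 := by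
    rw [Ne, Monoid.exp_eq_one_iff]
    intro hsub
    have h4 := equivU3_card_center hF h2 e
    rw [Nat.card_of_subsingleton (1 : ↥(Subgroup.center S))] at h4
    have := herm_two_le hF
    omega
  exact ((Nat.dvd_prime Nat.prime_two).mp h1).resolve_left h3

end Struct

end Cfsg.Agent.Lib.Helper60
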