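import Mathlib
import Cfsg.Prelude.Def_LieRecognition
import Cfsg.Agent.Lib.Helper60.U3Struct

set_option autoImplicit false
set_option linter.unusedSectionVars false
set_option linter.style.haveILetI false

/-! Groups isomorphic to `U3 hF` are Suzuki 2-groups (helper60). -/

namespace Cfsg.Agent.Lib.Helper60

open Cfsg.Agent.Lib.Helper7

section Suz

variable {F : Type*} [Field F] [Fintype F] {q : ℕ}

theorem sq_inj_of_two (h2 : (2 : F) = 0) {a b : F} (h : a ^ 2 = b ^ 2) : a = b := by
  have h1 : (a - b) ^ 2 = 0 := by linear_combination h + (b ^ 2 - a * b) * h2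
  exact sub_eq_zero.mp (pow_eq_zero_iff (by norm_num) |>.mp h1)

theorem exists_sqrt_of_two (h2 : (2 : F) = 0) (r : F) : ∃ x : F, x ^ 2 = r := by
  have hinj : Function.Injective (fun x : F => x ^ 2) := fun a b h => sq_inj_of_two h2 h
  exact (Finite.injective_iff_surjective.mp hinj) r

/-- The units fixed by the `q`-power map. -/
def fixUnits (F : Type*) [Field F] (q : ℕ) : Subgroup Fˣ where
  carrier := {x | (x : F) ^ q = x}
  mul_mem' := by
    intro a b ha hb
    show ((a * b : Fˣ) : F) ^ q = (a * b : Fˣ)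
    rw [Units.val_mul, mul_pow, ha, hb]
  one_mem' := by
    show ((1 : Fˣ) : F) ^ q = (1 : Fˣ)
    simp
  inv_mem' := by
    intro a ha
    show ((a⁻¹ : Fˣ) : F) ^ q = (a⁻¹ : Fˣ)
    rw [Units.val_inv_eq_inv_val, inv_pow, ha]

/-- Scaling `(c, u) ↦ (x c, x² u)` for `x` fixed by the `q`-power map. -/
def scaleHom (hF : Fintype.card F = q ^ 2) (x : F) (hx : x ^ q = x) : ↥(U3 hF) →* ↥(U3 hF) where
  toFun a := ⟨⟨x * a.1.c, x ^ 2 * a.1.u⟩, by
    have ha := U3_mem hF a
    show x ^ 2 * a.1.u + (x ^ 2 * a.1.u) ^ q = x * a.1.c * (x * a.1.c) ^ q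
    rw [mul_pow, mul_pow, ← pow_mul, mul_comm 2 q, pow_mul, hx]
    linear_combination x ^ 2 * ha⟩
  map_one' := by
    apply U3_ext hF
    · show x * (0 : F) = 0
      ring
    · show x ^ 2 * (0 : F) = 0
      ring
  map_mul' a b := by
    apply U3_ext hF
    · show x * (a.1.c + b.1.c) = x * a.1.c + x * b.1.c
      ring
    · show x ^ 2 * (a.1.u + b.1.u + a.1.c * b.1.c ^ q) =
        x ^ 2 * a.1.u + x ^ 2 * b.1.u + x * a.1.c * (x * b.1.c) ^ q
      rw [mul_pow, hx]
      ring

theorem scaleHom_c (hF : Fintype.card F = q ^ 2) (x : F) (hx : x ^ q = x) (a : ↥(U3 hF)) :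
    (scaleHom hF x hx a).1.c = x * a.1.c := rfl

theorem scaleHom_u (hF : Fintype.card F = q ^ 2) (x : F) (hx : x ^ q = x) (a : ↥(U3 hF)) :
    (scaleHom hF x hx a).1.u = x ^ 2 * a.1.u := rfl

/-- Scaling as an automorphism. -/
def scaleAut (hF : Fintype.card F = q ^ 2) (x : ↥(fixUnits F q)) : MulAut ↥(U3 hF) :=
  { scaleHom hF (x.1 : F) x.2 with
    invFun := scaleHom hF ((x⁻¹ : ↥(fixUnits F q)).1 : F) (x⁻¹).2
    left_inv := fun a => by
      apply U3_ext hF
      · show ((x⁻¹ : ↥(fixUnits F q)).1 : F) * ((x.1 : F) * a.1.c) = a.1.c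
        rw [← mul_assoc]
        have : ((x⁻¹ : ↥(fixUnits F q)).1 : F) * (x.1 : F) = 1 := by
          rw [Subgroup.coe_inv, ← Units.val_mul, inv_mul_cancel, Units.val_one]
        rw [this, one_mul]
      · show ((x⁻¹ : ↥(fixUnits F q)).1 : F) ^ 2 * ((x.1 : F) ^ 2 * a.1.u) = a.1.u
        rw [← mul_assoc, ← mul_pow]
        have : ((x⁻¹ : ↥(fixUnits F q)).1 : F) * (x.1 : F) = 1 := by
          rw [Subgroup.coe_inv, ← Units.val_mul, inv_mul_cancel, Units.val_one]
        rw [this, one_pow, one_mul]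
    right_inv := fun a => by
      apply U3_ext hF
      · show (x.1 : F) * (((x⁻¹ : ↥(fixUnits F q)).1 : F) * a.1.c) = a.1.c
        rw [← mul_assoc]
        have : (x.1 : F) * ((x⁻¹ : ↥(fixUnits F q)).1 : F) = 1 := by
          rw [Subgroup.coe_inv, ← Units.val_mul, mul_inv_cancel, Units.val_one]
        rw [this, one_mul]
      · show (x.1 : F) ^ 2 * (((x⁻¹ : ↥(fixUnits F q)).1 : F) ^ 2 * a.1.u) = a.1.u
        rw [← mul_assoc, ← mul_pow]
        have : (x.1 : F) * ((x⁻¹ : ↥(fixUnits F q)).1 : F) = 1 := by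
          rw [Subgroup.coe_inv, ← Units.val_mul, mul_inv_cancel, Units.val_one]
        rw [this, one_pow, one_mul] }

theorem scaleAut_c (hF : Fintype.card F = q ^ 2) (x : ↥(fixUnits F q)) (a : ↥(U3 hF)) :
    (scaleAut hF x a).1.c = (x.1 : F) * a.1.c := rfl

theorem scaleAut_u (hF : Fintype.card F = q ^ 2) (x : ↥(fixUnits F q)) (a : ↥(U3 hF)) :
    (scaleAut hF x a).1.u = (x.1 : F) ^ 2 * a.1.u := rfl

/-- Scaling as a homomorphism from the fixed units to the automorphism group. -/
def scaleAutHom (hF : Fintype.card F = q ^ 2) : ↥(fixUnits F q) →* MulAut ↥(U3 hF) where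
  toFun := scaleAut hF
  map_one' := by
    apply MulEquiv.ext
    intro a
    apply U3_ext hF
    · rw [scaleAut_c]; simp
    · rw [scaleAut_u]; simp
  map_mul' x y := by
    apply MulEquiv.ext
    intro a
    apply U3_ext hF
    · rw [MulAut.mul_apply, scaleAut_c, scaleAut_c, scaleAut_c, Subgroup.coe_mul, Units.val_mul,
        mul_assoc]
    · rw [MulAut.mul_apply, scaleAut_u, scaleAut_u, scaleAut_u, Subgroup.coe_mul, Units.val_mul,
        mul_pow, mul_assoc]

theorem exists_two_ne_one {G : Type*} [Group G] [Finite G] (h : 3 ≤ Nat.card G) :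
    ∃ x y : G, x ≠ y ∧ x ≠ 1 ∧ y ≠ 1 := by
  classical
  haveI := Fintype.ofFinite G
  rw [Nat.card_eq_fintype_card] at h
  obtain ⟨a, b, c, hab, hac, hbc⟩ := Fintype.two_lt_card_iff.mp (by omega : 2 < Fintype.card G)
  by_cases ha : a = 1
  · exact ⟨b, c, hbc, fun hb => hab (ha.trans hb.symm), fun hc => hac (ha.trans hc.symm)⟩
  · by_cases hb : b = 1
    · exact ⟨a, c, hac, ha, fun hc => hbc (hb.trans hc.symm)⟩
    · exact ⟨a, b, hab, ha, hb⟩

/-- A finite 2-group isomorphic to `U3 hF`, `q ≥ 3`, is a Suzuki 2-group. -/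
theorem equivU3_isSuzuki (hF : Fintype.card F = q ^ 2) (h2 : (2 : F) = 0) (hq : 3 ≤ q)
    {S : Type*} [Group S] [Finite S] (hS : IsPGroup 2 S) (e : S ≃* ↥(U3 hF)) :
    Cfsg.IsSuzukiTwoGroup S := by
  classical
  refine ⟨inferInstance, hS, ?_, ?_, ?_⟩
  · obtain ⟨l, hl⟩ := Cfsg.Agent.Lib.Helper18.exists_trace_one hF
    obtain ⟨a, ha⟩ := U3_exists_c hF (1 : F)
    obtain ⟨b, hb⟩ := U3_exists_c hF l
    refine ⟨e.symm a, e.symm b, ?_⟩
    intro h
    have h1 : a * b = b * a := by
      have := congrArg e h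
      simpa using this
    have h3 := (U3_comm_iff hF a b).mp h1
    rw [ha, hb, one_mul, one_pow, mul_one] at h3
    have : (1 : F) = 0 := by linear_combination (-1 : F) * hl + h3 + l * h2
    exact one_ne_zero this
  · have hc := equivU3_card_center hF h2 e
    obtain ⟨x, y, hxy, hx1, hy1⟩ := exists_two_ne_one (G := ↥(Subgroup.center S)) (by omega)
    have hsq : ∀ z : ↥(Subgroup.center S), z.1 * z.1 = 1 := fun z =>
      (equivU3_sq_eq_one_iff hF h2 e z.1).mpr ((equivU3_center_iff hF h2 e z.1).mp z.2)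
    refine ⟨x.1, y.1, fun h => hxy (Subtype.ext h), fun h => hx1 (Subtype.ext h), hsq x,
      fun h => hy1 (Subtype.ext h), hsq y⟩
  · let Ψ : ↥(fixUnits F q) →* MulAut S :=
      (MulAut.congr e.symm).toMonoidHom.comp (scaleAutHom hF)
    have hΨ : ∀ (x : ↥(fixUnits F q)) (s : S), e (Ψ x s) = scaleAut hF x (e s) := by
      intro x s
      show e (e.symm (scaleAut hF x (e.symm.symm s))) = _
      simp
    refine ⟨Ψ.range, ?_, ?_⟩
    · exact isCyclic_of_surjective Ψ.rangeRestrict Ψ.rangeRestrict_surjective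
    · intro x y hx1 hxx hy1 hyy
      have hxc := (equivU3_sq_eq_one_iff hF h2 e x).mp hxx
      have hyc := (equivU3_sq_eq_one_iff hF h2 e y).mp hyy
      have hxu : (e x).1.u ≠ 0 := by
        intro h0
        apply hx1
        apply e.injective
        rw [map_one]
        exact U3_ext hF hxc h0
      have hyu : (e y).1.u ≠ 0 := by
        intro h0
        apply hy1
        apply e.injective
        rw [map_one]
        exact U3_ext hF hyc h0
      have hxfix := U3_fix_of_c_zero hF h2 _ hxc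
      have hyfix := U3_fix_of_c_zero hF h2 _ hyc
      obtain ⟨r, hr⟩ := exists_sqrt_of_two h2 ((e y).1.u / (e x).1.u)
      have hr0 : r ≠ 0 := by
        rintro rfl
        rw [zero_pow two_ne_zero] at hr
        exact (div_ne_zero hyu hxu) hr.symm
      have hrfix : r ^ q = r := by
        apply sq_inj_of_two h2
        rw [← pow_mul, mul_comm, pow_mul, hr, div_pow, hyfix, hxfix]
      let xr : ↥(fixUnits F q) := ⟨Units.mk0 r hr0, hrfix⟩
      have key : ∀ z : ↥(fixUnits F q),
          (Ψ z) x = y ↔ (z.1 : F) ^ 2 * (e x).1.u = (e y).1.u := by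
        intro z
        constructor
        · intro h
          have h4 := congrArg (fun s => (e s).1.u) h
          simp only [hΨ, scaleAut_u] at h4
          exact h4
        · intro h
          apply e.injective
          rw [hΨ]
          apply U3_ext hF
          · rw [scaleAut_c, hxc, hyc, mul_zero]
          · rw [scaleAut_u]; exact h
      have hxr : (Ψ xr) x = y := by
        rw [key]
        show r ^ 2 * (e x).1.u = (e y).1.u
        rw [hr]
        field_simp
      refine ⟨⟨Ψ xr, xr, rfl⟩, hxr, ?_⟩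
      rintro ⟨k, z, rfl⟩ hk
      have hk' : (Ψ z) x = y := hk
      rw [key] at hk'
      have hz : (z.1 : F) = r := by
        apply sq_inj_of_two h2
        have h5 : (z.1 : F) ^ 2 * (e x).1.u = r ^ 2 * (e x).1.u := by
          rw [hk', hr]
          field_simp
        exact mul_right_cancel₀ hxu h5
      have hz' : z = xr := Subtype.ext (Units.ext hz)
      apply Subtype.ext
      show Ψ z = Ψ xr
      rw [hz']

end Suz

end Cfsg.Agent.Lib.Helper60
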