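import Mathlib

/-!
# Project RC (helper48, S1152), piece RC-SYL (helper60)

The Sylow 2-subgroups of `G` are elementary abelian of order 8 when `C_G(J) ≃* Z₂ × P` with the
Sylow 2-subgroups of `P` four-groups.
-/

set_option autoImplicit false

namespace Cfsg.Agent.Lib.Helper48.RC

/-- a 2-element squares to one when the Sylow 2-subgroups are four-groups -/
theorem RCSYL_sq_one {P : Type*} [Group P] [Finite P]
    (hP : ∀ Q : Sylow 2 P, IsKleinFour (Q : Subgroup P)) (p : P)
    (hp : ∃ k : ℕ, p ^ (2 ^ k) = 1) : p * p = 1 := by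
  have hp2 : Fact (Nat.Prime 2) := ⟨Nat.prime_two⟩
  obtain ⟨k, hk⟩ := hp
  obtain ⟨j, -, hj⟩ := (Nat.dvd_prime_pow Nat.prime_two).mp (orderOf_dvd_of_pow_eq_one hk)
  have hpg : IsPGroup 2 (Subgroup.zpowers p) :=
    IsPGroup.of_card (n := j) (by rw [Nat.card_zpowers, hj])
  obtain ⟨Q, hQ⟩ := hpg.exists_le_sylow
  have hpQ : p ∈ (Q : Subgroup P) := hQ (Subgroup.mem_zpowers p)
  have hK := hP Q
  have h2 : (⟨p, hpQ⟩ : (Q : Subgroup P)) ^ 2 = 1 := by
    have h3 := Monoid.pow_exponent_eq_one (⟨p, hpQ⟩ : (Q : Subgroup P))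
    rwa [hK.exponent_two] at h3
  have h3 : p ^ 2 = 1 := congrArg Subtype.val h2
  rw [← pow_two]
  exact h3

theorem RCSYL_z2 : ∀ a : Multiplicative (ZMod 2), a * a = 1 := by
  decide

-- piece RC-SYL
theorem sylow_two_of_centralizer {G P : Type*} [Group G] [Finite G] [Group P] [Finite P] (J : G)
    (e : Subgroup.centralizer {J} ≃* Multiplicative (ZMod 2) × P)
    (hP : ∀ Q : Sylow 2 P, IsKleinFour (Q : Subgroup P))
    (hG : (Nat.card G).factorization 2 = 3)
    (hC : 8 ∣ Nat.card (Subgroup.centralizer {J})) :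
    ∀ S : Sylow 2 G, Nat.card S = 8 ∧ ∀ x ∈ S, x * x = 1 := by
  classical
  have hp2 : Fact (Nat.Prime 2) := ⟨Nat.prime_two⟩
  intro S
  have hScard : Nat.card S = 8 := by
    rw [Sylow.card_eq_multiplicity, hG]
    norm_num
  refine ⟨hScard, ?_⟩
  -- 2-elements of the centralizer square to one
  have hCsq : ∀ y : Subgroup.centralizer ({J} : Set G), (∃ k : ℕ, y ^ (2 ^ k) = 1) →
      y * y = 1 := by
    rintro y ⟨k, hk⟩
    have h1 : (e y).2 * (e y).2 = 1 := by
      apply RCSYL_sq_one hP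
      refine ⟨k, ?_⟩
      have h3 : e (y ^ (2 ^ k)) = 1 := by rw [hk, map_one]
      rw [map_pow] at h3
      exact congrArg Prod.snd h3
    have h2 : (e y).1 * (e y).1 = 1 := RCSYL_z2 _
    apply e.injective
    rw [map_mul, map_one]
    exact Prod.ext h2 h1
  -- a Sylow 2-subgroup of the centralizer
  obtain ⟨S0⟩ : Nonempty (Sylow 2 (Subgroup.centralizer ({J} : Set G))) := inferInstance
  have hC0 : Nat.card (Subgroup.centralizer ({J} : Set G)) ≠ 0 := Nat.card_pos.ne'
  have hG0 : Nat.card G ≠ 0 := Nat.card_pos.ne'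
  have hv : (Nat.card (Subgroup.centralizer ({J} : Set G))).factorization 2 = 3 := by
    apply le_antisymm
    · rw [← hG]
      exact (Nat.factorization_le_iff_dvd hC0 hG0).mpr (Subgroup.card_subgroup_dvd_card _) 2
    · exact (Nat.Prime.pow_dvd_iff_le_factorization Nat.prime_two hC0).mp hC
  have hS0card : Nat.card S0 = 8 := by
    rw [Sylow.card_eq_multiplicity, hv]
    norm_num
  have hS0'card : Nat.card ((S0 : Subgroup (Subgroup.centralizer ({J} : Set G))).map
      (Subgroup.centralizer ({J} : Set G)).subtype) = 8 := by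
    rw [Subgroup.card_map_of_injective (Subgroup.subtype_injective _)]
    exact hS0card
  have hS0'p : IsPGroup 2 ((S0 : Subgroup (Subgroup.centralizer ({J} : Set G))).map
      (Subgroup.centralizer ({J} : Set G)).subtype) :=
    IsPGroup.of_card (n := 3) (by rw [hS0'card]; norm_num)
  obtain ⟨Q, hQ⟩ := hS0'p.exists_le_sylow
  have hQcard : Nat.card Q = 8 := by
    rw [Sylow.card_eq_multiplicity, hG]
    norm_num
  have hQeq : (S0 : Subgroup (Subgroup.centralizer ({J} : Set G))).map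
      (Subgroup.centralizer ({J} : Set G)).subtype = (Q : Subgroup G) :=
    Subgroup.eq_of_le_of_card_ge hQ (by rw [hS0'card]; exact hQcard.le)
  obtain ⟨g, hg⟩ := MulAction.exists_smul_eq G Q S
  intro x hx
  have hx' : x ∈ ((g • Q : Sylow 2 G) : Subgroup G) := by
    rw [hg]
    exact hx
  rw [Sylow.smul_def, Sylow.pointwise_smul_def, Subgroup.mem_smul_pointwise_iff_exists] at hx'
  obtain ⟨y, hyQ, rfl⟩ := hx'
  rw [← hQeq] at hyQ
  obtain ⟨c, hcS0, rfl⟩ := hyQ
  have hc2 : c * c = 1 := by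
    apply hCsq c
    obtain ⟨k, hk⟩ := S0.isPGroup' ⟨c, hcS0⟩
    exact ⟨k, congrArg Subtype.val hk⟩
  have h3 : (c : G) * (c : G) = 1 := congrArg Subtype.val hc2
  simp only [MulAut.smul_def, MulAut.conj_apply]
  calc g * (Subgroup.centralizer ({J} : Set G)).subtype c * g⁻¹ *
        (g * (Subgroup.centralizer ({J} : Set G)).subtype c * g⁻¹)
      = g * ((c : G) * (c : G)) * g⁻¹ := by
        simp only [Subgroup.coe_subtype]
        group
    _ = 1 := by rw [h3]; group

end Cfsg.Agent.Lib.Helper48.RC
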