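import Cfsg.Agent.Lib.Helper15.BG13CDefs
import Cfsg.Agent.S0126

/-!
# B&G Corollary 13.3(b) (row S1428), piece C-C0CYC (helper15's project)

Inside an abelian `q`-group `Q ≤ H` (`q` odd, `H` of `q`-rank at most two), a subgroup `C₀`
meeting a non-trivial subgroup `Q₁` trivially is cyclic.
-/

set_option autoImplicit false

open Cfsg

namespace Cfsg.Agent.Lib.Helper15.BG13C

universe u

/-- core of C0CYC -/
theorem c0cyc_core {G : Type u} [Group G] [Finite G] (hodd : Odd (Nat.card G)) (q : ℕ)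
    [Fact q.Prime] (H Q C₀ Q₁ : Subgroup G) (hQH : Q ≤ H) (hrk : PRankLE q 2 H)
    (hQp : IsPGroup q Q) (hQc : IsMulCommutative Q) (hC : C₀ ≤ Q) (hQ1 : Q₁ ≤ Q)
    (hinf : C₀ ⊓ Q₁ = ⊥) (hne : Q₁ ≠ ⊥) : IsCyclic C₀ := by
  have hq : q.Prime := Fact.out
  by_contra hnc
  have hQcomm : ∀ a ∈ Q, ∀ b ∈ Q, a * b = b * a := by
    intro a ha b hb
    have h1 := hQc.is_comm.comm (⟨a, ha⟩ : Q) ⟨b, hb⟩
    exact congrArg Subtype.val h1
  -- an element of order `q` in `Q₁`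
  have hQ1p : IsPGroup q Q₁ := hQp.to_le hQ1
  have hQ1nt : Nontrivial Q₁ := (Subgroup.nontrivial_iff_ne_bot Q₁).mpr hne
  obtain ⟨k, hk⟩ := IsPGroup.iff_card.mp hQ1p
  have hk0 : k ≠ 0 := by
    intro h0
    rw [h0, pow_zero] at hk
    have h1 := Finite.one_lt_card (α := Q₁)
    omega
  have hqdvd : q ∣ Nat.card Q₁ := by rw [hk]; exact dvd_pow_self q hk0
  obtain ⟨x, hx⟩ := exists_prime_orderOf_dvd_card' q hqdvd
  have hq2 : q ≠ 2 := by
    intro h2
    have h1 : q ∣ Nat.card G := hqdvd.trans (Subgroup.card_subgroup_dvd_card Q₁)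
    rw [h2] at h1
    exact (Nat.not_even_iff_odd.mpr hodd) (even_iff_two_dvd.mpr h1)
  -- an elementary abelian subgroup of order `q ^ 2` of `C₀`
  have hCp : IsPGroup q C₀ := hQp.to_le hC
  obtain ⟨A, -, hAe, hAc⟩ := Cfsg.Agent.S0126.result hq2 hCp hnc
  set A' : Subgroup G := A.map C₀.subtype with hA'
  have hA'C : A' ≤ C₀ := Subgroup.map_subtype_le A
  have hA'card : Nat.card A' = q ^ 2 := by
    rw [hA', ← hAc]
    exact Nat.card_congr (Subgroup.equivMapOfInjective A C₀.subtype C₀.subtype_injective).symm.toEquiv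
  have hA'exp : ∀ a ∈ A', a ^ q = 1 := by
    rintro _ ⟨a, ha, rfl⟩
    have h1 := hAe.2 a ha
    rw [← map_pow, h1, map_one]
  have hxQ : (x : G) ∈ Q := hQ1 x.2
  have hxq : (x : G) ^ q = 1 := by
    have h1 := pow_orderOf_eq_one x
    rw [hx] at h1
    have h2 := congrArg Subtype.val h1
    simpa using h2
  set E : Subgroup G := A' ⊔ Subgroup.zpowers (x : G) with hE
  have hEQ : E ≤ Q := sup_le (hA'C.trans hC) ((Subgroup.zpowers_le).mpr hxQ)
  have hEc : ∀ a ∈ E, ∀ b ∈ E, a * b = b * a := fun a ha b hb => hQcomm a (hEQ ha) b (hEQ hb)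
  have hEp : ∀ a ∈ E, a ^ q = 1 := by
    let Ω : Subgroup G :=
      { carrier := {a | a ∈ Q ∧ a ^ q = 1}
        mul_mem' := by
          rintro a b ⟨ha, ha'⟩ ⟨hb, hb'⟩
          refine ⟨Q.mul_mem ha hb, ?_⟩
          have hab : Commute a b := hQcomm a ha b hb
          rw [hab.mul_pow, ha', hb', one_mul]
        one_mem' := ⟨Q.one_mem, one_pow q⟩
        inv_mem' := by
          rintro a ⟨ha, ha'⟩
          exact ⟨Q.inv_mem ha, by rw [inv_pow, ha', inv_one]⟩ }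
    have hle : E ≤ Ω :=
      sup_le (fun a ha => ⟨(hA'C.trans hC) ha, hA'exp a ha⟩)
        ((Subgroup.zpowers_le).mpr ⟨hxQ, hxq⟩)
    exact fun a ha => (hle ha).2
  have hne' : A' ≠ E := by
    intro heq
    have hxA : (x : G) ∈ A' := by
      rw [heq]
      exact (le_sup_right : Subgroup.zpowers (x : G) ≤ E) (Subgroup.mem_zpowers _)
    have hxbot : (x : G) ∈ C₀ ⊓ Q₁ := ⟨hA'C hxA, x.2⟩
    rw [hinf, Subgroup.mem_bot] at hxbot
    have h1 : x = 1 := Subtype.ext hxbot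
    rw [h1, orderOf_one] at hx
    exact hq.one_lt.ne hx
  have hcard : q ^ 2 < Nat.card E := by
    by_contra hle
    push Not at hle
    rw [← hA'card] at hle
    exact hne' (Subgroup.eq_of_le_of_card_ge le_sup_left hle)
  -- contradiction with the rank bound
  have h1 := hrk (E.subgroupOf H) ⟨⟨?_⟩⟩ ?_
  · rw [Nat.card_congr (Subgroup.subgroupOfEquivOfLe (hEQ.trans hQH)).toEquiv] at h1
    omega
  · rintro ⟨a, ha⟩ ⟨b, hb⟩
    rw [Subgroup.mem_subgroupOf] at ha hb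
    exact Subtype.ext (Subtype.ext (hEc _ ha _ hb))
  · intro a ha
    rw [Subgroup.mem_subgroupOf] at ha
    exact Subtype.ext (hEp _ ha)

variable {G : Type u} [Group G] [Finite G]

/-- C0CYC -/
theorem c0cyc : C0CycStmt G := by
  intro hG q _ H Q C₀ Q₁ hQH hrk hQp hQc hC hQ1 hinf hne
  exact c0cyc_core hG.1 q H Q C₀ Q₁ hQH hrk hQp hQc hC hQ1 hinf hne

end Cfsg.Agent.Lib.Helper15.BG13C
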