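import Mathlib
import Cfsg.Agent.Lib.Helper1.Hall
import Cfsg.Agent.Lib.Helper13.Basic

set_option autoImplicit false
set_option linter.unusedSimpArgs false
set_option linter.unusedVariables false
set_option linter.unusedSectionVars false
set_option linter.style.haveILetI false

namespace Cfsg.Agent.Lib.Helper60.BG

universe u

/-- an injective self-map of a finite set whose `q`-th iterate is the identity, with `q` coprime
to the factorial of the size, is the identity -/
theorem perm_trick {α : Type*} [Finite α] (f : α → α) (hinj : Function.Injective f) (q : ℕ)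
    (hq : Nat.Coprime q (Nat.card α).factorial) (hf : ∀ a, f^[q] a = a) : ∀ a, f a = a := by
  classical
  let σ : Equiv.Perm α := Equiv.ofBijective f (Finite.injective_iff_bijective.mp hinj)
  have hσ : ⇑σ = f := rfl
  have h1 : σ ^ q = 1 := by
    ext a
    rw [Equiv.Perm.coe_pow, hσ, hf]
    rfl
  have hd1 : orderOf σ ∣ q := orderOf_dvd_of_pow_eq_one h1
  have hd2 : orderOf σ ∣ (Nat.card α).factorial := by
    have := orderOf_dvd_natCard σ
    rwa [Nat.card_perm] at this
  have h2 : orderOf σ = 1 := Nat.eq_one_of_dvd_coprimes hq hd1 hd2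
  have h3 : σ = 1 := orderOf_eq_one_iff.mp h2
  intro a
  rw [← hσ, h3]
  rfl

/-- group-theoretic extraction: a minimal normal subgroup of a Hall `{5,13}`-subgroup -/
theorem extract {G : Type u} [Group G] [Finite G] (Γ : Subgroup G) (hsol : Group.IsSolvable ↥Γ)
    (h5 : 5 ∣ Nat.card ↥Γ) (h13 : 13 ∣ Nat.card ↥Γ) :
    ∃ (M : Subgroup G) (l : ℕ) (x5 x13 : G), M ≠ ⊥ ∧ (l = 5 ∨ l = 13) ∧ IsPGroup l ↥M ∧
      (∀ x ∈ M, x ^ l = 1) ∧ orderOf x5 = 5 ∧ orderOf x13 = 13 ∧
      (∀ x ∈ M, x5 * x * x5⁻¹ ∈ M) ∧ (∀ x ∈ M, x5⁻¹ * x * x5 ∈ M) ∧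
      (∀ x ∈ M, x13 * x * x13⁻¹ ∈ M) ∧ (∀ x ∈ M, x13⁻¹ * x * x13 ∈ M) := by
  classical
  have hn0 : Nat.card ↥Γ ≠ 0 := Nat.card_pos.ne'
  obtain ⟨a, n₁, h5n₁, hn⟩ := Nat.exists_eq_pow_mul_and_not_dvd hn0 5 (by norm_num)
  have hn₁0 : n₁ ≠ 0 := by
    rintro rfl
    simp at hn
    exact hn0 hn
  obtain ⟨b, r, h13r, hn₁⟩ := Nat.exists_eq_pow_mul_and_not_dvd hn₁0 13 (by norm_num)
  have h5r : ¬ 5 ∣ r := fun h => h5n₁ (hn₁ ▸ Dvd.dvd.mul_left h _)
  have ha : a ≠ 0 := by
    rintro rfl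
    rw [pow_zero, one_mul] at hn
    exact h5n₁ (hn ▸ h5)
  have hb : b ≠ 0 := by
    rintro rfl
    rw [pow_zero, one_mul] at hn₁
    rw [hn] at h13
    rcases (Nat.Prime.dvd_mul (by norm_num : Nat.Prime 13)).mp h13 with h | h
    · have := (Nat.Prime.dvd_of_dvd_pow (by norm_num : Nat.Prime 13) h)
      norm_num at this
    · exact h13r (hn₁ ▸ h)
  have hcard : Nat.card ↥Γ = (5 ^ a * 13 ^ b) * r := by
    rw [hn, hn₁]; ring
  have hcop : (5 ^ a * 13 ^ b).Coprime r := by
    apply Nat.Coprime.mul_left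
    · exact Nat.Coprime.pow_left _ ((Nat.Prime.coprime_iff_not_dvd (by norm_num)).mpr h5r)
    · exact Nat.Coprime.pow_left _ ((Nat.Prime.coprime_iff_not_dvd (by norm_num)).mpr h13r)
  obtain ⟨H, hH⟩ := Cfsg.Agent.Lib.Helper1.hall_exists (G := ↥Γ) _ _ hcard hcop
  have h5H : 5 ∣ Nat.card ↥H := by
    rw [hH]
    exact Dvd.dvd.mul_right (dvd_pow_self 5 ha) _
  have h13H : 13 ∣ Nat.card ↥H := by
    rw [hH]
    exact Dvd.dvd.mul_left (dvd_pow_self 13 hb) _
  haveI : Fact (Nat.Prime 5) := ⟨by norm_num⟩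
  haveI : Fact (Nat.Prime 13) := ⟨by norm_num⟩
  obtain ⟨y5, hy5⟩ := exists_prime_orderOf_dvd_card' (G := ↥H) 5 h5H
  obtain ⟨y13, hy13⟩ := exists_prime_orderOf_dvd_card' (G := ↥H) 13 h13H
  have htop : (⊤ : Subgroup ↥H) ≠ ⊥ := by
    intro h
    have h1 : y5 = 1 := by
      have : y5 ∈ (⊤ : Subgroup ↥H) := Subgroup.mem_top _
      rw [h, Subgroup.mem_bot] at this
      exact this
    rw [h1, orderOf_one] at hy5
    norm_num at hy5
  obtain ⟨N, -, hNn, hN, hmin⟩ :=
    Cfsg.Agent.Lib.Helper13.exists_minimal_normal_le (⊤ : Subgroup ↥H) inferInstance htop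
  obtain ⟨l, hl, hlN, -, hexp, hNp⟩ :=
    Cfsg.Agent.Lib.Helper13.minimal_normal_solvable N hNn hN hmin
  have hl' : l = 5 ∨ l = 13 := by
    have h1 : l ∣ Nat.card ↥H := hlN.trans (Subgroup.card_subgroup_dvd_card N)
    rw [hH] at h1
    rcases (Nat.Prime.dvd_mul hl).mp h1 with h | h
    · left
      exact (Nat.prime_dvd_prime_iff_eq hl (by norm_num)).mp (hl.dvd_of_dvd_pow h)
    · right
      exact (Nat.prime_dvd_prime_iff_eq hl (by norm_num)).mp (hl.dvd_of_dvd_pow h)
  let φ : ↥H →* G := Γ.subtype.comp H.subtype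
  have hφ : Function.Injective φ := by
    intro x y h
    exact Subtype.ext (Subtype.ext h)
  refine ⟨N.map φ, l, φ y5, φ y13, ?_, hl', hNp.map φ, ?_, ?_, ?_, ?_, ?_, ?_, ?_⟩
  · rw [Ne, Subgroup.map_eq_bot_iff_of_injective _ hφ]
    exact hN
  · rintro _ ⟨y, hy, rfl⟩
    rw [← map_pow, hexp y hy, map_one]
  · rw [orderOf_injective φ hφ]; exact hy5
  · rw [orderOf_injective φ hφ]; exact hy13
  · rintro _ ⟨y, hy, rfl⟩
    exact ⟨y5 * y * y5⁻¹, hNn.conj_mem y hy y5, by simp⟩
  · rintro _ ⟨y, hy, rfl⟩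
    refine ⟨y5⁻¹ * y * y5, ?_, by simp⟩
    have := hNn.conj_mem y hy y5⁻¹
    simpa using this
  · rintro _ ⟨y, hy, rfl⟩
    exact ⟨y13 * y * y13⁻¹, hNn.conj_mem y hy y13, by simp⟩
  · rintro _ ⟨y, hy, rfl⟩
    refine ⟨y13⁻¹ * y * y13, ?_, by simp⟩
    have := hNn.conj_mem y hy y13⁻¹
    simpa using this


section lin
variable {V : Type u} [AddCommGroup V] [Module (ZMod 3) V] [Finite V]

/-- common fixed points of a subgroup -/
def fixS (X : Subgroup (V ≃ₗ[ZMod 3] V)) : AddSubgroup V where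
  carrier := {v | ∀ g ∈ X, g v = v}
  add_mem' := by
    intro a b ha hb g hg
    rw [map_add, ha g hg, hb g hg]
  zero_mem' := by
    intro g hg
    exact map_zero g
  neg_mem' := by
    intro a ha g hg
    rw [map_neg, ha g hg]

theorem mem_fixS {X : Subgroup (V ≃ₗ[ZMod 3] V)} {v : V} : v ∈ fixS X ↔ ∀ g ∈ X, g v = v :=
  Iff.rfl

theorem card_fixS_dvd (hV : Nat.card V = 81) (X : Subgroup (V ≃ₗ[ZMod 3] V)) :
    ∃ j ≤ 4, Nat.card ↥(fixS X) = 3 ^ j := by
  have h := AddSubgroup.card_addSubgroup_dvd_card (fixS X)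
  rw [hV, show (81 : ℕ) = 3 ^ 4 by norm_num] at h
  exact (Nat.dvd_prime_pow Nat.prime_three).mp h

theorem card_fixS_mod (hV : Nat.card V = 81) (X : Subgroup (V ≃ₗ[ZMod 3] V)) {q : ℕ}
    [Fact q.Prime] (hX : IsPGroup q ↥X) : Nat.card ↥(fixS X) ≡ 81 [MOD q] := by
  have h := hX.card_modEq_card_fixedPoints V
  rw [hV] at h
  have e : Nat.card (MulAction.fixedPoints ↥X V) = Nat.card ↥(fixS X) := by
    apply Nat.card_congr
    refine Equiv.subtypeEquivRight ?_
    intro v
    rw [MulAction.mem_fixedPoints]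
    constructor
    · intro h g hg
      exact h ⟨g, hg⟩
    · intro h g
      exact h g.1 g.2
  rw [e] at h
  exact h.symm

theorem fixS_top_imp (X : Subgroup (V ≃ₗ[ZMod 3] V))
    (h : Nat.card ↥(fixS X) = Nat.card V) : X = ⊥ := by
  have htop : fixS X = ⊤ := AddSubgroup.eq_top_of_card_eq _ h
  rw [eq_bot_iff]
  intro g hg
  rw [Subgroup.mem_bot]
  ext v
  have : v ∈ fixS X := htop ▸ AddSubgroup.mem_top v
  exact this g hg

theorem F5 (hV : Nat.card V = 81) (m : V ≃ₗ[ZMod 3] V) (hm : orderOf m = 5) (v : V)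
    (hv : m v = v) : v = 0 := by
  haveI : Fact (Nat.Prime 5) := ⟨by norm_num⟩
  have hX : IsPGroup 5 ↥(Subgroup.zpowers m) :=
    IsPGroup.of_card (n := 1) (by rw [Nat.card_zpowers, hm, pow_one])
  obtain ⟨j, hj, hc⟩ := card_fixS_dvd hV (Subgroup.zpowers m)
  have hmod := card_fixS_mod hV (Subgroup.zpowers m) hX
  rw [hc] at hmod
  have hne : Nat.card ↥(fixS (Subgroup.zpowers m)) ≠ 81 := by
    intro h
    have := fixS_top_imp (Subgroup.zpowers m) (h.trans hV.symm)
    have hm1 : m = 1 := by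
      have : m ∈ (⊥ : Subgroup (V ≃ₗ[ZMod 3] V)) := this ▸ Subgroup.mem_zpowers m
      exact Subgroup.mem_bot.mp this
    rw [hm1, orderOf_one] at hm
    norm_num at hm
  have hj0 : j = 0 := by
    interval_cases j
    · rfl
    · exfalso; revert hmod; decide
    · exfalso; revert hmod; decide
    · exfalso; revert hmod; decide
    · exfalso; exact hne hc
  have hbot : fixS (Subgroup.zpowers m) = ⊥ :=
    AddSubgroup.eq_bot_of_card_eq _ (by rw [hc, hj0, pow_zero])
  have hvm : v ∈ fixS (Subgroup.zpowers m) := by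
    intro g hg
    have hle : Subgroup.zpowers m ≤ MulAction.stabilizer (V ≃ₗ[ZMod 3] V) v :=
      Subgroup.zpowers_le.mpr (MulAction.mem_stabilizer_iff.mpr hv)
    exact MulAction.mem_stabilizer_iff.mp (hle hg)
  rw [hbot] at hvm
  exact AddSubgroup.mem_bot.mp hvm

theorem F13 (hV : Nat.card V = 81) (X : Subgroup (V ≃ₗ[ZMod 3] V)) (hX : IsPGroup 13 ↥X)
    (hne : X ≠ ⊥) : Nat.card ↥(fixS X) = 3 := by
  haveI : Fact (Nat.Prime 13) := ⟨by norm_num⟩
  obtain ⟨j, hj, hc⟩ := card_fixS_dvd hV X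
  have hmod := card_fixS_mod hV X hX
  rw [hc] at hmod
  interval_cases j
  · exfalso; revert hmod; decide
  · exact hc
  · exfalso; revert hmod; decide
  · exfalso; revert hmod; decide
  · exfalso
    apply hne
    exact fixS_top_imp X (by rw [hc, hV]; norm_num)

theorem T (hV : Nat.card V = 81) (m : V ≃ₗ[ZMod 3] V) (hm : orderOf m = 5) (A : AddSubgroup V)
    (hA : Nat.card ↥A = 3) (hinv : ∀ a ∈ A, m a ∈ A) : False := by
  have hfix : ∀ a : ↥A, (⟨m a, hinv a a.2⟩ : ↥A) = a := by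
    apply perm_trick (fun a : ↥A => (⟨m a, hinv a a.2⟩ : ↥A)) ?_ 5 ?_ ?_
    · intro a b h
      exact Subtype.ext (m.injective (congrArg Subtype.val h))
    · rw [hA]; decide
    · intro a
      have hk : ∀ k : ℕ, (((fun a : ↥A => (⟨m a, hinv a a.2⟩ : ↥A))^[k] a : ↥A) : V)
          = (m ^ k) (a : V) := by
        intro k
        induction k with
        | zero => simp
        | succ k ih =>
          rw [Function.iterate_succ_apply', pow_succ']
          simp only [ih]
          rfl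
      apply Subtype.ext
      rw [hk, ← hm, pow_orderOf_eq_one]
      rfl
  have hne : A ≠ ⊥ := by
    intro h
    rw [h] at hA
    simp at hA
  obtain ⟨⟨a, ha⟩, ha0⟩ := (AddSubgroup.ne_bot_iff_exists_ne_zero).mp hne
  have := congrArg Subtype.val (hfix ⟨a, ha⟩)
  exact ha0 (Subtype.ext (F5 hV m hm a this))

end lin

theorem no_65 {V : Type u} [AddCommGroup V] [Module (ZMod 3) V] [Finite V] (hV : Nat.card V = 81)
    (Γ : Subgroup (V ≃ₗ[ZMod 3] V)) (hsol : Group.IsSolvable ↥Γ) (h5 : 5 ∣ Nat.card ↥Γ)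
    (h13 : 13 ∣ Nat.card ↥Γ) : False := by
  classical
  haveI : Finite (V ≃ₗ[ZMod 3] V) :=
    Finite.of_injective (fun f => (f : V → V)) DFunLike.coe_injective
  obtain ⟨M, l, x5, x13, hM, hl, hMp, hexp, hx5, hx13, n5, n5', n13, n13'⟩ :=
    extract Γ hsol h5 h13
  rcases hl with rfl | rfl
  · -- a minimal normal 5-subgroup
    haveI : Fact (Nat.Prime 5) := ⟨by norm_num⟩
    have hord : ∀ x ∈ M, x ≠ 1 → orderOf x = 5 :=
      fun x hx h1 => orderOf_eq_prime (hexp x hx) h1
    have hdiv : Nat.card ↥M ∣ 80 := by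
      haveI : Fintype V := Fintype.ofFinite V
      haveI : Fintype ↥M := Fintype.ofFinite _
      have hB := MulAction.sum_card_fixedBy_eq_card_orbits_mul_card_group ↥M V
      simp only [Fintype.card_eq_nat_card] at hB
      have hterm : ∀ a : ↥M, Nat.card (MulAction.fixedBy V a) = 1 + (if a = 1 then 80 else 0) := by
        intro a
        by_cases ha : a = 1
        · subst ha
          rw [if_pos rfl]
          have : Nat.card (MulAction.fixedBy V (1 : ↥M)) = Nat.card V :=
            Nat.card_congr (Equiv.subtypeUnivEquiv (fun v => one_smul _ v))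
          rw [this, hV]
        · rw [if_neg ha, add_zero, Nat.card_eq_one_iff_unique]
          have h0 : ∀ v : V, v ∈ MulAction.fixedBy V a → v = 0 := by
            intro v hv
            exact F5 hV a.1 (hord a.1 a.2 (fun h => ha (Subtype.ext h))) v hv
          refine ⟨⟨fun x y => Subtype.ext ((h0 x.1 x.2).trans (h0 y.1 y.2).symm)⟩, ⟨⟨0, ?_⟩⟩⟩
          show (a : V ≃ₗ[ZMod 3] V) 0 = 0
          exact map_zero _
      rw [Finset.sum_congr rfl (fun a _ => hterm a), Finset.sum_add_distrib,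
        Finset.sum_ite_eq' Finset.univ (1 : ↥M) (fun _ => 80)] at hB
      simp only [Finset.sum_const, Finset.card_univ, smul_eq_mul, mul_one, Finset.mem_univ,
        if_true, Fintype.card_eq_nat_card] at hB
      exact (Nat.dvd_add_right (dvd_refl _)).mp ⟨_, by rw [hB, mul_comm]⟩
    have hcard : Nat.card ↥M = 5 := by
      haveI : Fact (Nat.Prime 5) := ⟨by norm_num⟩
      obtain ⟨k, hk⟩ := IsPGroup.iff_card.mp hMp
      rw [hk] at hdiv ⊢
      have hk1 : k ≤ 1 := by
        by_contra h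
        push_neg at h
        have : 5 ^ 2 ∣ 80 := (pow_dvd_pow 5 h).trans hdiv
        norm_num at this
      interval_cases k
      · exfalso
        apply hM
        exact Subgroup.card_eq_one.mp (by simpa using hk)
      · rfl
    have hcent : ∀ x : ↥M, (⟨x13 * x * x13⁻¹, n13 x x.2⟩ : ↥M) = x := by
      apply perm_trick (fun x : ↥M => (⟨x13 * x * x13⁻¹, n13 x x.2⟩ : ↥M)) ?_ 13 ?_ ?_
      · intro a b h
        have := congrArg Subtype.val h
        simp only [mul_left_inj, mul_right_inj] at this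
        exact Subtype.ext this
      · rw [hcard]; decide
      · intro a
        have hk : ∀ k : ℕ, (((fun x : ↥M => (⟨x13 * x * x13⁻¹, n13 x x.2⟩ : ↥M))^[k] a : ↥M) :
            V ≃ₗ[ZMod 3] V) = x13 ^ k * (a : V ≃ₗ[ZMod 3] V) * (x13 ^ k)⁻¹ := by
          intro k
          induction k with
          | zero => simp
          | succ k ih =>
            rw [Function.iterate_succ_apply']
            simp only [ih]
            rw [pow_succ']
            group
        apply Subtype.ext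
        rw [hk, ← hx13, pow_orderOf_eq_one]
        simp
    obtain ⟨⟨m, hmM⟩, hm1'⟩ := (Subgroup.ne_bot_iff_exists_ne_one).mp hM
    have hm1 : m ≠ 1 := fun h => hm1' (Subtype.ext h)
    have hcm : x13 * m = m * x13 := by
      have : x13 * m * x13⁻¹ = m := congrArg Subtype.val (hcent ⟨m, hmM⟩)
      calc x13 * m = (x13 * m * x13⁻¹) * x13 := by group
        _ = m * x13 := by rw [this]
    have hX : IsPGroup 13 ↥(Subgroup.zpowers x13) := by
      haveI : Fact (Nat.Prime 13) := ⟨by norm_num⟩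
      exact IsPGroup.of_card (n := 1) (by rw [Nat.card_zpowers, hx13, pow_one])
    have hXne : Subgroup.zpowers x13 ≠ ⊥ := by
      intro h
      have h1 : x13 ∈ (⊥ : Subgroup (V ≃ₗ[ZMod 3] V)) := h ▸ Subgroup.mem_zpowers x13
      rw [Subgroup.mem_bot] at h1
      rw [h1, orderOf_one] at hx13
      norm_num at hx13
    refine T hV m (hord m hmM hm1) (fixS (Subgroup.zpowers x13)) (F13 hV _ hX hXne) ?_
    intro a ha g hg
    have hgm : g * m = m * g := by
      have hle : Subgroup.zpowers x13 ≤ Subgroup.centralizer {m} :=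
        Subgroup.zpowers_le.mpr (Subgroup.mem_centralizer_iff.mpr (by
          intro h hh
          rw [Set.mem_singleton_iff.mp hh]
          exact hcm.symm))
      exact (Subgroup.mem_centralizer_iff.mp (hle hg) m (Set.mem_singleton m)).symm
    calc g (m a) = (g * m) a := rfl
      _ = (m * g) a := by rw [hgm]
      _ = m (g a) := rfl
      _ = m a := by rw [ha g hg]
  · -- a minimal normal 13-subgroup
    refine T hV x5 hx5 (fixS M) (F13 hV M hMp hM) ?_
    intro a ha x hx
    have h1 := ha (x5⁻¹ * x * x5) (n5' x hx)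
    calc x (x5 a) = (x5 * (x5⁻¹ * x * x5)) a := by
          rw [show x5 * (x5⁻¹ * x * x5) = x * x5 by group]; rfl
      _ = x5 ((x5⁻¹ * x * x5) a) := rfl
      _ = x5 a := by rw [h1]

end Cfsg.Agent.Lib.Helper60.BG
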