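import Mathlib
import Cfsg.Agent.Lib.Helper10.BWDefs

/-!
# S0997 case B2 (project BW): piece BW-RK1 (`rank_one`)

If `ψ` is a character of `G` whose restriction to `P` contains the trivial character exactly
once (`psum P ψ 1 = |P|`), then the averaging operator over `P` has rank one, whence
`(1/|P|) Σ_{u ∈ P} om P ψ (a u b) = om P ψ a * om P ψ b`.
-/

set_option autoImplicit false
set_option linter.style.haveILetI false

namespace Cfsg.Agent.Lib.Helper10.BW

open Cfsg
open Cfsg.Agent.Lib.Helper83 (trivIrr)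
open Cfsg.Agent.Lib.Helper10.BR (psum DOut)
open scoped ComplexConjugate

universe u

variable {G : Type u} [Group G] [Fintype G]

/-- Linear algebra core: an operator `S` with `S * S = m • S`, trace `m ≠ 0` satisfies
`S * A * S = tr (A * S) • S` for every operator `A`. -/
private theorem rk1_lin {V : Type*} [AddCommGroup V] [Module ℂ V] [FiniteDimensional ℂ V]
    (S : V →ₗ[ℂ] V) (m : ℂ) (hm : m ≠ 0) (hSS : S * S = m • S)
    (htr : LinearMap.trace ℂ V S = m) (A : V →ₗ[ℂ] V) :
    S * A * S = LinearMap.trace ℂ V (A * S) • S := by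
  set E : V →ₗ[ℂ] V := m⁻¹ • S with hE
  have hSE : S = m • E := by
    rw [hE, smul_smul, mul_inv_cancel₀ hm, one_smul]
  have hEE : E * E = E := by
    rw [hE, smul_mul_smul_comm, hSS, smul_smul]
    congr 1
    field_simp
  have hidem : IsIdempotentElem E := hEE
  have hproj := LinearMap.IsIdempotentElem.isProj_range E hidem
  have htrE : LinearMap.trace ℂ V E = 1 := by
    rw [hE, map_smul, htr, smul_eq_mul, inv_mul_cancel₀ hm]
  have hfr : Module.finrank ℂ (LinearMap.range E) = 1 := by
    have h := LinearMap.IsProj.trace hproj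
    rw [htrE] at h
    exact_mod_cast h.symm
  obtain ⟨v0, -, hspan⟩ := finrank_eq_one_iff'.mp hfr
  -- `E (A v0) = d • v0`
  obtain ⟨d, hd⟩ := hspan ⟨E (A (v0 : V)), LinearMap.mem_range_self E _⟩
  have hd' : E (A (v0 : V)) = d • (v0 : V) := by
    have := congrArg Subtype.val hd
    simpa using this.symm
  have hEAE : E * A * E = d • E := by
    ext w
    obtain ⟨c, hc⟩ := hspan ⟨E w, LinearMap.mem_range_self E _⟩
    have hc' : E w = c • (v0 : V) := by
      have := congrArg Subtype.val hc
      simpa using this.symm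
    simp only [Module.End.mul_apply, LinearMap.smul_apply]
    rw [hc', map_smul, map_smul, hd', smul_smul, smul_smul, mul_comm]
  have hdtr : d = LinearMap.trace ℂ V (A * E) := by
    have h1 : LinearMap.trace ℂ V (E * A * E) = d := by
      rw [hEAE, map_smul, htrE, smul_eq_mul, mul_one]
    have h2 : LinearMap.trace ℂ V (E * A * E) = LinearMap.trace ℂ V (A * E) := by
      rw [mul_assoc, LinearMap.trace_mul_comm, mul_assoc, hEE]
    rw [← h1, h2]
  have hAS : A * S = m • (A * E) := by rw [hSE, mul_smul_comm]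
  calc S * A * S = (m * m) • (E * A * E) := by
        rw [hSE, smul_mul_assoc, mul_smul_comm, smul_mul_assoc, smul_smul]
    _ = (m * m) • (d • E) := by rw [hEAE]
    _ = LinearMap.trace ℂ V (A * S) • S := by
        rw [hAS, map_smul, ← hdtr, hSE, smul_smul, smul_smul, smul_eq_mul]
        congr 1
        field_simp

/-- BW-RK1 -/
theorem rank_one (P : Subgroup G) (ψ : G → ℂ) (hψ : IsCharacter G ψ)
    (h1 : psum P ψ 1 = (Nat.card P : ℂ)) (a b : G) :
    (∑ᶠ u : P, om P ψ (a * (u : G) * b)) / (Nat.card P : ℂ) = om P ψ a * om P ψ b := by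
  classical
  obtain ⟨n, ρ, rfl⟩ := hψ
  have hfin : Fintype P := Fintype.ofFinite P
  set m : ℂ := (Nat.card P : ℂ) with hm
  have hm0 : m ≠ 0 := by
    rw [hm]
    exact_mod_cast (Nat.card_pos (α := P)).ne'
  set S : (Fin n → ℂ) →ₗ[ℂ] (Fin n → ℂ) := ∑ u : P, ρ (u : G) with hS
  -- absorbing elements of `P`
  have hSv : ∀ v : P, S * ρ (v : G) = S := by
    intro v
    rw [hS, Finset.sum_mul]
    simp only [← map_mul]
    exact Fintype.sum_equiv (Equiv.mulRight v) _ _ (fun u => by simp)
  have hSS : S * S = m • S := by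
    conv_lhs => rw [hS, Finset.mul_sum]
    simp only [← hS, hSv]
    rw [Finset.sum_const, Finset.card_univ, hm, Nat.card_eq_fintype_card, Nat.cast_smul_eq_nsmul]
  have hps : ∀ g : G, psum P ρ.character g = LinearMap.trace ℂ _ (ρ g * S) := by
    intro g
    rw [Cfsg.Agent.Lib.Helper10.BR.psum_eq_sum, hS, Finset.mul_sum, map_sum]
    refine Finset.sum_congr rfl (fun u _ => ?_)
    rw [← map_mul]
    rfl
  have htr : LinearMap.trace ℂ _ S = m := by
    have := hps 1
    rw [h1, map_one, one_mul] at this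
    exact this.symm
  have hkey := rk1_lin S m hm0 hSS htr
  -- the left side
  have hom : ∀ g : G, om P ρ.character g = LinearMap.trace ℂ _ (ρ g * S) / m := by
    intro g
    rw [om, hps]
  have hsum : (∑ᶠ u : P, om P ρ.character (a * (u : G) * b)) =
      LinearMap.trace ℂ _ (ρ a * S * ρ b * S) / m := by
    have hexp : ρ a * S * ρ b * S = ∑ x : P, ρ (a * (x : G) * b) * S := by
      have h3 : ρ a * S * ρ b = ∑ x : P, ρ (a * (x : G) * b) := by
        rw [hS, Finset.mul_sum, Finset.sum_mul]
        refine Finset.sum_congr rfl (fun u _ => ?_)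
        rw [map_mul, map_mul]
      rw [h3, Finset.sum_mul]
    rw [finsum_eq_sum_of_fintype]
    simp only [hom]
    rw [← Finset.sum_div, ← map_sum, hexp]
  rw [hsum, hom, hom]
  have h2 : ρ a * S * ρ b * S = LinearMap.trace ℂ _ (ρ b * S) • (ρ a * S) := by
    rw [mul_assoc (ρ a), mul_assoc (ρ a), hkey (ρ b), mul_smul_comm]
  rw [h2, map_smul, smul_eq_mul]
  field_simp
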