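import Mathlib
import Cfsg.Agent.Lib.Helper61.F15Defs
import Cfsg.Agent.Lib.Helper89.F15P14a

/-!
# S1615 piece P14c: the commuting graph of a triangle-free `μ = 1` class is a Moore-type graph

The commuting graph on `D` is `k`-regular, without triangles, and two non-adjacent vertices have
exactly one common neighbour; `moore_mat` then excludes every prime divisor of `4k - 3` other
than `2, 3, 5`.
-/

set_option autoImplicit false
set_option linter.style.haveILetI false
set_option linter.unusedSimpArgs false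

namespace Cfsg.Agent.Lib.Helper60.F15

open Cfsg Cfsg.Agent.Lib.Helper11 Cfsg.Agent.Lib.Helper61.F15
open Cfsg.Agent.Lib.Helper89.F15

variable {G : Type*} [Group G] {D : Set G}

theorem moore_tt [Finite G] (hP : TTPrim D) (hcoc : Coc D) (hmu : Mu1 D) {k : ℕ}
    (hk : ∀ a ∈ D, (Dn D a).ncard = k) (p : ℕ) (hp : p.Prime)
    (hdvd : (p : ℤ) ∣ 4 * (k : ℤ) - 3) (h2 : p ≠ 2) (h3 : p ≠ 3) (h5 : p ≠ 5) : False := by
  classical
  haveI : Fintype ↥D := Fintype.ofFinite _
  obtain ⟨d0, hd0, -⟩ := hP.1.2.1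
  haveI : Nonempty ↥D := ⟨⟨d0, hd0⟩⟩
  refine moore_mat (V := ↥D) (fun u w => (u : G) ≠ w ∧ Commute (u : G) w) k ?_ ?_ ?_ ?_ ?_
    p hp hdvd h2 h3 h5
  · rintro u w ⟨hne, hc⟩
    exact ⟨fun h => hne h.symm, hc.symm⟩
  · rintro u ⟨hne, -⟩
    exact hne rfl
  · intro u
    rw [← hk u u.2]
    rw [← Set.ncard_coe_finset]
    have himg : Dn D (u : G) = Subtype.val ''
        ((Finset.univ.filter (fun x : ↥D => (u : G) ≠ x ∧ Commute (u : G) x) : Finset ↥D) :
          Set ↥D) := by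
      ext y
      simp only [Dn, Set.mem_image, Finset.coe_filter, Finset.mem_univ,
        true_and]
      constructor
      · rintro ⟨hy, hne, hc⟩
        exact ⟨⟨y, hy⟩, ⟨fun h => hne h.symm, hc⟩, rfl⟩
      · rintro ⟨x, ⟨hne, hc⟩, rfl⟩
        exact ⟨x.2, fun h => hne h.symm, hc⟩
    rw [himg, Set.ncard_image_of_injective _ Subtype.val_injective]
  · rintro u w ⟨hne, hc⟩
    rw [Finset.card_eq_zero, Finset.filter_eq_empty_iff]
    rintro x - ⟨⟨hux, hcux⟩, ⟨hxw, hcxw⟩⟩
    exact hcoc (u : G) u.2 (w : G) w.2 (x : G) x.2 hne (fun h => hux h.symm) hxw hc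
      hcux.symm hcxw
  · intro u w huw hnadj
    have hnc : ¬ Commute (u : G) (w : G) := by
      intro hc
      exact hnadj ⟨fun h => huw (Subtype.ext h), hc⟩
    obtain ⟨x, hxD, hxu, hxw⟩ := tt_Y hP u.2 w.2 hnc
    have hxu' : (u : G) ≠ x := by
      rintro rfl
      exact hnc hxw
    have hxw' : x ≠ (w : G) := by
      rintro rfl
      exact hnc hxu.symm
    rw [Finset.card_eq_one]
    refine ⟨⟨x, hxD⟩, ?_⟩
    ext y
    simp only [Finset.mem_filter, Finset.mem_univ, true_and, Finset.mem_singleton]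
    constructor
    · rintro ⟨⟨-, hcuy⟩, ⟨-, hcyw⟩⟩
      exact Subtype.ext (hmu (u : G) u.2 (w : G) w.2 hnc (y : G) y.2 x hxD hcuy.symm hcyw
        hxu hxw)
    · rintro rfl
      exact ⟨⟨hxu', hxu.symm⟩, ⟨hxw', hxw⟩⟩

end Cfsg.Agent.Lib.Helper60.F15
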