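import Mathlib

/-!
# S2049 (helper70), piece HeM-CARD: a lower bound for the order of a subgroup from distinct
images of a point

Statement from `tools/helper70/HeMSkel.lean.txt`.  Mathlib only.
-/

set_option autoImplicit false

open scoped commutatorElement

universe u v

namespace Cfsg.Agent.Lib.Helper60.HeMCARD

theorem card_ge_of_smul_nodup {G : Type u} {X : Type v} [Group G] [Finite G] [MulAction G X]
    (D : Subgroup G) (x : X) (l : List G) (hl : ∀ d ∈ l, d ∈ D)
    (hnd : (l.map (fun d => d • x)).Nodup) : l.length ≤ Nat.card D := by
  have hl' : l.Nodup := List.Nodup.of_map _ hnd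
  have hinj : Function.Injective
      (fun i : Fin l.length => (⟨l.get i, hl _ (List.get_mem l i)⟩ : D)) := by
    intro i j h
    have h1 : l.get i = l.get j := congrArg Subtype.val h
    exact (List.Nodup.get_inj_iff hl').mp h1
  have h2 := Nat.card_le_card_of_injective _ hinj
  rwa [Nat.card_fin] at h2

end Cfsg.Agent.Lib.Helper60.HeMCARD
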