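import Mathlib
import Cfsg.Prelude.Def_KGroupFacts

/-! S2075 (helper70; |Out(He)| = 2), piece FIN: the count. -/

set_option autoImplicit false

namespace Cfsg.Agent.Lib.Helper60.HeOFIN

/-- PIECE FIN.  The count. -/
theorem out_card_two {G : Type} [Group G] [Finite G] (z x7 x3 : G)
    (h1 : ∀ φ : MulAut G, ∃ g : G, φ z = g * z * g⁻¹)
    (h2 : ∀ φ : MulAut G, φ z = z → ∃ c : G, c * z = z * c ∧
      ((c * φ x7 * c⁻¹ = x7 ∧ c * φ x3 * c⁻¹ = x3) ∨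
        (c * φ x7 * c⁻¹ = x7⁻¹ ∧ c * φ x3 * c⁻¹ = x3)))
    (h3 : ∀ φ : MulAut G, φ z = z → φ x7 = x7 → φ x3 = x3 → ∃ g : G, ∀ x, φ x = g * x * g⁻¹)
    (τ : MulAut G) (hτz : τ z = z) (hτ7 : τ x7 = x7⁻¹) (hτ3 : τ x3 = x3)
    (hτ : ¬ ∃ g : G, ∀ x, τ x = g * x * g⁻¹) :
    Nat.card (Cfsg.Out G) = 2 := by
  have hinn : ∀ ψ : MulAut G, (∃ g : G, ∀ x, ψ x = g * x * g⁻¹) → ψ ∈ Cfsg.Inn G := by
    rintro ψ ⟨g, hg⟩
    refine ⟨g, ?_⟩
    ext x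
    rw [MulAut.conj_apply, hg]
  have hconj : ∀ g : G, MulAut.conj g ∈ Cfsg.Inn G := fun g => ⟨g, rfl⟩
  have key : ∀ φ : MulAut G, φ ∈ Cfsg.Inn G ∨ φ * τ ∈ Cfsg.Inn G := by
    intro φ
    obtain ⟨g, hg⟩ := h1 φ
    have hψ1z : (MulAut.conj g⁻¹ * φ) z = z := by
      rw [MulAut.mul_apply, MulAut.conj_apply, hg]; group
    obtain ⟨c, hcz, hc⟩ := h2 (MulAut.conj g⁻¹ * φ) hψ1z
    have hψ2x : ∀ x, (MulAut.conj c * (MulAut.conj g⁻¹ * φ)) x =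
        c * (MulAut.conj g⁻¹ * φ) x * c⁻¹ := fun x => by
      rw [MulAut.mul_apply, MulAut.conj_apply]
    have hψ2z : (MulAut.conj c * (MulAut.conj g⁻¹ * φ)) z = z := by
      rw [hψ2x, hψ1z, hcz, mul_assoc, mul_inv_cancel, mul_one]
    have hφ : φ = MulAut.conj g * (MulAut.conj c)⁻¹ *
        (MulAut.conj c * (MulAut.conj g⁻¹ * φ)) := by
      rw [map_inv]; group
    have hφτ : φ * τ = MulAut.conj g * (MulAut.conj c)⁻¹ *
        (MulAut.conj c * (MulAut.conj g⁻¹ * φ) * τ) := by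
      rw [map_inv]; group
    rcases hc with ⟨h7, h3'⟩ | ⟨h7, h3'⟩
    · left
      have h5 := hinn _ (h3 (MulAut.conj c * (MulAut.conj g⁻¹ * φ)) hψ2z
        (by rw [hψ2x, h7]) (by rw [hψ2x, h3']))
      rw [hφ]
      exact (Cfsg.Inn G).mul_mem
        ((Cfsg.Inn G).mul_mem (hconj g) ((Cfsg.Inn G).inv_mem (hconj c))) h5
    · right
      have h5 := hinn _ (h3 (MulAut.conj c * (MulAut.conj g⁻¹ * φ) * τ)
        (by rw [MulAut.mul_apply, hτz, hψ2z])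
        (by rw [MulAut.mul_apply, hτ7, map_inv, hψ2x, h7, inv_inv])
        (by rw [MulAut.mul_apply, hτ3, hψ2x, h3']))
      rw [hφτ]
      exact (Cfsg.Inn G).mul_mem
        ((Cfsg.Inn G).mul_mem (hconj g) ((Cfsg.Inn G).inv_mem (hconj c))) h5
  show (Cfsg.Inn G).index = 2
  rw [Subgroup.index_eq_two_iff]
  refine ⟨τ, fun b => ?_⟩
  by_cases hb : b ∈ Cfsg.Inn G
  · right
    refine ⟨hb, fun hbt => ?_⟩
    have h5 : τ ∈ Cfsg.Inn G := by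
      have h6 := (Cfsg.Inn G).mul_mem ((Cfsg.Inn G).inv_mem hb) hbt
      rwa [inv_mul_cancel_left] at h6
    obtain ⟨x, hx⟩ := h5
    exact hτ ⟨x, fun y => by rw [← hx, MulAut.conj_apply]⟩
  · left
    exact ⟨(key b).resolve_left hb, hb⟩

end Cfsg.Agent.Lib.Helper60.HeOFIN
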