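import Mathlib
import Cfsg.Agent.Lib.Helper97.KLin

set_option autoImplicit false

namespace Cfsg.Agent.Lib.Helper60.K222

open Matrix Cfsg.Agent.Lib.Helper97

/-- Coordinate matrices over `ZMod 2` (columns are the images of the basis vectors). -/
def RS : Matrix (Fin 4) (Fin 4) (ZMod 2) := !![0,1,0,0; 1,1,0,0; 0,0,0,1; 0,0,1,1]
def RT : Matrix (Fin 4) (Fin 4) (ZMod 2) := !![1,0,0,0; 0,1,0,0; 0,0,0,1; 0,0,1,1]
def RX : Matrix (Fin 4) (Fin 4) (ZMod 2) := !![0,0,1,0; 0,0,0,1; 1,0,0,0; 0,1,0,0]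
def RA : Matrix (Fin 4) (Fin 4) (ZMod 2) := !![1,0,0,1; 0,1,0,0; 0,1,1,1; 0,0,0,1]
def RB : Matrix (Fin 4) (Fin 4) (ZMod 2) := !![1,0,0,1; 0,1,0,0; 0,1,1,0; 0,0,0,1]
def RV : Matrix (Fin 4) (Fin 4) (ZMod 2) := !![1,0,0,0; 1,1,1,0; 0,0,1,0; 1,0,1,1]

lemma wordB : RB * RS * RB * RS * RX = RV := by decide
lemma wordA : RA * RS * RT * RA * RS * RX = RV := by decide

variable {F : Type*} [Field F]

/-- The matrix with columns `u, W u, v, W v`. -/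
def bmat (W : Matrix (Fin 4) (Fin 4) F) (u v : Fin 4 → F) : Matrix (Fin 4) (Fin 4) F :=
  Matrix.of fun i j => (![u, W *ᵥ u, v, W *ᵥ v] j) i

lemma bmat_mulVec (W : Matrix (Fin 4) (Fin 4) F) (u v c : Fin 4 → F) :
    bmat W u v *ᵥ c = c 0 • u + c 1 • (W *ᵥ u) + c 2 • v + c 3 • (W *ᵥ v) := by
  ext i
  show (fun j => bmat W u v i j) ⬝ᵥ c = _
  rw [dotProduct, Fin.sum_univ_four]
  simp [bmat]
  ring

lemma act_gen (φ : ZMod 2 →+* F) (W : Matrix (Fin 4) (Fin 4) F) (u v : Fin 4 → F)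
    (G : Matrix (Fin 4) (Fin 4) F) (R : Matrix (Fin 4) (Fin 4) (ZMod 2))
    (h0 : G *ᵥ u = φ (R 0 0) • u + φ (R 1 0) • (W *ᵥ u) + φ (R 2 0) • v + φ (R 3 0) • (W *ᵥ v))
    (h1 : G *ᵥ (W *ᵥ u) =
      φ (R 0 1) • u + φ (R 1 1) • (W *ᵥ u) + φ (R 2 1) • v + φ (R 3 1) • (W *ᵥ v))
    (h2 : G *ᵥ v = φ (R 0 2) • u + φ (R 1 2) • (W *ᵥ u) + φ (R 2 2) • v + φ (R 3 2) • (W *ᵥ v))
    (h3 : G *ᵥ (W *ᵥ v) =
      φ (R 0 3) • u + φ (R 1 3) • (W *ᵥ u) + φ (R 2 3) • v + φ (R 3 3) • (W *ᵥ v)) :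
    G * bmat W u v = bmat W u v * R.map φ := by
  apply Matrix.mulVec_injective
  funext c
  rw [← Matrix.mulVec_mulVec, ← Matrix.mulVec_mulVec, bmat_mulVec, bmat_mulVec]
  have key : ∀ i, (R.map φ *ᵥ c) i =
      φ (R i 0) * c 0 + φ (R i 1) * c 1 + φ (R i 2) * c 2 + φ (R i 3) * c 3 := by
    intro i
    simp [Matrix.mulVec, dotProduct, Fin.sum_univ_four]
  rw [key 0, key 1, key 2, key 3]
  simp only [Matrix.mulVec_add, Matrix.mulVec_smul, h0, h1, h2, h3]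
  module

lemma act_mul {B G G' R R' : Matrix (Fin 4) (Fin 4) F} (h : G * B = B * R) (h' : G' * B = B * R') :
    (G * G') * B = B * (R * R') := by
  rw [mul_assoc, h', ← mul_assoc, h, mul_assoc]

/-- The coordinate form of the statement. -/
theorem coord_main (φ : ZMod 2 →+* F) (M : Subgroup (GL (Fin 4) F))
    (B : Matrix (Fin 4) (Fin 4) F) (hB : Function.Injective B.mulVec)
    (t : GL (Fin 4) F) (ht : t ∈ M)
    (htB : (t : Matrix (Fin 4) (Fin 4) F) * B = B * RV.map φ) :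
    ∃ w ψ : Fin 4 → F, w ≠ 0 ∧ ψ ≠ 0 ∧ TM M w ψ := by
  have hdet : IsUnit B.det :=
    (Matrix.isUnit_iff_isUnit_det B).mp (Matrix.mulVec_injective_iff_isUnit.mp hB)
  have hBi : B * B⁻¹ = 1 := Matrix.mul_nonsing_inv B hdet
  have hiB : B⁻¹ * B = 1 := Matrix.nonsing_inv_mul B hdet
  set e : Fin 4 → F := ![0, 1, 0, 1] with he
  set f : Fin 4 → F := ![1, 0, 1, 0] with hf
  have hRV : RV.map φ = 1 + vecMulVec e f := by
    ext i j
    fin_cases i <;> fin_cases j <;> simp [RV, he, hf]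
  have hfe : f ⬝ᵥ e = 0 := by
    simp [dotProduct, Fin.sum_univ_four, he, hf]
  have hval : (t : Matrix (Fin 4) (Fin 4) F) = tv (B *ᵥ e) (f ᵥ* B⁻¹) := by
    have h1 : (t : Matrix (Fin 4) (Fin 4) F) = B * RV.map φ * B⁻¹ := by
      rw [← htB, mul_assoc, hBi, mul_one]
    rw [h1, hRV, tv, Matrix.mul_add, Matrix.add_mul, mul_one, hBi, Matrix.mul_vecMulVec,
      Matrix.vecMulVec_mul]
  have h0 : (f ᵥ* B⁻¹) ⬝ᵥ (B *ᵥ e) = 0 := by
    rw [← Matrix.dotProduct_mulVec, Matrix.mulVec_mulVec, hiB, Matrix.one_mulVec]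
    exact hfe
  refine ⟨B *ᵥ e, f ᵥ* B⁻¹, ?_, ?_, h0, ?_⟩
  · intro h
    have h1 : B *ᵥ e = B *ᵥ 0 := by rw [h, Matrix.mulVec_zero]
    have h2 := congrFun (hB h1) 1
    simp [he] at h2
  · intro h
    have h1 : f = (f ᵥ* B⁻¹) ᵥ* B := by
      rw [Matrix.vecMul_vecMul, hiB, Matrix.vecMul_one]
    rw [h, Matrix.zero_vecMul] at h1
    have h2 := congrFun h1 0
    simp [hf] at h2
  · intro t' ht'
    have : t' = t := Units.ext (by rw [ht', hval])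
    rw [this]
    exact ht

section main

variable {F : Type*} [Field F] [Fintype F] {K : Subalgebra F (Matrix (Fin 4) (Fin 4) F)}

lemma f2_cases (hq : Fintype.card F = 2) (x : F) : x = 0 ∨ x = 1 := by
  by_contra hx
  push Not at hx
  have h3 : 2 < Fintype.card F :=
    Fintype.two_lt_card_iff.mpr ⟨0, 1, x, zero_ne_one, fun h => hx.1 h.symm, fun h => hx.2 h.symm⟩
  omega

lemma f2_two (hq : Fintype.card F = 2) : (2 : F) = 0 := by
  rcases f2_cases hq (2 : F) with h | h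
  · exact h
  · exfalso
    have h1 : (1 : F) = 0 := by linear_combination h
    exact one_ne_zero h1

omit [Fintype F] in
lemma add_self_mod {V : Type*} [AddCommGroup V] [Module F V] (h2 : (2 : F) = 0) (x : V) :
    x + x = 0 := by
  rw [← two_smul F x, h2, zero_smul]

omit [Fintype F] in
lemma coe_ab_mulVec (a b : F) (ω : ↥K) (x : Fin 4 → F) :
    ((a • (1 : ↥K) + b • ω : ↥K) : Matrix (Fin 4) (Fin 4) F) *ᵥ x =
      a • x + b • ((ω : Matrix (Fin 4) (Fin 4) F) *ᵥ x) := by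
  rw [Subalgebra.coe_add, Subalgebra.coe_smul, Subalgebra.coe_smul, OneMemClass.coe_one,
    Matrix.add_mulVec, Matrix.smul_mulVec, Matrix.smul_mulVec, Matrix.one_mulVec]

omit [Fintype F] in
lemma ab_eq_zero (ω : ↥K) (hns : ∀ c : F, ω ≠ c • (1 : ↥K)) (a b : F)
    (h : a • (1 : ↥K) + b • ω = 0) : a = 0 ∧ b = 0 := by
  have hb : b = 0 := by
    by_contra hb
    apply hns (-(b⁻¹ * a))
    have h1 : b • ω = -(a • (1 : ↥K)) := eq_neg_of_add_eq_zero_right h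
    calc ω = b⁻¹ • (b • ω) := by rw [smul_smul, inv_mul_cancel₀ hb, one_smul]
      _ = -(b⁻¹ * a) • (1 : ↥K) := by rw [h1, smul_neg, smul_smul, neg_smul]
  subst hb
  rw [zero_smul, add_zero] at h
  refine ⟨?_, rfl⟩
  by_contra ha
  apply hns 0
  have h1 : (1 : ↥K) = 0 := by
    calc (1 : ↥K) = a⁻¹ • (a • (1 : ↥K)) := by rw [smul_smul, inv_mul_cancel₀ ha, one_smul]
      _ = 0 := by rw [h, smul_zero]
  rw [zero_smul, ← mul_one ω, h1, mul_zero]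

omit [Fintype F] in
lemma bmat_ker (hK : Cfsg.Geo.IsFieldSubalgebra 2 K) (ω : ↥K) (hns : ∀ c : F, ω ≠ c • (1 : ↥K))
    (u v : Fin 4 → F) (hu : u ≠ 0) (hv : ∀ k : ↥K, (k : Matrix (Fin 4) (Fin 4) F) *ᵥ u ≠ v)
    (c : Fin 4 → F) (hc : bmat (ω : Matrix (Fin 4) (Fin 4) F) u v *ᵥ c = 0) : c = 0 := by
  rw [bmat_mulVec] at hc
  have e1 : ((c 0 • (1 : ↥K) + c 1 • ω : ↥K) : Matrix (Fin 4) (Fin 4) F) *ᵥ u +
      ((c 2 • (1 : ↥K) + c 3 • ω : ↥K) : Matrix (Fin 4) (Fin 4) F) *ᵥ v = 0 := by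
    rw [coe_ab_mulVec, coe_ab_mulVec, ← hc]; abel
  have hk2 : c 2 • (1 : ↥K) + c 3 • ω = 0 := by
    by_contra hne
    obtain ⟨k', hk', hkk'⟩ := hK.inv _ (c 2 • (1 : ↥K) + c 3 • ω).2 (fun h => hne (Subtype.ext h))
    have hk'k : k' * ((c 2 • (1 : ↥K) + c 3 • ω : ↥K) : Matrix (Fin 4) (Fin 4) F) = 1 := by
      rw [hK.comm k' hk' _ (c 2 • (1 : ↥K) + c 3 • ω).2]; exact hkk'
    apply hv (-(⟨k', hk'⟩ * (c 0 • (1 : ↥K) + c 1 • ω)))
    have e2 := eq_neg_of_add_eq_zero_right e1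
    show (-(k' * ((c 0 • (1 : ↥K) + c 1 • ω : ↥K) : Matrix (Fin 4) (Fin 4) F))) *ᵥ u = v
    calc (-(k' * ((c 0 • (1 : ↥K) + c 1 • ω : ↥K) : Matrix (Fin 4) (Fin 4) F))) *ᵥ u
        = k' *ᵥ (-(((c 0 • (1 : ↥K) + c 1 • ω : ↥K) : Matrix (Fin 4) (Fin 4) F) *ᵥ u)) := by
          rw [Matrix.neg_mulVec, ← Matrix.mulVec_mulVec, Matrix.mulVec_neg]
      _ = k' *ᵥ (((c 2 • (1 : ↥K) + c 3 • ω : ↥K) : Matrix (Fin 4) (Fin 4) F) *ᵥ v) := by rw [e2]
      _ = v := by rw [Matrix.mulVec_mulVec, hk'k, Matrix.one_mulVec]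
  have hk1 : c 0 • (1 : ↥K) + c 1 • ω = 0 := by
    rw [hk2, ZeroMemClass.coe_zero, Matrix.zero_mulVec, add_zero] at e1
    exact Subtype.ext (fs_eq_zero hK (c 0 • (1 : ↥K) + c 1 • ω).2 hu e1)
  obtain ⟨h0, h1⟩ := ab_eq_zero ω hns _ _ hk1
  obtain ⟨h2, h3⟩ := ab_eq_zero ω hns _ _ hk2
  funext i
  fin_cases i
  · exact h0
  · exact h1
  · exact h2
  · exact h3

lemma omega_sq (hq : Fintype.card F = 2) (hK : Cfsg.Geo.IsFieldSubalgebra 2 K) (ω : ↥K)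
    (hns : ∀ c : F, ω ≠ c • (1 : ↥K)) : ω * ω = ω + 1 := by
  have : IsDomain ↥K := (fs_isField hK).isDomain
  have h2 := f2_two hq
  obtain ⟨a, b, hab⟩ := fs_two_decomp hK ω hns (ω * ω)
  have hω0 : ω ≠ 0 := fun h => hns 0 (by rw [h, zero_smul])
  have hω1 : ω ≠ 1 := fun h => hns 1 (by rw [h, one_smul])
  rcases f2_cases hq a with rfl | rfl <;> rcases f2_cases hq b with rfl | rfl
  · rw [zero_smul, zero_smul, add_zero] at hab
    exact absurd (mul_self_eq_zero.mp hab) hω0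
  · rw [zero_smul, zero_add, one_smul] at hab
    have h3 : ω * (ω - 1) = 0 := by rw [mul_sub, mul_one, hab, sub_self]
    rcases mul_eq_zero.mp h3 with h | h
    · exact absurd h hω0
    · exact absurd (sub_eq_zero.mp h) hω1
  · rw [one_smul, zero_smul, add_zero] at hab
    have h3 : (ω + 1) * (ω + 1) = 0 := by
      rw [add_mul, mul_add, mul_one, one_mul, hab, add_comm ω 1]
      exact add_self_mod h2 _
    have h4 := mul_self_eq_zero.mp h3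
    exfalso
    apply hω1
    calc ω = ω + 1 + 1 := by rw [add_assoc, add_self_mod h2 (1 : ↥K), add_zero]
      _ = 1 := by rw [h4, zero_add]
  · rw [one_smul, one_smul] at hab
    rw [hab, add_comm]

lemma exists_swap (hq : Fintype.card F = 2) (hK : Cfsg.Geo.IsFieldSubalgebra 2 K)
    (u v : Fin 4 → F) (hu : u ≠ 0) (hv : ∀ k : ↥K, (k : Matrix (Fin 4) (Fin 4) F) *ᵥ u ≠ v) :
    ∃ g : GL (Fin 4) F, g ∈ klG K ∧ (g : Matrix (Fin 4) (Fin 4) F) *ᵥ u = v ∧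
      (g : Matrix (Fin 4) (Fin 4) F) *ᵥ v = u := by
  have h2 := f2_two hq
  obtain ⟨π₀, h0u, h0v⟩ := exists_kfun_pair hK u v hv
  have hvu : ∀ k : ↥K, (k : Matrix (Fin 4) (Fin 4) F) *ᵥ v ≠ u := by
    intro k hk
    have hk0 : (k : Matrix (Fin 4) (Fin 4) F) ≠ 0 := by
      intro h
      rw [h, Matrix.zero_mulVec] at hk
      exact hu hk.symm
    obtain ⟨k', hk', hkk'⟩ := hK.inv k k.2 hk0
    have hk'k : k' * (k : Matrix (Fin 4) (Fin 4) F) = 1 := by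
      rw [hK.comm k' hk' k k.2]; exact hkk'
    apply hv ⟨k', hk'⟩
    show k' *ᵥ u = v
    rw [← hk, Matrix.mulVec_mulVec, hk'k, Matrix.one_mulVec]
  obtain ⟨π₁, h1v, h1u⟩ := exists_kfun_pair hK v u hvu
  have hπ : (π₁.add π₀) (u + v) = 0 := by
    rw [KFun.add_apply, π₁.map_add, π₀.map_add, h1u, h1v, h0u, h0v, add_zero, zero_add]
    exact add_self_mod h2 (1 : ↥K)
  refine ⟨ktG (u + v) (π₁.add π₀) hπ, ktG_mem _ _ _, ?_, ?_⟩
  · rw [ktG_mulVec, KFun.add_apply, h1u, h0u, add_zero, OneMemClass.coe_one, Matrix.one_mulVec,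
      ← add_assoc, add_self_mod h2 u, zero_add]
  · rw [ktG_mulVec, KFun.add_apply, h1v, h0v, zero_add, OneMemClass.coe_one, Matrix.one_mulVec,
      add_comm u v, ← add_assoc, add_self_mod h2 v, zero_add]

lemma exists_tau (hq : Fintype.card F = 2) (hK : Cfsg.Geo.IsFieldSubalgebra 2 K) (ω : ↥K)
    (hω0 : ω ≠ 0) (u v : Fin 4 → F)
    (hv : ∀ k : ↥K, (k : Matrix (Fin 4) (Fin 4) F) *ᵥ u ≠ v) :
    ∃ g : GL (Fin 4) F, g ∈ klG K ∧ (g : Matrix (Fin 4) (Fin 4) F) *ᵥ u = u ∧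
      (g : Matrix (Fin 4) (Fin 4) F) *ᵥ v = (ω : Matrix (Fin 4) (Fin 4) F) *ᵥ v := by
  obtain ⟨π₀, h0u, h0v⟩ := exists_kfun_pair hK u v hv
  obtain ⟨g, hg, hgv⟩ := exists_tor hK v π₀ h0v ω hω0
  have hpow : ω ^ (Fintype.card F - 1) = ω := by
    rw [hq]
    exact pow_one ω
  refine ⟨g, hg, ?_, ?_⟩
  · rw [hgv, h0u, mul_zero, ZeroMemClass.coe_zero, Matrix.zero_mulVec, add_zero]
  · rw [hgv, h0v, mul_one, hpow, Subalgebra.coe_sub, OneMemClass.coe_one, Matrix.sub_mulVec,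
      Matrix.one_mulVec]
    abel

lemma exists_s (hq : Fintype.card F = 2) (hK : Cfsg.Geo.IsFieldSubalgebra 2 K) (ω : ↥K)
    (hω2 : ω * ω = ω + 1) :
    ∃ g : GL (Fin 4) F, g ∈ klG K ∧
      (g : Matrix (Fin 4) (Fin 4) F) = (ω : Matrix (Fin 4) (Fin 4) F) := by
  have h2 := f2_two hq
  have hW : (ω : Matrix (Fin 4) (Fin 4) F) * (ω : Matrix (Fin 4) (Fin 4) F) =
      (ω : Matrix (Fin 4) (Fin 4) F) + 1 := by
    have h3 := congrArg Subtype.val hω2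
    rw [Subalgebra.coe_mul, Subalgebra.coe_add, OneMemClass.coe_one] at h3
    exact h3
  have e1 : (ω : Matrix (Fin 4) (Fin 4) F) * ((ω : Matrix (Fin 4) (Fin 4) F) + 1) = 1 := by
    rw [mul_add, mul_one, hW, add_right_comm, add_self_mod h2, zero_add]
  have e2 : ((ω : Matrix (Fin 4) (Fin 4) F) + 1) * (ω : Matrix (Fin 4) (Fin 4) F) = 1 := by
    rw [add_mul, one_mul, hW, add_right_comm, add_self_mod h2, zero_add]
  refine ⟨⟨_, _, e1, e2⟩, ⟨fun k hk => hK.comm _ ω.2 k hk, ?_⟩, rfl⟩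
  show (ω : Matrix (Fin 4) (Fin 4) F).det = 1
  rcases f2_cases hq (ω : Matrix (Fin 4) (Fin 4) F).det with h | h
  · exfalso
    have h3 := congrArg Matrix.det e1
    rw [Matrix.det_mul, h, zero_mul, Matrix.det_one] at h3
    exact zero_ne_one h3
  · exact h

lemma exists_y (hq : Fintype.card F = 2) (hK : Cfsg.Geo.IsFieldSubalgebra 2 K)
    (M : Subgroup (GL (Fin 4) F)) (hM : klG K ≤ M) (u v : Fin 4 → F) (hu : u ≠ 0)
    (h : GL (Fin 4) F) (hh : h ∈ M) (hhu : (h : Matrix (Fin 4) (Fin 4) F) *ᵥ u = u) (ω : ↥K)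
    (hns : ∀ c : F, ω ≠ c • (1 : ↥K))
    (hvdef : v = (h : Matrix (Fin 4) (Fin 4) F) *ᵥ ((ω : Matrix (Fin 4) (Fin 4) F) *ᵥ u))
    (hv : ∀ k : ↥K, (k : Matrix (Fin 4) (Fin 4) F) *ᵥ u ≠ v) :
    ∃ y : GL (Fin 4) F, y ∈ M ∧ (y : Matrix (Fin 4) (Fin 4) F) *ᵥ u = u ∧
      (y : Matrix (Fin 4) (Fin 4) F) *ᵥ v = v ∧
      (y : Matrix (Fin 4) (Fin 4) F) *ᵥ ((ω : Matrix (Fin 4) (Fin 4) F) *ᵥ u) =
        (ω : Matrix (Fin 4) (Fin 4) F) *ᵥ u + v ∧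
      ((y : Matrix (Fin 4) (Fin 4) F) *ᵥ ((ω : Matrix (Fin 4) (Fin 4) F) *ᵥ v) =
          u + (ω : Matrix (Fin 4) (Fin 4) F) *ᵥ v ∨
        (y : Matrix (Fin 4) (Fin 4) F) *ᵥ ((ω : Matrix (Fin 4) (Fin 4) F) *ᵥ v) =
          u + v + (ω : Matrix (Fin 4) (Fin 4) F) *ᵥ v) := by
  have : IsDomain ↥K := (fs_isField hK).isDomain
  have hcomm : ∀ a b : ↥K, a * b = b * a := fun a b => Subtype.ext (hK.comm a a.2 b b.2)
  have hω0 : ω ≠ 0 := fun h => hns 0 (by rw [h, zero_smul])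
  obtain ⟨π₀, h0u, h0v⟩ := exists_kfun_pair hK u v hv
  have hinv : ∀ x : Fin 4 → F, ((h⁻¹ : GL (Fin 4) F) : Matrix (Fin 4) (Fin 4) F) *ᵥ
      ((h : Matrix (Fin 4) (Fin 4) F) *ᵥ x) = x := by
    intro x
    rw [Matrix.mulVec_mulVec, ← Units.val_mul, inv_mul_cancel, Units.val_one, Matrix.one_mulVec]
  have hinv' : ∀ x : Fin 4 → F, (h : Matrix (Fin 4) (Fin 4) F) *ᵥ
      (((h⁻¹ : GL (Fin 4) F) : Matrix (Fin 4) (Fin 4) F) *ᵥ x) = x := by
    intro x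
    rw [Matrix.mulVec_mulVec, ← Units.val_mul, mul_inv_cancel, Units.val_one, Matrix.one_mulVec]
  have hiu : ((h⁻¹ : GL (Fin 4) F) : Matrix (Fin 4) (Fin 4) F) *ᵥ u = u := by
    have h1 := hinv u
    rwa [hhu] at h1
  have hiv : ((h⁻¹ : GL (Fin 4) F) : Matrix (Fin 4) (Fin 4) F) *ᵥ v =
      (ω : Matrix (Fin 4) (Fin 4) F) *ᵥ u := by
    rw [hvdef]
    exact hinv _
  -- the conjugated `K`-transvections
  have ya : ∀ a : ↥K, ∃ y : GL (Fin 4) F, y ∈ M ∧ ∀ x : Fin 4 → F,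
      (y : Matrix (Fin 4) (Fin 4) F) *ᵥ x = x + (h : Matrix (Fin 4) (Fin 4) F) *ᵥ
        (((a * π₀ (((h⁻¹ : GL (Fin 4) F) : Matrix (Fin 4) (Fin 4) F) *ᵥ x) : ↥K) :
          Matrix (Fin 4) (Fin 4) F) *ᵥ u) := by
    intro a
    have h0 : (π₀.smul hK.comm a) u = 0 := by rw [KFun.smul_apply, h0u, mul_zero]
    refine ⟨h * ktG u (π₀.smul hK.comm a) h0 * h⁻¹,
      M.mul_mem (M.mul_mem hh (hM (ktG_mem _ _ _))) (M.inv_mem hh), fun x => ?_⟩
    rw [Units.val_mul, Units.val_mul, ← Matrix.mulVec_mulVec, ← Matrix.mulVec_mulVec, ktG_mulVec,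
      Matrix.mulVec_add, hinv', KFun.smul_apply]
  -- coordinates
  have hker := bmat_ker hK ω hns u v hu hv
  have hB : Function.Injective (bmat (ω : Matrix (Fin 4) (Fin 4) F) u v).mulVec := by
    intro c d hcd
    have h1 := hker (c - d) (by rw [Matrix.mulVec_sub, hcd, sub_self])
    exact sub_eq_zero.mp h1
  have hdet : IsUnit (bmat (ω : Matrix (Fin 4) (Fin 4) F) u v).det :=
    (Matrix.isUnit_iff_isUnit_det _).mp (Matrix.mulVec_injective_iff_isUnit.mp hB)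
  have hsurj : ∀ z : Fin 4 → F, ∃ e : Fin 4 → F,
      bmat (ω : Matrix (Fin 4) (Fin 4) F) u v *ᵥ e = z := by
    intro z
    refine ⟨(bmat (ω : Matrix (Fin 4) (Fin 4) F) u v)⁻¹ *ᵥ z, ?_⟩
    rw [Matrix.mulVec_mulVec, Matrix.mul_nonsing_inv _ hdet, Matrix.one_mulVec]
  have hπB : ∀ e : Fin 4 → F, π₀ (bmat (ω : Matrix (Fin 4) (Fin 4) F) u v *ᵥ e) =
      e 2 • (1 : ↥K) + e 3 • ω := by
    intro e
    rw [bmat_mulVec, π₀.map_add, π₀.map_add, π₀.map_add, π₀.map_smul, π₀.map_smul, π₀.map_smul,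
      π₀.map_smul, π₀.map_k, π₀.map_k, h0u, h0v, mul_zero, mul_one, smul_zero, smul_zero,
      zero_add, zero_add]
  -- the two values
  have kindep : ∀ c d : F,
      c • π₀ (((h⁻¹ : GL (Fin 4) F) : Matrix (Fin 4) (Fin 4) F) *ᵥ
        ((ω : Matrix (Fin 4) (Fin 4) F) *ᵥ u)) +
      d • π₀ (((h⁻¹ : GL (Fin 4) F) : Matrix (Fin 4) (Fin 4) F) *ᵥ
        ((ω : Matrix (Fin 4) (Fin 4) F) *ᵥ v)) = 0 → c = 0 ∧ d = 0 := by
    intro c d hcd
    obtain ⟨e, he⟩ := hsurj (((h⁻¹ : GL (Fin 4) F) : Matrix (Fin 4) (Fin 4) F) *ᵥ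
      (c • ((ω : Matrix (Fin 4) (Fin 4) F) *ᵥ u) + d • ((ω : Matrix (Fin 4) (Fin 4) F) *ᵥ v)))
    have h1 : π₀ (bmat (ω : Matrix (Fin 4) (Fin 4) F) u v *ᵥ e) = 0 := by
      rw [he, Matrix.mulVec_add, Matrix.mulVec_smul, Matrix.mulVec_smul, π₀.map_add, π₀.map_smul,
        π₀.map_smul]
      exact hcd
    rw [hπB] at h1
    obtain ⟨he2, he3⟩ := ab_eq_zero ω hns _ _ h1
    have h3 : (h : Matrix (Fin 4) (Fin 4) F) *ᵥ (bmat (ω : Matrix (Fin 4) (Fin 4) F) u v *ᵥ e) =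
        c • ((ω : Matrix (Fin 4) (Fin 4) F) *ᵥ u) + d • ((ω : Matrix (Fin 4) (Fin 4) F) *ᵥ v) := by
      rw [he, hinv']
    rw [bmat_mulVec, he2, he3, zero_smul, zero_smul, add_zero, add_zero, Matrix.mulVec_add,
      Matrix.mulVec_smul, Matrix.mulVec_smul, hhu, ← hvdef] at h3
    have h4 : bmat (ω : Matrix (Fin 4) (Fin 4) F) u v *ᵥ ![e 0, -c, e 1, -d] = 0 := by
      rw [bmat_mulVec]
      simp only [Matrix.cons_val_zero, Matrix.cons_val_one, Matrix.cons_val]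
      rw [neg_smul, neg_smul]
      calc e 0 • u + -(c • (ω : Matrix (Fin 4) (Fin 4) F) *ᵥ u) + e 1 • v +
            -(d • (ω : Matrix (Fin 4) (Fin 4) F) *ᵥ v)
          = (e 0 • u + e 1 • v) - (c • ((ω : Matrix (Fin 4) (Fin 4) F) *ᵥ u) +
              d • ((ω : Matrix (Fin 4) (Fin 4) F) *ᵥ v)) := by abel
        _ = 0 := by rw [h3, sub_self]
    have h5 := hker _ h4
    have h6 := congrFun h5 1
    have h7 := congrFun h5 3
    simp at h6 h7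
    exact ⟨h6, h7⟩
  set κ₁ : ↥K := π₀ (((h⁻¹ : GL (Fin 4) F) : Matrix (Fin 4) (Fin 4) F) *ᵥ
        ((ω : Matrix (Fin 4) (Fin 4) F) *ᵥ u)) with hκ₁
  set κ₂ : ↥K := π₀ (((h⁻¹ : GL (Fin 4) F) : Matrix (Fin 4) (Fin 4) F) *ᵥ
        ((ω : Matrix (Fin 4) (Fin 4) F) *ᵥ v)) with hκ₂
  have hk1 : κ₁ ≠ 0 := by
    intro h1
    have h3 := (kindep 1 0 (by rw [one_smul, zero_smul, add_zero]; exact h1)).1
    exact one_ne_zero h3
  have hk2 : κ₂ ≠ 0 := by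
    intro h1
    have h3 := (kindep 0 1 (by rw [one_smul, zero_smul, zero_add]; exact h1)).2
    exact one_ne_zero h3
  have hk12 : κ₂ ≠ κ₁ := by
    intro h1
    have h3 := (kindep 1 (-1) (by rw [one_smul, neg_smul, one_smul, h1, add_neg_cancel])).1
    exact one_ne_zero h3
  obtain ⟨k', hk', hkk'⟩ := hK.inv κ₁ κ₁.2 (fun h => hk1 (Subtype.ext h))
  have hkk : κ₁ * (⟨k', hk'⟩ : ↥K) = 1 := Subtype.ext hkk'
  have ha : ω * (⟨k', hk'⟩ : ↥K) * κ₁ = ω := by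
    rw [mul_assoc, hcomm ⟨k', hk'⟩ κ₁, hkk, mul_one]
  have ha0 : ω * (⟨k', hk'⟩ : ↥K) ≠ 0 := by
    intro h1
    rw [h1, zero_mul] at ha
    exact hω0 ha.symm
  have hμ0 : ω * (⟨k', hk'⟩ : ↥K) * κ₂ ≠ 0 := mul_ne_zero ha0 hk2
  have hμω : ω * (⟨k', hk'⟩ : ↥K) * κ₂ ≠ ω := by
    intro h1
    exact hk12 (mul_left_cancel₀ ha0 (h1.trans ha.symm))
  obtain ⟨y, hyM, hy⟩ := ya (ω * (⟨k', hk'⟩ : ↥K))
  refine ⟨y, hyM, ?_, ?_, ?_, ?_⟩
  · rw [hy, hiu, h0u, mul_zero, ZeroMemClass.coe_zero, Matrix.zero_mulVec, Matrix.mulVec_zero,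
      add_zero]
  · rw [hy, hiv, π₀.map_k, h0u, mul_zero, mul_zero, ZeroMemClass.coe_zero, Matrix.zero_mulVec,
      Matrix.mulVec_zero, add_zero]
  · rw [hy, ← hκ₁, ha, ← hvdef]
  · obtain ⟨a', b', hμ⟩ := fs_two_decomp hK ω hns (ω * (⟨k', hk'⟩ : ↥K) * κ₂)
    have hyv : (y : Matrix (Fin 4) (Fin 4) F) *ᵥ ((ω : Matrix (Fin 4) (Fin 4) F) *ᵥ v) =
        (ω : Matrix (Fin 4) (Fin 4) F) *ᵥ v + (h : Matrix (Fin 4) (Fin 4) F) *ᵥ
          (a' • u + b' • ((ω : Matrix (Fin 4) (Fin 4) F) *ᵥ u)) := by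
      rw [hy, ← hκ₂, hμ, coe_ab_mulVec]
    rw [Matrix.mulVec_add, Matrix.mulVec_smul, Matrix.mulVec_smul, hhu, ← hvdef] at hyv
    rcases f2_cases hq a' with rfl | rfl <;> rcases f2_cases hq b' with rfl | rfl
    · exfalso
      apply hμ0
      rw [hμ, zero_smul, zero_smul, add_zero]
    · exfalso
      apply hμω
      rw [hμ, zero_smul, one_smul, zero_add]
    · left
      rw [hyv, one_smul, zero_smul, add_zero, add_comm]
    · right
      rw [hyv, one_smul, one_smul]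
      abel

/-- **P-222**: the case `q = 2`, `r = 2`, `n = 4` of S5886: an overgroup of the `K`-linear group
containing an element that fixes `u` and moves the `K`-line of `u` contains a transvection. -/
theorem k222 {F : Type*} [Field F] [Fintype F] (hq : Fintype.card F = 2)
    {K : Subalgebra F (Matrix (Fin 4) (Fin 4) F)} (hK : Cfsg.Geo.IsFieldSubalgebra 2 K)
    (M : Subgroup (GL (Fin 4) F)) (hM : klG K ≤ M) (u : Fin 4 → F) (hu : u ≠ 0)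
    (h : GL (Fin 4) F) (hh : h ∈ M) (hhu : (h : Matrix (Fin 4) (Fin 4) F) *ᵥ u = u) (ω : ↥K)
    (hω : ∀ k : ↥K, (k : Matrix (Fin 4) (Fin 4) F) *ᵥ u ≠
      (h : Matrix (Fin 4) (Fin 4) F) *ᵥ ((ω : Matrix (Fin 4) (Fin 4) F) *ᵥ u)) :
    ∃ w ψ : Fin 4 → F, w ≠ 0 ∧ ψ ≠ 0 ∧ TM M w ψ := by
  have h2 := f2_two hq
  have : CharP F 2 := CharTwo.of_one_ne_zero_of_two_eq_zero one_ne_zero h2
  have hns : ∀ c : F, ω ≠ c • (1 : ↥K) := by
    intro c hc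
    apply hω (c • (1 : ↥K))
    rw [hc, Subalgebra.coe_smul, OneMemClass.coe_one, Matrix.smul_mulVec, Matrix.one_mulVec,
      Matrix.mulVec_smul, hhu]
  have hω0 : ω ≠ 0 := fun h => hns 0 (by rw [h, zero_smul])
  have hω2 := omega_sq hq hK ω hns
  have hWW : ∀ x : Fin 4 → F, (ω : Matrix (Fin 4) (Fin 4) F) *ᵥ
      ((ω : Matrix (Fin 4) (Fin 4) F) *ᵥ x) = x + (ω : Matrix (Fin 4) (Fin 4) F) *ᵥ x := by
    intro x
    rw [Matrix.mulVec_mulVec, ← Subalgebra.coe_mul, hω2, Subalgebra.coe_add, OneMemClass.coe_one,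
      Matrix.add_mulVec, Matrix.one_mulVec, add_comm]
  obtain ⟨v, hvdef⟩ : ∃ v : Fin 4 → F,
      v = (h : Matrix (Fin 4) (Fin 4) F) *ᵥ ((ω : Matrix (Fin 4) (Fin 4) F) *ᵥ u) := ⟨_, rfl⟩
  rw [← hvdef] at hω
  have hker := bmat_ker hK ω hns u v hu hω
  have hB : Function.Injective (bmat (ω : Matrix (Fin 4) (Fin 4) F) u v).mulVec := by
    intro c d hcd
    have h1 := hker (c - d) (by rw [Matrix.mulVec_sub, hcd, sub_self])
    exact sub_eq_zero.mp h1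
  obtain ⟨s, hs, hsv⟩ := exists_s hq hK ω hω2
  obtain ⟨σ, hσ, hσu, hσv⟩ := exists_swap hq hK u v hu hω
  obtain ⟨τ, hτ, hτu, hτv⟩ := exists_tau hq hK ω hω0 u v hω
  obtain ⟨y, hy, hyu, hyv, hyWu, hyWv⟩ := exists_y hq hK M hM u v hu h hh hhu ω hns hvdef hω
  let φ : ZMod 2 →+* F := ZMod.castHom (dvd_refl 2) F
  have aS : (s : Matrix (Fin 4) (Fin 4) F) * bmat (ω : Matrix (Fin 4) (Fin 4) F) u v =
      bmat (ω : Matrix (Fin 4) (Fin 4) F) u v * RS.map φ := by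
    apply act_gen φ
    · have h1 : (s : Matrix (Fin 4) (Fin 4) F) *ᵥ u = (ω : Matrix (Fin 4) (Fin 4) F) *ᵥ u := by
        rw [hsv]
      simpa [RS] using h1
    · have h1 : (s : Matrix (Fin 4) (Fin 4) F) *ᵥ ((ω : Matrix (Fin 4) (Fin 4) F) *ᵥ u) =
          u + (ω : Matrix (Fin 4) (Fin 4) F) *ᵥ u := by
        rw [hsv, hWW]
      simpa [RS] using h1
    · have h1 : (s : Matrix (Fin 4) (Fin 4) F) *ᵥ v = (ω : Matrix (Fin 4) (Fin 4) F) *ᵥ v := by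
        rw [hsv]
      simpa [RS] using h1
    · have h1 : (s : Matrix (Fin 4) (Fin 4) F) *ᵥ ((ω : Matrix (Fin 4) (Fin 4) F) *ᵥ v) =
          v + (ω : Matrix (Fin 4) (Fin 4) F) *ᵥ v := by
        rw [hsv, hWW]
      simpa [RS] using h1
  have aX : (σ : Matrix (Fin 4) (Fin 4) F) * bmat (ω : Matrix (Fin 4) (Fin 4) F) u v =
      bmat (ω : Matrix (Fin 4) (Fin 4) F) u v * RX.map φ := by
    apply act_gen φ
    · simpa [RX] using hσu
    · have h1 : (σ : Matrix (Fin 4) (Fin 4) F) *ᵥ ((ω : Matrix (Fin 4) (Fin 4) F) *ᵥ u) =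
          (ω : Matrix (Fin 4) (Fin 4) F) *ᵥ v := by
        rw [klG_mulVec hσ, hσu]
      simpa [RX] using h1
    · simpa [RX] using hσv
    · have h1 : (σ : Matrix (Fin 4) (Fin 4) F) *ᵥ ((ω : Matrix (Fin 4) (Fin 4) F) *ᵥ v) =
          (ω : Matrix (Fin 4) (Fin 4) F) *ᵥ u := by
        rw [klG_mulVec hσ, hσv]
      simpa [RX] using h1
  have aT : (τ : Matrix (Fin 4) (Fin 4) F) * bmat (ω : Matrix (Fin 4) (Fin 4) F) u v =
      bmat (ω : Matrix (Fin 4) (Fin 4) F) u v * RT.map φ := by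
    apply act_gen φ
    · simpa [RT] using hτu
    · have h1 : (τ : Matrix (Fin 4) (Fin 4) F) *ᵥ ((ω : Matrix (Fin 4) (Fin 4) F) *ᵥ u) =
          (ω : Matrix (Fin 4) (Fin 4) F) *ᵥ u := by
        rw [klG_mulVec hτ, hτu]
      simpa [RT] using h1
    · simpa [RT] using hτv
    · have h1 : (τ : Matrix (Fin 4) (Fin 4) F) *ᵥ ((ω : Matrix (Fin 4) (Fin 4) F) *ᵥ v) =
          v + (ω : Matrix (Fin 4) (Fin 4) F) *ᵥ v := by
        rw [klG_mulVec hτ, hτv, hWW]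
      simpa [RT] using h1
  rcases hyWv with hyB | hyA
  · have aY : (y : Matrix (Fin 4) (Fin 4) F) * bmat (ω : Matrix (Fin 4) (Fin 4) F) u v =
        bmat (ω : Matrix (Fin 4) (Fin 4) F) u v * RB.map φ := by
      apply act_gen φ
      · simpa [RB] using hyu
      · simpa [RB] using hyWu
      · simpa [RB] using hyv
      · simpa [RB] using hyB
    have h1 := act_mul (act_mul (act_mul (act_mul aY aS) aY) aS) aX
    rw [← Matrix.map_mul, ← Matrix.map_mul, ← Matrix.map_mul, ← Matrix.map_mul, wordB] at h1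
    refine coord_main φ M _ hB (y * s * y * s * σ)
      (M.mul_mem (M.mul_mem (M.mul_mem (M.mul_mem hy (hM hs)) hy) (hM hs)) (hM hσ)) ?_
    rw [Units.val_mul, Units.val_mul, Units.val_mul, Units.val_mul]
    exact h1
  · have aY : (y : Matrix (Fin 4) (Fin 4) F) * bmat (ω : Matrix (Fin 4) (Fin 4) F) u v =
        bmat (ω : Matrix (Fin 4) (Fin 4) F) u v * RA.map φ := by
      apply act_gen φ
      · simpa [RA] using hyu
      · simpa [RA] using hyWu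
      · simpa [RA] using hyv
      · simpa [RA] using hyA
    have h1 := act_mul (act_mul (act_mul (act_mul (act_mul aY aS) aT) aY) aS) aX
    rw [← Matrix.map_mul, ← Matrix.map_mul, ← Matrix.map_mul, ← Matrix.map_mul, ← Matrix.map_mul,
      wordA] at h1
    refine coord_main φ M _ hB (y * s * τ * y * s * σ)
      (M.mul_mem (M.mul_mem (M.mul_mem (M.mul_mem (M.mul_mem hy (hM hs)) (hM hτ)) hy) (hM hs))
        (hM hσ)) ?_
    rw [Units.val_mul, Units.val_mul, Units.val_mul, Units.val_mul, Units.val_mul]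
    exact h1

end main

end Cfsg.Agent.Lib.Helper60.K222
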