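import Mathlib

/-!
# EAB: elementary abelian 2-groups of isometries of an alternating space (piece of S2250)

An elementary abelian `2`-group `E` of isometries of a nondegenerate alternating space of
dimension `d` over a field with `2 ≠ 0` satisfies `|E|² ≤ 2^d`.  Induction on `d`: split the
space into the two eigenspaces of an element different from `± 1`.
-/

set_option autoImplicit false
set_option linter.unusedSimpArgs false
set_option linter.style.haveILetI false

namespace Cfsg.Agent.Lib.Helper60.NRank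

universe u v

section Eig

variable {F : Type u} [Field F] {V : Type v} [AddCommGroup V] [Module F V]

theorem eab_inv_app (g : V ≃ₗ[F] V) (x : V) : g⁻¹ (g x) = x := by
  rw [← LinearEquiv.mul_apply, inv_mul_cancel]
  rfl

theorem eab_app_inv (g : V ≃ₗ[F] V) (x : V) : g (g⁻¹ x) = x := by
  rw [← LinearEquiv.mul_apply, mul_inv_cancel]
  rfl

/-- the fixed space of `g` -/
def fixSub (g : V ≃ₗ[F] V) : Submodule F V where
  carrier := {x | g x = x}
  add_mem' := by
    intro a b ha hb
    show g (a + b) = a + b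
    rw [map_add, show g a = a from ha, show g b = b from hb]
  zero_mem' := map_zero g
  smul_mem' := by
    intro c x hx
    show g (c • x) = c • x
    rw [map_smul, show g x = x from hx]

/-- the `-1`-eigenspace of `g` -/
def negSub (g : V ≃ₗ[F] V) : Submodule F V where
  carrier := {x | g x = -x}
  add_mem' := by
    intro a b ha hb
    show g (a + b) = -(a + b)
    rw [map_add, show g a = -a from ha, show g b = -b from hb, neg_add]
  zero_mem' := by
    show g 0 = -0
    rw [map_zero, neg_zero]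
  smul_mem' := by
    intro c x hx
    show g (c • x) = -(c • x)
    rw [map_smul, show g x = -x from hx, smul_neg]

theorem mem_fixSub {g : V ≃ₗ[F] V} {x : V} : x ∈ fixSub g ↔ g x = x := Iff.rfl

theorem mem_negSub {g : V ≃ₗ[F] V} {x : V} : x ∈ negSub g ↔ g x = -x := Iff.rfl

theorem exists_decomp (h2 : (2 : F) ≠ 0) (g : V ≃ₗ[F] V) (hg : ∀ x, g (g x) = x) (x : V) :
    ∃ p ∈ fixSub g, ∃ n ∈ negSub g, x = p + n := by
  refine ⟨(2 : F)⁻¹ • (x + g x), ?_, (2 : F)⁻¹ • (x - g x), ?_, ?_⟩
  · show g ((2 : F)⁻¹ • (x + g x)) = (2 : F)⁻¹ • (x + g x)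
    rw [map_smul, map_add, hg, add_comm]
  · show g ((2 : F)⁻¹ • (x - g x)) = -((2 : F)⁻¹ • (x - g x))
    rw [map_smul, map_sub, hg, ← smul_neg, neg_sub]
  · rw [← smul_add, add_add_sub_cancel, ← two_smul F x, smul_smul, inv_mul_cancel₀ h2, one_smul]

theorem eq_zero_of_mem_both (h2 : (2 : F) ≠ 0) (g : V ≃ₗ[F] V) {x : V} (hp : x ∈ fixSub g)
    (hn : x ∈ negSub g) : x = 0 := by
  have h : x = -x := (mem_fixSub.1 hp).symm.trans (mem_negSub.1 hn)
  have h' : (2 : F) • x = 0 := by
    rw [two_smul]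
    nth_rewrite 1 [h]
    exact neg_add_cancel x
  exact (smul_eq_zero.1 h').resolve_left h2

theorem isCompl_fix_neg (h2 : (2 : F) ≠ 0) (g : V ≃ₗ[F] V) (hg : ∀ x, g (g x) = x) :
    IsCompl (fixSub g) (negSub g) := by
  constructor
  · rw [Submodule.disjoint_def]
    intro x hp hn
    exact eq_zero_of_mem_both h2 g hp hn
  · rw [codisjoint_iff, eq_top_iff]
    intro x _
    obtain ⟨p, hp, n, hn, rfl⟩ := exists_decomp h2 g hg x
    exact Submodule.add_mem_sup hp hn

theorem orth_fix_neg (h2 : (2 : F) ≠ 0) (B : LinearMap.BilinForm F V) (g : V ≃ₗ[F] V)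
    (hiso : ∀ x y, B (g x) (g y) = B x y) {p n : V} (hp : p ∈ fixSub g) (hn : n ∈ negSub g) :
    B p n = 0 ∧ B n p = 0 := by
  have e1 : B p n = -B p n := by
    have := hiso p n
    rw [mem_fixSub.1 hp, mem_negSub.1 hn, map_neg] at this
    exact this.symm
  have e2 : B n p = -B n p := by
    have := hiso n p
    rw [mem_fixSub.1 hp, mem_negSub.1 hn, map_neg, LinearMap.neg_apply] at this
    exact this.symm
  constructor
  · have : (2 : F) * B p n = 0 := by
      rw [two_mul]
      nth_rewrite 1 [e1]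
      exact neg_add_cancel _
    exact (mul_eq_zero.1 this).resolve_left h2
  · have : (2 : F) * B n p = 0 := by
      rw [two_mul]
      nth_rewrite 1 [e2]
      exact neg_add_cancel _
    exact (mul_eq_zero.1 this).resolve_left h2

theorem restrict_nondeg (B : LinearMap.BilinForm F V) (hB : B.Nondegenerate)
    (W W' : Submodule F V) (hdec : ∀ x, ∃ p ∈ W, ∃ n ∈ W', x = p + n)
    (horth : ∀ p ∈ W, ∀ n ∈ W', B p n = 0 ∧ B n p = 0) : (B.restrict W).Nondegenerate := by
  constructor
  · intro x hx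
    have : (x : V) = 0 := by
      apply hB.1
      intro y
      obtain ⟨p, hp, n, hn, rfl⟩ := hdec y
      rw [map_add, (horth x x.2 n hn).1, add_zero]
      exact hx ⟨p, hp⟩
    exact Subtype.ext this
  · intro y hy
    have : (y : V) = 0 := by
      apply hB.2
      intro x
      obtain ⟨p, hp, n, hn, rfl⟩ := hdec x
      rw [map_add, LinearMap.add_apply, (horth y y.2 n hn).2, add_zero]
      exact hy ⟨p, hp⟩
    exact Subtype.ext this

/-- restriction of an involutive linear equivalence to an invariant submodule -/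
def resI (W : Submodule F V) (h : V ≃ₗ[F] V) (hW : ∀ x ∈ W, h x ∈ W)
    (hh : ∀ x, h (h x) = x) : W ≃ₗ[F] W :=
  LinearEquiv.ofLinearMap ((h : V →ₗ[F] V).restrict hW) ((h : V →ₗ[F] V).restrict hW)
    (by
      apply LinearMap.ext
      intro x
      apply Subtype.ext
      exact hh x)
    (by
      apply LinearMap.ext
      intro x
      apply Subtype.ext
      exact hh x)

theorem resI_apply (W : Submodule F V) (h : V ≃ₗ[F] V) (hW : ∀ x ∈ W, h x ∈ W)
    (hh : ∀ x, h (h x) = x) (x : W) : ((resI W h hW hh x : W) : V) = h x := rfl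

/-- the group of restrictions of the elements of `E` to `W` -/
def resGrp (E : Subgroup (V ≃ₗ[F] V)) (W : Submodule F V) : Subgroup (W ≃ₗ[F] W) where
  carrier := {k | ∃ h ∈ E, ∀ x : W, ((k x : W) : V) = h x}
  mul_mem' := by
    rintro a b ⟨h, hh, ha⟩ ⟨h', hh', hb⟩
    refine ⟨h * h', E.mul_mem hh hh', fun x => ?_⟩
    rw [LinearEquiv.mul_apply, ha, hb, LinearEquiv.mul_apply]
  one_mem' := ⟨1, E.one_mem, fun x => rfl⟩
  inv_mem' := by
    rintro a ⟨h, hh, ha⟩
    refine ⟨h⁻¹, E.inv_mem hh, fun x => ?_⟩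
    have e : h ((a⁻¹ x : W) : V) = x := by
      rw [← ha, eab_app_inv]
    calc ((a⁻¹ x : W) : V) = h⁻¹ (h ((a⁻¹ x : W) : V)) := (eab_inv_app h _).symm
      _ = h⁻¹ x := by rw [e]

theorem mem_resGrp {E : Subgroup (V ≃ₗ[F] V)} {W : Submodule F V} {k : W ≃ₗ[F] W} :
    k ∈ resGrp E W ↔ ∃ h ∈ E, ∀ x : W, ((k x : W) : V) = h x := Iff.rfl

theorem resGrp_comm (E : Subgroup (V ≃ₗ[F] V)) (W : Submodule F V)
    (hcomm : ∀ a ∈ E, ∀ b ∈ E, a * b = b * a) :
    ∀ a ∈ resGrp E W, ∀ b ∈ resGrp E W, a * b = b * a := by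
  rintro a ⟨h, hh, ha⟩ b ⟨h', hh', hb⟩
  apply LinearEquiv.ext
  intro x
  apply Subtype.ext
  rw [LinearEquiv.mul_apply, LinearEquiv.mul_apply, ha, hb, hb, ha, ← LinearEquiv.mul_apply,
    hcomm h hh h' hh', LinearEquiv.mul_apply]

theorem resGrp_exp (E : Subgroup (V ≃ₗ[F] V)) (W : Submodule F V)
    (hexp : ∀ a ∈ E, ∀ x, a (a x) = x) : ∀ a ∈ resGrp E W, a ^ 2 = 1 := by
  rintro a ⟨h, hh, ha⟩
  apply LinearEquiv.ext
  intro x
  apply Subtype.ext
  rw [pow_two, LinearEquiv.mul_apply, ha, ha, hexp h hh]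
  rfl

theorem resGrp_iso (E : Subgroup (V ≃ₗ[F] V)) (W : Submodule F V) (B : LinearMap.BilinForm F V)
    (hiso : ∀ g ∈ E, ∀ x y : V, B (g x) (g y) = B x y) :
    ∀ a ∈ resGrp E W, ∀ x y : W, (B.restrict W) (a x) (a y) = (B.restrict W) x y := by
  rintro a ⟨h, hh, ha⟩ x y
  show B ((a x : W) : V) ((a y : W) : V) = B (x : V) (y : V)
  rw [ha, ha, hiso h hh]

/-- the restriction map `E → resGrp E W` -/
def resMap (E : Subgroup (V ≃ₗ[F] V)) (W : Submodule F V) (hW : ∀ h ∈ E, ∀ x ∈ W, h x ∈ W)
    (hexp : ∀ a ∈ E, ∀ x, a (a x) = x) (h : E) : resGrp E W :=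
  ⟨resI W h (hW h h.2) (hexp h h.2), h, h.2, fun _ => rfl⟩

theorem resMap_apply (E : Subgroup (V ≃ₗ[F] V)) (W : Submodule F V)
    (hW : ∀ h ∈ E, ∀ x ∈ W, h x ∈ W) (hexp : ∀ a ∈ E, ∀ x, a (a x) = x) (h : E) (x : W) :
    (((resMap E W hW hexp h : resGrp E W) : W ≃ₗ[F] W) x : V) = (h : V ≃ₗ[F] V) x := rfl

theorem resMap_surj (E : Subgroup (V ≃ₗ[F] V)) (W : Submodule F V)
    (hW : ∀ h ∈ E, ∀ x ∈ W, h x ∈ W) (hexp : ∀ a ∈ E, ∀ x, a (a x) = x) :
    Function.Surjective (resMap E W hW hexp) := by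
  rintro ⟨k, h, hh, hk⟩
  refine ⟨⟨h, hh⟩, ?_⟩
  apply Subtype.ext
  apply LinearEquiv.ext
  intro x
  apply Subtype.ext
  exact (hk x).symm

theorem card_le_mul (E : Subgroup (V ≃ₗ[F] V)) [Finite E] (W W' : Submodule F V)
    (hdec : ∀ x, ∃ p ∈ W, ∃ n ∈ W', x = p + n)
    (hW : ∀ h ∈ E, ∀ x ∈ W, h x ∈ W) (hW' : ∀ h ∈ E, ∀ x ∈ W', h x ∈ W')
    (hexp : ∀ a ∈ E, ∀ x, a (a x) = x) :
    Finite (resGrp E W) ∧ Finite (resGrp E W') ∧
      Nat.card E ≤ Nat.card (resGrp E W) * Nat.card (resGrp E W') := by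
  haveI f1 : Finite (resGrp E W) := Finite.of_surjective _ (resMap_surj E W hW hexp)
  haveI f2 : Finite (resGrp E W') := Finite.of_surjective _ (resMap_surj E W' hW' hexp)
  refine ⟨f1, f2, ?_⟩
  rw [← Nat.card_prod]
  apply Nat.card_le_card_of_injective
    (fun h : E => (resMap E W hW hexp h, resMap E W' hW' hexp h))
  intro a b hab
  have h1 : resMap E W hW hexp a = resMap E W hW hexp b := congrArg Prod.fst hab
  have h2 : resMap E W' hW' hexp a = resMap E W' hW' hexp b := congrArg Prod.snd hab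
  apply Subtype.ext
  apply LinearEquiv.ext
  intro x
  obtain ⟨p, hp, n, hn, rfl⟩ := hdec x
  have e1 : (a : V ≃ₗ[F] V) p = (b : V ≃ₗ[F] V) p := by
    have := congrArg (fun k : resGrp E W => (((k : W ≃ₗ[F] W) ⟨p, hp⟩ : W) : V)) h1
    exact this
  have e2 : (a : V ≃ₗ[F] V) n = (b : V ≃ₗ[F] V) n := by
    have := congrArg (fun k : resGrp E W' => (((k : W' ≃ₗ[F] W') ⟨n, hn⟩ : W') : V)) h2
    exact this
  rw [map_add, map_add, e1, e2]

end Eig

/-- EAB: an elementary abelian `2`-group of isometries of a nondegenerate alternating space of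
dimension `d` (over a field in which `2 ≠ 0`) has order at most `2^(d/2)`. -/
theorem ea_isometry_bound {F : Type u} [Field F] (h2 : (2 : F) ≠ 0) :
    ∀ (d : ℕ) (V : Type v) [AddCommGroup V] [Module F V] [FiniteDimensional F V]
      (B : LinearMap.BilinForm F V), Module.finrank F V = d → B.IsAlt → B.Nondegenerate →
      ∀ E : Subgroup (V ≃ₗ[F] V), Finite E → (∀ a ∈ E, ∀ b ∈ E, a * b = b * a) →
        (∀ a ∈ E, a ^ 2 = 1) → (∀ g ∈ E, ∀ x y : V, B (g x) (g y) = B x y) →
        Nat.card E ^ 2 ≤ 2 ^ d := by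
  intro d
  induction d using Nat.strong_induction_on with
  | _ d ih =>
    intro V _ _ _ B hd halt hnd E hfin hcomm hexp hiso
    haveI := hfin
    have hexp' : ∀ a ∈ E, ∀ x, a (a x) = x := by
      intro a ha x
      have := hexp a ha
      rw [pow_two] at this
      have h := congrArg (fun f : V ≃ₗ[F] V => f x) this
      exact h
    by_cases hcase : ∀ g ∈ E, (∀ x, g x = x) ∨ (∀ x, g x = -x)
    · classical
      have hle : Nat.card E ≤ 2 := by
        let f : E → Bool := fun h => decide (∀ x, (h : V ≃ₗ[F] V) x = x)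
        have hf : Function.Injective f := by
          intro a b hab
          apply Subtype.ext
          apply LinearEquiv.ext
          intro x
          by_cases ha : ∀ x, (a : V ≃ₗ[F] V) x = x
          · have hb : ∀ x, (b : V ≃ₗ[F] V) x = x := by
              have : f b = true := by
                rw [← hab]
                exact decide_eq_true ha
              exact of_decide_eq_true this
            rw [ha, hb]
          · have hb : ¬ ∀ x, (b : V ≃ₗ[F] V) x = x := by
              intro hb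
              have : f a = true := by
                rw [hab]
                exact decide_eq_true hb
              exact ha (of_decide_eq_true this)
            rw [(hcase a a.2).resolve_left ha, (hcase b b.2).resolve_left hb]
        have := Nat.card_le_card_of_injective f hf
        rwa [Nat.card_eq_fintype_card (α := Bool), Fintype.card_bool] at this
      rcases Nat.lt_or_ge d 2 with hd2 | hd2
      · have hd01 : d = 0 ∨ d = 1 := by omega
        rcases hd01 with rfl | rfl
        · haveI : Subsingleton V := Module.finrank_zero_iff.1 hd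
          haveI : Subsingleton E :=
            ⟨fun a b => Subtype.ext (LinearEquiv.ext fun x => Subsingleton.elim _ _)⟩
          have : Nat.card E ≤ 1 := Finite.card_le_one_iff_subsingleton.2 inferInstance
          have h1 : Nat.card E ^ 2 ≤ 1 ^ 2 := Nat.pow_le_pow_left this 2
          simpa using h1
        · exfalso
          obtain ⟨v, hv0, hv⟩ := finrank_eq_one_iff'.1 hd
          apply hv0
          apply hnd.1
          intro w
          obtain ⟨c, rfl⟩ := hv w
          rw [map_smul, smul_eq_mul, halt v, mul_zero]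
      · calc Nat.card E ^ 2 ≤ 2 ^ 2 := Nat.pow_le_pow_left hle 2
          _ ≤ 2 ^ d := Nat.pow_le_pow_right (by norm_num) hd2
    · push Not at hcase
      obtain ⟨g, hgE, ⟨x₁, hx₁⟩, ⟨x₂, hx₂⟩⟩ := hcase
      have hgg := hexp' g hgE
      have hdec := exists_decomp h2 g hgg
      have hdec' : ∀ x, ∃ p ∈ negSub g, ∃ n ∈ fixSub g, x = p + n := by
        intro x
        obtain ⟨p, hp, n, hn, rfl⟩ := hdec x
        exact ⟨n, hn, p, hp, add_comm p n⟩
      have horth : ∀ p ∈ fixSub g, ∀ n ∈ negSub g, B p n = 0 ∧ B n p = 0 :=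
        fun p hp n hn => orth_fix_neg h2 B g (hiso g hgE) hp hn
      have horth' : ∀ p ∈ negSub g, ∀ n ∈ fixSub g, B p n = 0 ∧ B n p = 0 :=
        fun p hp n hn => (horth n hn p hp).symm
      have hWp : ∀ h ∈ E, ∀ x ∈ fixSub g, h x ∈ fixSub g := by
        intro h hh x hx
        show g (h x) = h x
        rw [← LinearEquiv.mul_apply, hcomm g hgE h hh, LinearEquiv.mul_apply, mem_fixSub.1 hx]
      have hWn : ∀ h ∈ E, ∀ x ∈ negSub g, h x ∈ negSub g := by
        intro h hh x hx
        show g (h x) = -(h x)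
        rw [← LinearEquiv.mul_apply, hcomm g hgE h hh, LinearEquiv.mul_apply, mem_negSub.1 hx,
          map_neg]
      obtain ⟨f1, f2, hcard⟩ := card_le_mul E (fixSub g) (negSub g) hdec hWp hWn hexp'
      have hdim : Module.finrank F (fixSub g) + Module.finrank F (negSub g) = d := by
        rw [← hd]
        exact Submodule.finrank_add_eq_of_isCompl (isCompl_fix_neg h2 g hgg)
      have hpos_n : 0 < Module.finrank F (negSub g) := by
        rw [Module.finrank_pos_iff_exists_ne_zero]
        refine ⟨⟨x₁ - g x₁, ?_⟩, ?_⟩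
        · show g (x₁ - g x₁) = -(x₁ - g x₁)
          rw [map_sub, hgg, neg_sub]
        · intro h0
          have : x₁ - g x₁ = 0 := congrArg Subtype.val h0
          exact hx₁ (sub_eq_zero.1 this).symm
      have hpos_p : 0 < Module.finrank F (fixSub g) := by
        rw [Module.finrank_pos_iff_exists_ne_zero]
        refine ⟨⟨x₂ + g x₂, ?_⟩, ?_⟩
        · show g (x₂ + g x₂) = x₂ + g x₂
          rw [map_add, hgg, add_comm]
        · intro h0
          have : x₂ + g x₂ = 0 := congrArg Subtype.val h0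
          exact hx₂ (eq_neg_of_add_eq_zero_right this)
      have ih1 := ih (Module.finrank F (fixSub g)) (by omega) (fixSub g) (B.restrict (fixSub g))
        rfl (fun x => halt (x : V)) (restrict_nondeg B hnd _ _ hdec horth) (resGrp E (fixSub g))
        f1 (resGrp_comm E _ hcomm) (resGrp_exp E _ hexp') (resGrp_iso E _ B hiso)
      have ih2 := ih (Module.finrank F (negSub g)) (by omega) (negSub g) (B.restrict (negSub g))
        rfl (fun x => halt (x : V)) (restrict_nondeg B hnd _ _ hdec' horth') (resGrp E (negSub g))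
        f2 (resGrp_comm E _ hcomm) (resGrp_exp E _ hexp') (resGrp_iso E _ B hiso)
      calc Nat.card E ^ 2
          ≤ (Nat.card (resGrp E (fixSub g)) * Nat.card (resGrp E (negSub g))) ^ 2 :=
            Nat.pow_le_pow_left hcard 2
        _ = Nat.card (resGrp E (fixSub g)) ^ 2 * Nat.card (resGrp E (negSub g)) ^ 2 :=
            mul_pow _ _ _
        _ ≤ 2 ^ Module.finrank F (fixSub g) * 2 ^ Module.finrank F (negSub g) :=
            Nat.mul_le_mul ih1 ih2
        _ = 2 ^ d := by rw [← pow_add, hdim]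

end Cfsg.Agent.Lib.Helper60.NRank
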