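import Mathlib
import Cfsg.Agent.Lib.Helper60.NRankEAB

/-!
# SPR: elementary abelian 2-subgroups of the matrix group `Sp_2n(F)` (piece of S2250)
-/

set_option autoImplicit false

namespace Cfsg.Agent.Lib.Helper60.NRank

universe u

section SPR

variable {F : Type u} [Field F] (n : ℕ)

/-- the standard alternating form on `F^(2n)` -/
noncomputable def sprB : LinearMap.BilinForm F (Fin n ⊕ Fin n → F) :=
  Matrix.toBilin' (Matrix.J (Fin n) F)

theorem sprB_alt (h2 : (2 : F) ≠ 0) : (sprB (F := F) n).IsAlt := by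
  intro x
  show Matrix.toBilin' (Matrix.J (Fin n) F) x x = 0
  rw [Matrix.toBilin'_apply']
  have e : x ⬝ᵥ (Matrix.J (Fin n) F).mulVec x = -(x ⬝ᵥ (Matrix.J (Fin n) F).mulVec x) := by
    conv_lhs => rw [Matrix.dotProduct_mulVec, ← Matrix.mulVec_transpose, Matrix.J_transpose,
      Matrix.neg_mulVec, neg_dotProduct, dotProduct_comm]
  have h : (2 : F) * (x ⬝ᵥ (Matrix.J (Fin n) F).mulVec x) = 0 := by
    rw [two_mul]
    nth_rewrite 1 [e]
    exact neg_add_cancel _
  exact (mul_eq_zero.1 h).resolve_left h2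

theorem sprB_nondeg : (sprB (F := F) n).Nondegenerate :=
  LinearMap.BilinForm.nondegenerate_toBilin'_of_det_ne_zero' _ (Matrix.isUnit_det_J (Fin n) F).ne_zero

/-- the action of the symplectic matrices on `F^(2n)` -/
noncomputable def sprHom :
    Matrix.symplecticGroup (Fin n) F →* ((Fin n ⊕ Fin n → F) ≃ₗ[F] (Fin n ⊕ Fin n → F)) :=
  (LinearMap.GeneralLinearGroup.generalLinearEquiv F (Fin n ⊕ Fin n → F)).toMonoidHom.comp
    (MonoidHom.toHomUnits
      ((Matrix.toLinAlgEquiv' : Matrix (Fin n ⊕ Fin n) (Fin n ⊕ Fin n) F ≃ₐ[F] _).toAlgHom.toMonoidHom.comp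
        (Matrix.symplecticGroup (Fin n) F).subtype))

theorem sprHom_apply (A : Matrix.symplecticGroup (Fin n) F) (x : Fin n ⊕ Fin n → F) :
    sprHom n A x = Matrix.toLin' (A : Matrix (Fin n ⊕ Fin n) (Fin n ⊕ Fin n) F) x := rfl

theorem sprHom_injective : Function.Injective (sprHom (F := F) n) := by
  intro A A' h
  apply Subtype.ext
  apply Matrix.toLin'.injective
  apply LinearMap.ext
  intro x
  rw [← sprHom_apply, ← sprHom_apply, h]

theorem sprHom_iso (A : Matrix.symplecticGroup (Fin n) F) (x y : Fin n ⊕ Fin n → F) :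
    sprB n (sprHom n A x) (sprHom n A y) = sprB n x y := by
  have hA := SymplecticGroup.mem_iff'.1 A.2
  rw [sprHom_apply, sprHom_apply]
  show (Matrix.toBilin' (Matrix.J (Fin n) F))
    (Matrix.toLin' (A : Matrix (Fin n ⊕ Fin n) (Fin n ⊕ Fin n) F) x)
    (Matrix.toLin' (A : Matrix (Fin n ⊕ Fin n) (Fin n ⊕ Fin n) F) y) =
    (Matrix.toBilin' (Matrix.J (Fin n) F)) x y
  rw [← LinearMap.BilinForm.comp_apply, Matrix.toBilin'_comp, hA]

end SPR

/-- SPR: an elementary abelian `2`-subgroup of `Sp_2n(F)` has order at most `2^n`. -/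
theorem sp_two_rank {F : Type u} [Field F] [Fintype F] (h2 : (2 : F) ≠ 0) (n : ℕ)
    (E : Subgroup (Matrix.symplecticGroup (Fin n) F))
    (hcomm : ∀ a ∈ E, ∀ b ∈ E, a * b = b * a) (hexp : ∀ a ∈ E, a ^ 2 = 1) :
    Nat.card E ≤ 2 ^ n := by
  have hfinE : Finite E := inferInstance
  have hfin : Finite (E.map (sprHom (F := F) n)) :=
    Finite.of_surjective
      (fun a : E => (⟨sprHom n (a : Matrix.symplecticGroup (Fin n) F),
        Subgroup.mem_map_of_mem _ a.2⟩ : E.map (sprHom (F := F) n)))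
      (by
        rintro ⟨_, a, ha, rfl⟩
        exact ⟨⟨a, ha⟩, rfl⟩)
  have hd : Module.finrank F (Fin n ⊕ Fin n → F) = 2 * n := by
    rw [Module.finrank_fintype_fun_eq_card, Fintype.card_sum, Fintype.card_fin, two_mul]
  have hmain := ea_isometry_bound h2 (2 * n) (Fin n ⊕ Fin n → F) (sprB n) hd (sprB_alt n h2)
    (sprB_nondeg n) (E.map (sprHom (F := F) n)) hfin
    (by
      rintro _ ⟨a, ha, rfl⟩ _ ⟨b, hb, rfl⟩
      rw [← map_mul, hcomm a ha b hb, map_mul])
    (by
      rintro _ ⟨a, ha, rfl⟩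
      rw [← map_pow, hexp a ha, map_one])
    (by
      rintro _ ⟨a, ha, rfl⟩ x y
      exact sprHom_iso n a x y)
  rw [Subgroup.card_map_of_injective (sprHom_injective n), pow_mul'] at hmain
  exact (Nat.pow_le_pow_iff_left (by norm_num)).1 hmain

end Cfsg.Agent.Lib.Helper60.NRank
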