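import Mathlib
import Cfsg.Agent.Lib.Helper49.O2Base

set_option autoImplicit false

namespace Cfsg.Agent.Lib.Helper60.O2Syl

open Cfsg.Agent.Lib.Helper49.O2Syl

variable {F : Type*} [Field F] [Fintype F] {V : Type*} [AddCommGroup V] [Module F V]

/-- EVEN: a nontrivial submodule of a finite space over the field with two elements has an
even number of elements -/
theorem even_nW [Finite V] (hF : Fintype.card F = 2) (Q : QuadraticForm F V)
    (U : Submodule F V) (hne : ∃ w ∈ perp Q U, w ≠ 0) : Even (nW Q U) := by
  obtain ⟨w, hw, hw0⟩ := hne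
  have h1 : nW Q U = Nat.card (perp Q U) := by
    unfold nW
    rw [← Nat.card_coe_set_eq]
    rfl
  rw [h1, even_iff_two_dvd]
  have ho : addOrderOf (⟨w, hw⟩ : perp Q U) = 2 := by
    apply addOrderOf_eq_prime
    · rw [two_nsmul]
      exact Subtype.ext (add_self_V hF w)
    · intro h
      exact hw0 (congrArg Subtype.val h)
  rw [← ho]
  exact addOrderOf_dvd_natCard _

end Cfsg.Agent.Lib.Helper60.O2Syl
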