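import Mathlib
import Cfsg.Agent.Lib.Helper44.PU3Defs

/-!
# PU3 project (S2784 + S2786), piece COREA: a product of three unitary transvections with the
same parameter of order `r`

Delivered for helper44 (signature from `tools/helper44/PU3Skel.lean.txt`).
-/

set_option autoImplicit false

namespace Cfsg.Agent.Lib.Helper44.PU3

open Matrix

theorem pu3corea_three_pow {F : Type*} [Field F] [Fintype F] {q : ℕ}
    (hF : Fintype.card F = q ^ 2) : (3 : F) ^ q = 3 := by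
  have h3 : (3 : F) = 1 + 1 + 1 := by norm_num
  rw [h3, Cfsg.Agent.Lib.Helper7.herm_add_pow hF, Cfsg.Agent.Lib.Helper7.herm_add_pow hF, one_pow]

theorem pu3corea_isSU3_tv {F : Type*} [Field F] [Fintype F] {q : ℕ}
    (hF : Fintype.card F = q ^ 2) (v : Fin 3 → F) (c : F)
    (hvv : Cfsg.hermForm 3 F q v v = 0) (hc : c + c ^ q = 0) :
    IsSU3 q (Cfsg.unitaryTransvection 3 q v c) :=
  ⟨Cfsg.Agent.Lib.Helper18.transvection_det 3 v c hvv,
    Cfsg.Agent.Lib.Helper18.transvection_preserves hF 3 v c hvv hc⟩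

theorem pu3corea_isSU3_mul {F : Type*} [Field F] {q : ℕ}
    {A B : Matrix (Fin 3) (Fin 3) F} (hA : IsSU3 q A) (hB : IsSU3 q B) : IsSU3 q (A * B) := by
  refine ⟨by rw [Matrix.det_mul, hA.1, hB.1, one_mul], fun u v => ?_⟩
  rw [← Matrix.mulVec_mulVec, ← Matrix.mulVec_mulVec, hA.2, hB.2]

theorem pu3_corea {F : Type*} [Field F] [Fintype F] (q : ℕ) (h1 : G0Stmt F q) (h2 : EigStmt F) (h3 : NonDerStmt F) (h4 : TrNeStmt F q) (h5 : TrSolStmt F q) (h6 : CHStmt F q) (h7 : RecStmt F) : CoreAStmt F q := by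
  intro hF r hr hr1 hr2 hr3 hr4 c hc0 hc
  obtain ⟨g0, hg0SU, hg0r, hg01⟩ := h1 hF r hr hr1 hr2
  have heig : ∀ μ : F, (g0 - μ • (1 : Matrix (Fin 3) (Fin 3) F)).det ≠ 0 :=
    h2 r g0 hr (by rw [hF]; exact hr3) (by rw [hF]; exact hr4) hg0r hg01
  have hτ : g0.trace ^ q ≠ g0.trace := h4 hF g0 hg0SU heig
  have h3q := pu3corea_three_pow hF
  have ht : (g0.trace - 3) ^ q ≠ g0.trace - 3 := by
    rw [Cfsg.Agent.Lib.Helper7.herm_sub_pow hF, h3q]
    intro h
    exact hτ (sub_left_injective h)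
  obtain ⟨v₁, v₂, v₃, hv1, hv2, hv3, hi1, hi2, hi3, htr⟩ := h5 hF (g0.trace - 3) c ht hc0 hc
  refine ⟨v₁, v₂, v₃, hv1, hv2, hv3, hi1, hi2, hi3, ?_, ?_⟩
  · have hYSU : IsSU3 q (Cfsg.unitaryTransvection 3 q v₁ c * Cfsg.unitaryTransvection 3 q v₂ c *
        Cfsg.unitaryTransvection 3 q v₃ c) :=
      pu3corea_isSU3_mul (pu3corea_isSU3_mul (pu3corea_isSU3_tv hF v₁ c hi1 hc)
        (pu3corea_isSU3_tv hF v₂ c hi2 hc)) (pu3corea_isSU3_tv hF v₃ c hi3 hc)
    have hYtr : (Cfsg.unitaryTransvection 3 q v₁ c * Cfsg.unitaryTransvection 3 q v₂ c *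
        Cfsg.unitaryTransvection 3 q v₃ c).trace = g0.trace := by
      rw [htr]
      ring
    have hYeq := h6 hF _ hYSU
    rw [hYtr] at hYeq
    have hg0eq := h6 hF g0 hg0SU
    exact h7 _ g0 g0.trace (g0.trace ^ q) r hYeq hg0eq (h3 g0 heig) hg0r
  · intro hY1
    rw [hY1] at htr
    have h33 : (1 : Matrix (Fin 3) (Fin 3) F).trace = 3 := by
      simp [Matrix.trace_one]
    rw [h33] at htr
    have hτ3 : g0.trace = 3 := by
      linear_combination -htr
    apply hτ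
    rw [hτ3, h3q]

end Cfsg.Agent.Lib.Helper44.PU3
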