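import Mathlib
import Cfsg.Agent.S0058

set_option autoImplicit false
set_option linter.unusedSimpArgs false
set_option linter.unusedVariables false

namespace Cfsg.Agent.Lib.Helper60.QFix

/-- Coprime generation, transferred to a group of automorphisms. -/
theorem L1 {W : Type*} [Group W] [Finite W] (hW : IsPGroup 2 W) {p : ℕ} [Fact p.Prime] (hp : p ≠ 2)
    (E : Subgroup (MulAut W)) (hE : IsPGroup p ↥E) (hab : IsMulCommutative ↥E)
    (hnc : ¬ IsCyclic ↥E)
    (K P : Subgroup W) (hK : ∀ e ∈ E, ∀ x ∈ K, e x ∈ K)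
    (h : ∀ e ∈ E, e ≠ 1 → ∀ x ∈ K, e x = x → x ∈ P) : K ≤ P := by
  classical
  let φ : ↥E →* MulAut W := E.subtype
  let A : Subgroup (W ⋊[φ] ↥E) := (SemidirectProduct.inr : ↥E →* W ⋊[φ] ↥E).range
  let K' : Subgroup (W ⋊[φ] ↥E) := K.map (SemidirectProduct.inl : W →* W ⋊[φ] ↥E)
  have hinj : Function.Injective (SemidirectProduct.inr : ↥E →* W ⋊[φ] ↥E) :=
    SemidirectProduct.inr_injective
  have hinjl : Function.Injective (SemidirectProduct.inl : W →* W ⋊[φ] ↥E) :=
    SemidirectProduct.inl_injective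
  haveI : Finite (W ⋊[φ] ↥E) := Finite.of_equiv (W × ↥E) SemidirectProduct.equivProd.symm
  haveI : IsMulCommutative ↥A := by
    refine ⟨⟨fun a b => ?_⟩⟩
    obtain ⟨a, e₁, rfl⟩ := a
    obtain ⟨b, e₂, rfl⟩ := b
    apply Subtype.ext
    show SemidirectProduct.inr e₁ * SemidirectProduct.inr e₂
      = SemidirectProduct.inr e₂ * SemidirectProduct.inr e₁
    rw [← map_mul, ← map_mul, hab.is_comm.comm e₁ e₂]
  have hAnc : ¬ IsCyclic ↥A := by
    intro hc
    apply hnc
    let f := (MonoidHom.ofInjective hinj).symm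
    exact isCyclic_of_surjective f.toMonoidHom f.surjective
  have hAp : IsPGroup p ↥A := hE.of_equiv (MonoidHom.ofInjective hinj)
  have hK'2 : IsPGroup 2 ↥K' := (hW.to_subgroup K).map _
  have hcop : (Nat.card ↥A).Coprime (Nat.card ↥K') :=
    IsPGroup.coprime_card_of_ne p 2 hp A K' hAp hK'2
  have hnorm1 : ∀ (e : ↥E) (n : W ⋊[φ] ↥E), n ∈ K' →
      SemidirectProduct.inr e * n * (SemidirectProduct.inr e)⁻¹ ∈ K' := by
    intro e n hn
    obtain ⟨k, hk, rfl⟩ := hn
    rw [← map_inv, ← SemidirectProduct.inl_aut]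
    exact ⟨φ e k, hK e.1 e.2 k hk, rfl⟩
  have hAK : A ≤ Subgroup.normalizer (K' : Set (W ⋊[φ] ↥E)) := by
    rintro a ⟨e, rfl⟩
    rw [Subgroup.mem_normalizer_iff]
    intro n
    refine ⟨hnorm1 e n, fun hn => ?_⟩
    have := hnorm1 e⁻¹ _ hn
    rw [map_inv] at this
    simpa [mul_assoc] using this
  have key := Cfsg.Agent.S0058.result A K' hAnc hAK hcop
  have hle : K' ≤ P.map (SemidirectProduct.inl : W →* W ⋊[φ] ↥E) := by
    rw [← key]
    refine iSup₂_le ?_
    rintro a ⟨⟨e, rfl⟩, ha1⟩ x ⟨hx1, hx2⟩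
    obtain ⟨k, hk, rfl⟩ := hx1
    have hcomm := Subgroup.mem_centralizer_iff.mp hx2 _ (Set.mem_singleton _)
    have hl := congrArg SemidirectProduct.left hcomm
    simp only [SemidirectProduct.mul_left, SemidirectProduct.left_inr, SemidirectProduct.right_inr,
      SemidirectProduct.left_inl, SemidirectProduct.right_inl, one_mul, map_one, mul_one,
      MulAut.one_apply] at hl
    have he1 : (e : MulAut W) ≠ 1 := by
      intro he
      apply ha1
      have : e = 1 := Subtype.ext he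
      rw [this, map_one]
    exact ⟨k, h e.1 e.2 he1 k hk hl, rfl⟩
  exact (Subgroup.map_le_map_iff_of_injective hinjl).mp hle

end Cfsg.Agent.Lib.Helper60.QFix
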