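import Mathlib
import Cfsg.Agent.Lib.Helper60.QFix
import Cfsg.Agent.Lib.Helper94.QFixL2
import Cfsg.Agent.Lib.Helper58.QFixC
import Cfsg.Agent.Lib.Helper3.Extra4
import Cfsg.Agent.S4416

set_option autoImplicit false
set_option linter.unusedSimpArgs false
set_option linter.unusedVariables false
set_option linter.unusedSectionVars false
set_option linter.style.haveILetI false

namespace Cfsg.Agent.Lib.Helper60.QFix

open Cfsg.Agent.Lib.Helper94.QFixL2

section cz
variable {W : Type*} [Group W]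

/-- conjugation by `x` fixes `y` up to the central involution `z` -/
def cz (z x y : W) : Prop := x * y * x⁻¹ = y ∨ x * y * x⁻¹ = z * y

variable {z : W} (hzc : ∀ g : W, g * z = z * g) (hz2 : z * z = 1)

theorem cj_split (x a b : W) : x * (a * b) * x⁻¹ = (x * a * x⁻¹) * (x * b * x⁻¹) := by group

theorem cj_inv_split (x a : W) : x * a⁻¹ * x⁻¹ = (x * a * x⁻¹)⁻¹ := by group

theorem cj_mul_11 {x a b : W} (ha : x * a * x⁻¹ = a) (hb : x * b * x⁻¹ = b) :
    x * (a * b) * x⁻¹ = a * b := by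
  rw [cj_split, ha, hb]

include hzc in
theorem cj_mul_1z {x a b : W} (ha : x * a * x⁻¹ = a) (hb : x * b * x⁻¹ = z * b) :
    x * (a * b) * x⁻¹ = z * (a * b) := by
  rw [cj_split, ha, hb, ← mul_assoc, hzc a, mul_assoc]

theorem cj_mul_z1 {x a b : W} (ha : x * a * x⁻¹ = z * a) (hb : x * b * x⁻¹ = b) :
    x * (a * b) * x⁻¹ = z * (a * b) := by
  rw [cj_split, ha, hb, mul_assoc]

include hzc hz2 in
theorem cj_mul_zz {x a b : W} (ha : x * a * x⁻¹ = z * a) (hb : x * b * x⁻¹ = z * b) :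
    x * (a * b) * x⁻¹ = a * b := by
  rw [cj_split, ha, hb]
  calc z * a * (z * b) = z * (a * z) * b := by group
    _ = z * (z * a) * b := by rw [hzc a]
    _ = (z * z) * a * b := by group
    _ = a * b := by rw [hz2, one_mul]

theorem cj_inv_1 {x a : W} (ha : x * a * x⁻¹ = a) : x * a⁻¹ * x⁻¹ = a⁻¹ := by
  rw [cj_inv_split, ha]

include hz2 in
theorem z_inv : z⁻¹ = z := inv_eq_of_mul_eq_one_left hz2

include hzc hz2 in
theorem cj_inv_z {x a : W} (ha : x * a * x⁻¹ = z * a) : x * a⁻¹ * x⁻¹ = z * a⁻¹ := by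
  rw [cj_inv_split, ha, mul_inv_rev, z_inv hz2, hzc]

theorem cj_symm_1 {x y : W} (h : x * y * x⁻¹ = y) : y * x * y⁻¹ = x := by
  have h1 : x * y = y * x := by
    calc x * y = (x * y * x⁻¹) * x := by group
      _ = y * x := by rw [h]
  calc y * x * y⁻¹ = (x * y) * y⁻¹ := by rw [h1]
    _ = x := by group

include hzc hz2 in
theorem cj_symm_z {x y : W} (h : x * y * x⁻¹ = z * y) : y * x * y⁻¹ = z * x := by
  have h1 : x * y = z * (y * x) := by
    calc x * y = (x * y * x⁻¹) * x := by group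
      _ = z * (y * x) := by rw [h, mul_assoc]
  have h2 : y * x = z * (x * y) := by
    rw [h1, ← mul_assoc, hz2, one_mul]
  calc y * x * y⁻¹ = z * (x * y) * y⁻¹ := by rw [h2]
    _ = z * x := by group

include hzc hz2 in
theorem cz_mul_right {x a b : W} (ha : cz z x a) (hb : cz z x b) : cz z x (a * b) := by
  rcases ha with ha | ha <;> rcases hb with hb | hb
  · exact Or.inl (cj_mul_11 ha hb)
  · exact Or.inr (cj_mul_1z hzc ha hb)
  · exact Or.inr (cj_mul_z1 ha hb)
  · exact Or.inl (cj_mul_zz hzc hz2 ha hb)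

include hzc hz2 in
theorem cz_inv_right {x a : W} (ha : cz z x a) : cz z x a⁻¹ := by
  rcases ha with ha | ha
  · exact Or.inl (cj_inv_1 ha)
  · exact Or.inr (cj_inv_z hzc hz2 ha)

include hzc hz2 in
theorem cz_symm {x y : W} (h : cz z x y) : cz z y x := by
  rcases h with h | h
  · exact Or.inl (cj_symm_1 h)
  · exact Or.inr (cj_symm_z hzc hz2 h)

include hzc hz2 in
theorem cz_mul_left {a b y : W} (ha : cz z a y) (hb : cz z b y) : cz z (a * b) y :=
  cz_symm hzc hz2 (cz_mul_right hzc hz2 (cz_symm hzc hz2 ha) (cz_symm hzc hz2 hb))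

include hzc hz2 in
theorem cz_inv_left {a y : W} (ha : cz z a y) : cz z a⁻¹ y :=
  cz_symm hzc hz2 (cz_inv_right hzc hz2 (cz_symm hzc hz2 ha))

theorem cz_one_left (y : W) : cz z 1 y := Or.inl (by group)

include hzc in
theorem cz_z_left (y : W) : cz z z y := by
  left
  rw [← hzc y, mul_assoc, mul_inv_cancel, mul_one]

include hz2 in
theorem mem_zpowers_z {y : W} : y ∈ Subgroup.zpowers z ↔ y = 1 ∨ y = z := by
  constructor
  · rintro ⟨k, rfl⟩
    have hz2' : z ^ (2 : ℤ) = 1 := by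
      rw [zpow_ofNat, pow_two, hz2]
    have hk : k = k % 2 + 2 * (k / 2) := (Int.emod_add_mul_ediv k 2).symm
    have h1 : z ^ k = z ^ (k % 2) := by
      conv_lhs => rw [hk]
      rw [zpow_add, zpow_mul, hz2', one_zpow, mul_one]
    rcases Int.emod_two_eq_zero_or_one k with h | h
    · left
      show z ^ k = 1
      rw [h1, h, zpow_zero]
    · right
      show z ^ k = z
      rw [h1, h, zpow_one]
  · rintro (rfl | rfl)
    · exact Subgroup.one_mem _
    · exact Subgroup.mem_zpowers _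

theorem cent_of {i j g : W} (hi : i * g * i⁻¹ = g) (hj : j * g * j⁻¹ = g) :
    ∀ k : ℕ, i ^ k * g = g * i ^ k ∧ (j * i ^ k) * g = g * (j * i ^ k) := by
  have ci : Commute i g := by
    show i * g = g * i
    calc i * g = (i * g * i⁻¹) * i := by group
      _ = g * i := by rw [hi]
  have cjj : Commute j g := by
    show j * g = g * j
    calc j * g = (j * g * j⁻¹) * j := by group
      _ = g * j := by rw [hj]
  intro k
  exact ⟨(ci.pow_left k).eq, (cjj.mul_left (ci.pow_left k)).eq⟩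

end cz


section quot
variable {W : Type*} [Group W] [Finite W]

/-- an element of the second centre modulo `⟨z⟩` outside `⟨z⟩` -/
theorem second_center (hW : IsPGroup 2 W) {z : W} (hzc : ∀ g : W, g * z = z * g)
    (hz2 : z * z = 1) (X : Subgroup W) (x₀ : W) (hx₀ : x₀ ∈ X) (h1 : x₀ ≠ 1) (hz : x₀ ≠ z) :
    ∃ c ∈ X, c ≠ 1 ∧ c ≠ z ∧ ∀ y ∈ X, cz z c y := by
  classical
  haveI hZn : (Subgroup.zpowers z).Normal := by
    refine ⟨fun n hn g => ?_⟩
    rcases (mem_zpowers_z hz2).mp hn with rfl | rfl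
    · simp
    · rw [hzc g, mul_assoc, mul_inv_cancel, mul_one]
      exact Subgroup.mem_zpowers _
  let π := QuotientGroup.mk' (Subgroup.zpowers z)
  have hXb2 : IsPGroup 2 ↥(X.map π) := (hW.to_subgroup X).map _
  haveI : Nontrivial ↥(X.map π) := by
    refine ⟨⟨⟨π x₀, Subgroup.mem_map_of_mem _ hx₀⟩, 1, ?_⟩⟩
    intro h
    have h' : π x₀ = 1 := congrArg Subtype.val h
    rw [QuotientGroup.mk'_apply, QuotientGroup.eq_one_iff] at h'
    rcases (mem_zpowers_z hz2).mp h' with h' | h'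
    · exact h1 h'
    · exact hz h'
  haveI := IsPGroup.center_nontrivial hXb2
  obtain ⟨cb, hcb⟩ := exists_ne (1 : ↥(Subgroup.center ↥(X.map π)))
  obtain ⟨c, hcX, hc⟩ := cb.1.2
  have hcne : π c ≠ 1 := by
    intro h
    apply hcb
    apply Subtype.ext
    apply Subtype.ext
    rw [← hc]
    exact h
  have hcZ : c ∉ Subgroup.zpowers z := by
    intro h
    apply hcne
    rw [QuotientGroup.mk'_apply, QuotientGroup.eq_one_iff]
    exact h
  refine ⟨c, hcX, fun h => hcZ (h ▸ Subgroup.one_mem _), fun h => hcZ (h ▸ Subgroup.mem_zpowers _), ?_⟩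
  intro y hy
  have hcen := Subgroup.mem_center_iff.mp cb.2 ⟨π y, Subgroup.mem_map_of_mem _ hy⟩
  have hcen' : π y * π c = π c * π y := by
    have := congrArg Subtype.val hcen
    simp only [Subgroup.coe_mul] at this
    rw [← hc] at this
    exact this
  have h3 : π (c * y * c⁻¹ * y⁻¹) = 1 := by
    rw [map_mul, map_mul, map_mul, map_inv, map_inv, ← hcen']
    group
  rw [QuotientGroup.mk'_apply, QuotientGroup.eq_one_iff] at h3
  rcases (mem_zpowers_z hz2).mp h3 with h4 | h4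
  · left
    calc c * y * c⁻¹ = (c * y * c⁻¹ * y⁻¹) * y := by group
      _ = y := by rw [h4, one_mul]
  · right
    calc c * y * c⁻¹ = (c * y * c⁻¹ * y⁻¹) * y := by group
      _ = z * y := by rw [h4]

end quot

section main
variable {W : Type*} [Group W] [Finite W]

/-- fixed points of an automorphism -/
def fix (e : MulAut W) : Subgroup W where
  carrier := {x | e x = x}
  mul_mem' := by
    intro a b ha hb
    simp only [Set.mem_setOf_eq] at *
    rw [map_mul, ha, hb]
  one_mem' := map_one e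
  inv_mem' := by
    intro a ha
    simp only [Set.mem_setOf_eq] at *
    rw [map_inv, ha]

theorem mem_fix {e : MulAut W} {x : W} : x ∈ fix e ↔ e x = x := Iff.rfl

/-- the working hypotheses -/
structure Ctx (p : ℕ) (E : Subgroup (MulAut W)) : Prop where
  hW : IsPGroup 2 W
  hp : p ≠ 2
  hE : IsPGroup p ↥E
  hab : IsMulCommutative ↥E
  hnc : ¬ IsCyclic ↥E
  hfix : ∀ e ∈ E, e ≠ 1 → ∀ x y : W, orderOf x = 2 → orderOf y = 2 → e x = x → e y = y → x = y

/-- the central involution data -/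
structure ZD (E : Subgroup (MulAut W)) (z : W) : Prop where
  ne : z ≠ 1
  sq : z * z = 1
  fixd : ∀ e ∈ E, e z = z
  D : ∀ x, (∀ e ∈ E, e x = x) → x = 1 ∨ x = z

variable {p : ℕ} [Fact p.Prime] {E : Subgroup (MulAut W)}

theorem comm_apply (C : Ctx p E) {e e' : MulAut W} (he : e ∈ E) (he' : e' ∈ E) (x : W) :
    e (e' x) = e' (e x) := by
  have h := C.hab.is_comm.comm (⟨e, he⟩ : ↥E) ⟨e', he'⟩
  have h2 : e * e' = e' * e := congrArg Subtype.val h
  have h3 := congrArg (fun g : MulAut W => g x) h2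
  simpa using h3

theorem fix_inv (C : Ctx p E) {e : MulAut W} (he : e ∈ E) :
    ∀ e' ∈ E, ∀ x ∈ fix e, e' x ∈ fix e := by
  intro e' he' x hx
  rw [mem_fix] at *
  rw [comm_apply C he he', hx]

theorem fix_uniq (C : Ctx p E) {e : MulAut W} (he : e ∈ E) (he1 : e ≠ 1) :
    ∀ x ∈ fix e, ∀ y ∈ fix e, orderOf x = 2 → orderOf y = 2 → x = y :=
  fun x hx y hy h1 h2 => C.hfix e he he1 x y h1 h2 hx hy

theorem ord2 {x : W} (h1 : x ≠ 1) (h2 : x ^ 2 = 1) : orderOf x = 2 :=
  orderOf_eq_prime h2 h1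

theorem ZD.ord {z : W} (Z : ZD E z) : orderOf z = 2 :=
  ord2 Z.ne (by rw [pow_two, Z.sq])

theorem inv_of_fixed (C : Ctx p E) {z : W} (Z : ZD E z) {e : MulAut W} (he : e ∈ E) (hne : e ≠ 1)
    {x : W} (hx : e x = x) (hx2 : x ^ 2 = 1) : x = 1 ∨ x = z := by
  by_cases h1 : x = 1
  · exact Or.inl h1
  · exact Or.inr (C.hfix e he hne x z (ord2 h1 hx2) Z.ord hx (Z.fixd e he))

theorem exists_moved (C : Ctx p E) :
    ∃ e0 ∈ E, e0 ≠ 1 ∧ ¬ (∀ e ∈ E, ∀ x ∈ fix e0, e x = x) := by
  by_contra hcon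
  push_neg at hcon
  apply C.hnc
  have hall : ∀ e1 ∈ E, e1 = 1 := by
    intro e1 he1
    have := L1 C.hW C.hp E C.hE C.hab C.hnc ⊤ (fix e1) (fun _ _ _ _ => Subgroup.mem_top _)
      (fun e he hne x _ hx => hcon e he hne e1 he1 x hx)
    ext x
    exact this (Subgroup.mem_top x)
  haveI : Subsingleton ↥E :=
    ⟨fun a b => Subtype.ext ((hall a a.2).trans (hall b b.2).symm)⟩
  exact isCyclic_of_subsingleton

/-- the conclusion of `L2` in the quaternion case -/
def QCase (p : ℕ) (E : Subgroup (MulAut W)) (T : Subgroup W) : Prop :=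
  p = 3 ∧ Nonempty (↥T ≃* QuaternionGroup 2) ∧
    (∀ M : Subgroup W, M ≤ T → (∀ e ∈ E, ∀ x ∈ M, e x ∈ M) → (∃ m ∈ M, m ^ 2 ≠ 1) → M = T) ∧
    (∀ x ∈ T, (∀ e ∈ E, e x = x) → x ^ 2 = 1) ∧
    (∃ K : Subgroup ↥E, K.index = 3 ∧ ∀ e : ↥E, e ∈ K ↔ ∀ x ∈ T, (e : MulAut W) x = x)

theorem L2fix (C : Ctx p E) {e : MulAut W} (he : e ∈ E) (hne : e ≠ 1) :
    (∀ e' ∈ E, ∀ x ∈ fix e, e' x = x) ∨ QCase p E (fix e) :=
  L2 C.hW C.hp E C.hE (fix e) (fix_inv C he) (fix_uniq C he hne)

theorem q_a2_ne : (QuaternionGroup.a 2 : QuaternionGroup 2) ≠ 1 := by decide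
theorem q_a2_sq : (QuaternionGroup.a 2 : QuaternionGroup 2) * QuaternionGroup.a 2 = 1 := by decide
theorem q_sq : ∀ q : QuaternionGroup 2, q * q = 1 ∨ q * q = QuaternionGroup.a 2 := by decide
theorem q_a1_sq : (QuaternionGroup.a 1 : QuaternionGroup 2) ^ 2 ≠ 1 := by decide
theorem q_nc : (QuaternionGroup.a 1 : QuaternionGroup 2) * QuaternionGroup.xa 0
    * (QuaternionGroup.a 1)⁻¹ ≠ QuaternionGroup.xa 0 := by decide
theorem q_gen : ∀ q : QuaternionGroup 2, ∃ k : Fin 4,
    q = QuaternionGroup.a 1 ^ (k : ℕ) ∨ q = QuaternionGroup.xa 0 * QuaternionGroup.a 1 ^ (k : ℕ) := by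
  decide

/-- the involution of a quaternion subgroup -/
theorem q_invol {T : Subgroup W} (f : ↥T ≃* QuaternionGroup 2) :
    ((f.symm (QuaternionGroup.a 2) : ↥T) : W) ≠ 1 ∧
    ((f.symm (QuaternionGroup.a 2) : ↥T) : W) ^ 2 = 1 := by
  constructor
  · intro h
    have h1 : f.symm (QuaternionGroup.a 2) = 1 := Subtype.ext h
    have h2 : (QuaternionGroup.a 2 : QuaternionGroup 2) = f 1 := by rw [← h1]; simp
    rw [map_one] at h2
    exact q_a2_ne h2
  · have h1 : (f.symm (QuaternionGroup.a 2)) ^ 2 = 1 := by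
      rw [← map_pow, pow_two, q_a2_sq, map_one]
    have := congrArg Subtype.val h1
    simpa using this

theorem q_nc' {T : Subgroup W} (f : ↥T ≃* QuaternionGroup 2) :
    ((f.symm (QuaternionGroup.a 1) : ↥T) : W) * ((f.symm (QuaternionGroup.xa 0) : ↥T) : W)
      * ((f.symm (QuaternionGroup.a 1) : ↥T) : W)⁻¹ ≠ ((f.symm (QuaternionGroup.xa 0) : ↥T) : W) := by
  intro h
  have h1 : f.symm (QuaternionGroup.a 1) * f.symm (QuaternionGroup.xa 0)
      * (f.symm (QuaternionGroup.a 1))⁻¹ = f.symm (QuaternionGroup.xa 0) := Subtype.ext (by simpa using h)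
  rw [← map_inv, ← map_mul, ← map_mul] at h1
  exact q_nc (f.symm.injective h1)

theorem exists_z (C : Ctx p E) : ∃ z : W, ZD E z ∧ p = 3 ∧
    ∃ e0 ∈ E, e0 ≠ 1 ∧ QCase p E (fix e0) := by
  obtain ⟨e0, he0, hne, hmv⟩ := exists_moved C
  rcases L2fix C he0 hne with hA | hB
  · exact absurd hA hmv
  · obtain ⟨hp3, ⟨f⟩, hM, hsq, hK⟩ := hB
    obtain ⟨hz1, hz2⟩ := q_invol f
    have hzm : ((f.symm (QuaternionGroup.a 2) : ↥(fix e0)) : W) ∈ fix e0 :=
      (f.symm (QuaternionGroup.a 2)).2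
    refine ⟨((f.symm (QuaternionGroup.a 2) : ↥(fix e0)) : W), ⟨hz1, by rw [← pow_two]; exact hz2, ?_, ?_⟩,
      hp3, e0, he0, hne, ⟨hp3, ⟨f⟩, hM, hsq, hK⟩⟩
    · intro e he
      refine C.hfix e0 he0 hne _ _ ?_ (ord2 hz1 hz2) (fix_inv C he0 e he _ hzm) hzm
      rw [MulEquiv.orderOf_eq]
      exact ord2 hz1 hz2
    · intro x hx
      have hx0 : x ∈ fix e0 := hx e0 he0
      have hx2 := hsq x hx0 hx
      by_cases h1 : x = 1
      · exact Or.inl h1
      · exact Or.inr (C.hfix e0 he0 hne _ _ (ord2 h1 hx2) (ord2 hz1 hz2) hx0 hzm)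

theorem z_mem_of_inv (C : Ctx p E) {z : W} (Z : ZD E z) (K : Subgroup W)
    (hK : ∀ e ∈ E, ∀ x ∈ K, e x ∈ K) (hne : K ≠ ⊥) : z ∈ K := by
  by_contra hz
  apply hne
  rw [eq_bot_iff]
  refine L1 C.hW C.hp E C.hE C.hab C.hnc K ⊥ hK ?_
  intro e he hne1 x hxK hx
  rw [Subgroup.mem_bot]
  by_contra hx1
  obtain ⟨k, hk⟩ := (IsPGroup.iff_orderOf.mp C.hW) x
  have hk0 : k ≠ 0 := by
    intro h
    rw [h, pow_zero, orderOf_eq_one_iff] at hk
    exact hx1 hk
  obtain ⟨k', rfl⟩ := Nat.exists_eq_succ_of_ne_zero hk0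
  have hy2 : (x ^ (2 ^ k')) ^ 2 = 1 := by
    rw [← pow_mul, ← pow_succ, ← hk, pow_orderOf_eq_one]
  have hy1 : x ^ (2 ^ k') ≠ 1 := by
    intro h
    have hd := orderOf_dvd_of_pow_eq_one h
    rw [hk] at hd
    have := Nat.le_of_dvd (by positivity) hd
    have h2 : 2 ^ k' < 2 ^ (k' + 1) := Nat.pow_lt_pow_right (by norm_num) (Nat.lt_succ_self _)
    omega
  have hye : e (x ^ (2 ^ k')) = x ^ (2 ^ k') := by rw [map_pow, hx]
  rcases inv_of_fixed C Z he hne1 hye hy2 with h | h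
  · exact hy1 h
  · exact hz (h ▸ K.pow_mem hxK _)

theorem z_central (C : Ctx p E) {z : W} (Z : ZD E z) : ∀ g : W, g * z = z * g := by
  have hmem : z ∈ Subgroup.center W := by
    apply z_mem_of_inv C Z
    · intro e he c hc
      rw [Subgroup.mem_center_iff] at hc ⊢
      intro g
      have := congrArg e (hc (e.symm g))
      simpa using this
    · haveI : Nontrivial W := ⟨⟨z, 1, Z.ne⟩⟩
      haveI := IsPGroup.center_nontrivial C.hW
      exact (Subgroup.nontrivial_iff_ne_bot _).mp inferInstance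
  exact Subgroup.mem_center_iff.mp hmem


theorem q_card : Nat.card (QuaternionGroup 2) = 8 := by
  rw [Nat.card_eq_fintype_card, QuaternionGroup.card]

/-- the structure of a quaternion subgroup, pulled back along an isomorphism -/
theorem q_data {T : Subgroup W} (f : ↥T ≃* QuaternionGroup 2) :
    ∃ i ∈ T, ∃ j ∈ T, ∃ u ∈ T, i * j * i⁻¹ ≠ j ∧ u ≠ 1 ∧ u ^ 2 = 1 ∧
      (∀ t ∈ T, t * t = 1 ∨ t * t = u) ∧
      (∀ t ∈ T, ∃ k : ℕ, t = i ^ k ∨ t = j * i ^ k) ∧ Nat.card ↥T = 8 ∧ i ^ 2 ≠ 1 := by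
  refine ⟨_, (f.symm (QuaternionGroup.a 1)).2, _, (f.symm (QuaternionGroup.xa 0)).2, _,
    (f.symm (QuaternionGroup.a 2)).2, q_nc' f, (q_invol f).1, (q_invol f).2, ?_, ?_, ?_, ?_⟩
  · intro t ht
    rcases q_sq (f ⟨t, ht⟩) with h | h
    · left
      have h1 : (⟨t, ht⟩ : ↥T) * ⟨t, ht⟩ = 1 := by
        apply f.injective; rw [map_mul, h, map_one]
      exact congrArg Subtype.val h1
    · right
      have h1 : (⟨t, ht⟩ : ↥T) * ⟨t, ht⟩ = f.symm (QuaternionGroup.a 2) := by
        apply f.injective; rw [map_mul, h, MulEquiv.apply_symm_apply]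
      exact congrArg Subtype.val h1
  · intro t ht
    obtain ⟨k, hk⟩ := q_gen (f ⟨t, ht⟩)
    refine ⟨(k : ℕ), ?_⟩
    rcases hk with hk | hk
    · left
      have h1 : (⟨t, ht⟩ : ↥T) = f.symm (QuaternionGroup.a 1) ^ (k : ℕ) := by
        rw [← map_pow, ← hk, MulEquiv.symm_apply_apply]
      have := congrArg Subtype.val h1
      simpa using this
    · right
      have h1 : (⟨t, ht⟩ : ↥T) =
          f.symm (QuaternionGroup.xa 0) * f.symm (QuaternionGroup.a 1) ^ (k : ℕ) := by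
        rw [← map_pow, ← map_mul, ← hk, MulEquiv.symm_apply_apply]
      have := congrArg Subtype.val h1
      simpa using this
  · rw [Nat.card_congr f.toEquiv, q_card]
  · intro h
    have h1 : f.symm (QuaternionGroup.a 1) ^ 2 = 1 := Subtype.ext (by simpa using h)
    rw [← map_pow] at h1
    have h2 : (QuaternionGroup.a 1 : QuaternionGroup 2) ^ 2 = f 1 := by rw [← h1]; simp
    rw [map_one] at h2
    exact q_a1_sq h2

theorem decomp {z : W} (hzc : ∀ g : W, g * z = z * g) (hz2 : z * z = 1) {i j x : W}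
    (hij : i * j * i⁻¹ = z * j) (hi : cz z i x) (hj : cz z j x) :
    ∃ q : W, (q = 1 ∨ q = i ∨ q = j ∨ q = i * j) ∧ i * (q⁻¹ * x) * i⁻¹ = q⁻¹ * x ∧
      j * (q⁻¹ * x) * j⁻¹ = q⁻¹ * x := by
  have hji : j * i * j⁻¹ = z * i := cj_symm_z hzc hz2 hij
  have hii : i * i * i⁻¹ = i := by group
  have hjj : j * j * j⁻¹ = j := by group
  rcases hi with hi | hi <;> rcases hj with hj | hj
  · refine ⟨1, Or.inl rfl, ?_, ?_⟩
    · rw [inv_one, one_mul]; exact hi
    · rw [inv_one, one_mul]; exact hj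
  · refine ⟨i, Or.inr (Or.inl rfl), ?_, ?_⟩
    · exact cj_mul_11 (cj_inv_1 hii) hi
    · exact cj_mul_zz hzc hz2 (cj_inv_z hzc hz2 hji) hj
  · refine ⟨j, Or.inr (Or.inr (Or.inl rfl)), ?_, ?_⟩
    · exact cj_mul_zz hzc hz2 (cj_inv_z hzc hz2 hij) hi
    · exact cj_mul_11 (cj_inv_1 hjj) hj
  · refine ⟨i * j, Or.inr (Or.inr (Or.inr rfl)), ?_, ?_⟩
    · have e1 : (i * j)⁻¹ * x = j⁻¹ * (i⁻¹ * x) := by group
      rw [e1]
      exact cj_mul_zz hzc hz2 (cj_inv_z hzc hz2 hij) (cj_mul_1z hzc (cj_inv_1 hii) hi)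
    · have e1 : (i * j)⁻¹ * x = j⁻¹ * (i⁻¹ * x) := by group
      rw [e1]
      exact cj_mul_11 (cj_inv_1 hjj) (cj_mul_zz hzc hz2 (cj_inv_z hzc hz2 hji) hj)

theorem ind (C : Ctx p E) {z : W} (Z : ZD E z) :
    ∀ n : ℕ, ∀ X : Subgroup W, Nat.card X ≤ n → (∀ e ∈ E, ∀ x ∈ X, e x ∈ X) →
      (∀ a ∈ X, ∀ b ∈ X, cz z a b) ∧ (∀ a ∈ X, a * a = 1 ∨ a * a = z) := by
  have hzc := z_central C Z
  have hz2 := Z.sq
  intro n
  induction n with
  | zero =>
    intro X hcard
    have := Nat.card_pos (α := ↥X)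
    omega
  | succ n ih =>
    intro X hcard hX
    by_cases hsmall : ∀ x ∈ X, x = 1 ∨ x = z
    · refine ⟨fun a ha b hb => ?_, fun a ha => ?_⟩
      · rcases hsmall a ha with rfl | rfl
        · exact cz_one_left b
        · exact cz_z_left hzc b
      · rcases hsmall a ha with rfl | rfl
        · left; rw [one_mul]
        · left; exact hz2
    · push_neg at hsmall
      obtain ⟨x₀, hx₀, hx₀1, hx₀z⟩ := hsmall
      have hXne : X ≠ ⊥ := by
        intro h
        rw [h, Subgroup.mem_bot] at hx₀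
        exact hx₀1 hx₀
      have hzX : z ∈ X := z_mem_of_inv C Z X hX hXne
      -- the second centre
      let N₂ : Subgroup W :=
        { carrier := {x | x ∈ X ∧ ∀ y ∈ X, cz z x y}
          mul_mem' := fun {a b} ha hb => ⟨X.mul_mem ha.1 hb.1,
            fun y hy => cz_mul_left hzc hz2 (ha.2 y hy) (hb.2 y hy)⟩
          one_mem' := ⟨X.one_mem, fun y _ => cz_one_left y⟩
          inv_mem' := fun {a} ha => ⟨X.inv_mem ha.1,
            fun y hy => cz_inv_left hzc hz2 (ha.2 y hy)⟩ }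
      have hN₂inv : ∀ e ∈ E, ∀ x ∈ N₂, e x ∈ N₂ := by
        intro e he x hx
        refine ⟨hX e he x hx.1, fun y hy => ?_⟩
        have hy' : e⁻¹ y ∈ X := hX e⁻¹ (E.inv_mem he) y hy
        have h := hx.2 _ hy'
        rcases h with h | h
        · left
          have := congrArg e h
          simpa using this
        · right
          have := congrArg e h
          rw [map_mul e z, Z.fixd e he] at this
          simpa using this
      obtain ⟨c, hcX, hc1, hcz, hcc⟩ := second_center C.hW hzc hz2 X x₀ hx₀ hx₀1 hx₀z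
      have hcN : c ∈ N₂ := ⟨hcX, hcc⟩
      have hex : ∃ e ∈ E, e ≠ 1 ∧ ∃ m ∈ N₂, e m = m ∧ m ∉ Subgroup.zpowers z := by
        by_contra hcon
        push_neg at hcon
        have h := L1 C.hW C.hp E C.hE C.hab C.hnc N₂ (Subgroup.zpowers z) hN₂inv
          (fun e he hne x hx hfx => hcon e he hne x hx hfx)
        rcases (mem_zpowers_z hz2).mp (h hcN) with h | h
        · exact hc1 h
        · exact hcz h
      obtain ⟨e, he, hne, m, hmN, hme, hmZ⟩ := hex
      have hTinv : ∀ e' ∈ E, ∀ x ∈ X ⊓ fix e, e' x ∈ X ⊓ fix e :=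
        fun e' he' x hx => ⟨hX e' he' x hx.1, fix_inv C he e' he' x hx.2⟩
      have hTuniq : ∀ x ∈ X ⊓ fix e, ∀ y ∈ X ⊓ fix e, orderOf x = 2 → orderOf y = 2 → x = y :=
        fun x hx y hy => fix_uniq C he hne x hx.2 y hy.2
      rcases L2 C.hW C.hp E C.hE (X ⊓ fix e) hTinv hTuniq with hA | ⟨-, ⟨f⟩, hM, hsq, -⟩
      · exfalso
        apply hmZ
        rw [mem_zpowers_z hz2]
        exact Z.D m (fun e' he' => hA e' he' m ⟨hmN.1, hme⟩)
      · have hm2 : m ^ 2 ≠ 1 := by
          intro h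
          apply hmZ
          rw [mem_zpowers_z hz2]
          exact inv_of_fixed C Z he hne hme h
        have hMT : N₂ ⊓ fix e = X ⊓ fix e := by
          refine hM (N₂ ⊓ fix e) (inf_le_inf_right _ (fun x hx => hx.1)) ?_ ⟨m, ⟨hmN, hme⟩, hm2⟩
          exact fun e' he' x hx => ⟨hN₂inv e' he' x hx.1, fix_inv C he e' he' x hx.2⟩
        have hTN : ∀ t ∈ X ⊓ fix e, ∀ y ∈ X, cz z t y := by
          intro t ht
          have : t ∈ N₂ ⊓ fix e := hMT ▸ ht
          exact this.1.2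
        obtain ⟨i, hiT, j, hjT, u, huT, hijne, hu1, hu2, hTsq', hgen, -⟩ := q_data f
        have hij : i * j * i⁻¹ = z * j := (hTN i hiT j hjT.1).resolve_left hijne
        have huz : u = z :=
          C.hfix e he hne _ _ (ord2 hu1 hu2) Z.ord huT.2 (Z.fixd e he)
        have hTsq : ∀ t ∈ X ⊓ fix e, t * t = 1 ∨ t * t = z := by
          intro t ht
          have := hTsq' t ht
          rwa [huz] at this
        have hX₁inv : ∀ e' ∈ E,
            ∀ x ∈ X ⊓ Subgroup.centralizer ((X ⊓ fix e : Subgroup W) : Set W),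
              e' x ∈ X ⊓ Subgroup.centralizer ((X ⊓ fix e : Subgroup W) : Set W) := by
          intro e' he' x hx
          refine ⟨hX e' he' x hx.1, ?_⟩
          apply Subgroup.mem_centralizer_iff.mpr
          intro t ht
          have ht' : e'⁻¹ t ∈ X ⊓ fix e := hTinv e'⁻¹ (E.inv_mem he') t ht
          have h := Subgroup.mem_centralizer_iff.mp hx.2 _ ht'
          have := congrArg e' h
          simpa using this
        have hiX₁ : i ∉ X ⊓ Subgroup.centralizer ((X ⊓ fix e : Subgroup W) : Set W) := by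
          intro h
          have h1 := Subgroup.mem_centralizer_iff.mp h.2 j hjT
          have h2 : i * j * i⁻¹ = j := by rw [← h1]; group
          rw [hij] at h2
          exact Z.ne (mul_right_cancel (h2.trans (one_mul j).symm))
        have hX₁lt : Nat.card ↥(X ⊓ Subgroup.centralizer ((X ⊓ fix e : Subgroup W) : Set W))
            < Nat.card ↥X := by
          by_contra hge
          push_neg at hge
          have := Subgroup.eq_of_le_of_card_ge (inf_le_left :
            X ⊓ Subgroup.centralizer ((X ⊓ fix e : Subgroup W) : Set W) ≤ X) hge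
          apply hiX₁
          rw [this]
          exact hiT.1
        obtain ⟨IH1, IH2⟩ := ih _ (by omega) hX₁inv
        have hdecomp : ∀ x ∈ X, ∃ q ∈ X ⊓ fix e,
            q⁻¹ * x ∈ X ⊓ Subgroup.centralizer ((X ⊓ fix e : Subgroup W) : Set W) := by
          intro x hx
          obtain ⟨q, hq, h1, h2⟩ := decomp hzc hz2 hij (hTN i hiT x hx) (hTN j hjT x hx)
          have hqT : q ∈ X ⊓ fix e := by
            rcases hq with rfl | rfl | rfl | rfl
            · exact Subgroup.one_mem _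
            · exact hiT
            · exact hjT
            · exact Subgroup.mul_mem _ hiT hjT
          refine ⟨q, hqT, X.mul_mem (X.inv_mem hqT.1) hx, ?_⟩
          apply Subgroup.mem_centralizer_iff.mpr
          intro t ht
          obtain ⟨k, hk | hk⟩ := hgen t ht
          · rw [hk]; exact ((cent_of h1 h2) k).1
          · rw [hk]; exact ((cent_of h1 h2) k).2
        refine ⟨fun a ha b hb => ?_, fun a ha => ?_⟩
        · obtain ⟨q, hq, hc⟩ := hdecomp a ha
          obtain ⟨q', hq', hc'⟩ := hdecomp b hb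
          have h1 : cz z q b := hTN q hq b hb
          have h2 : cz z (q⁻¹ * a) q' := by
            left
            have := Subgroup.mem_centralizer_iff.mp hc.2 q' hq'
            rw [← this]; group
          have h3 : cz z (q⁻¹ * a) (q'⁻¹ * b) := IH1 _ hc _ hc'
          have h4 : cz z (q⁻¹ * a) (q' * (q'⁻¹ * b)) := cz_mul_right hzc hz2 h2 h3
          rw [mul_inv_cancel_left] at h4
          have h5 := cz_mul_left hzc hz2 h1 h4
          rwa [mul_inv_cancel_left] at h5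
        · obtain ⟨q, hq, hc⟩ := hdecomp a ha
          have hcomm := Subgroup.mem_centralizer_iff.mp hc.2 q hq
          have haa : a * a = (q * q) * ((q⁻¹ * a) * (q⁻¹ * a)) := by
            calc a * a = q * ((q⁻¹ * a) * q) * (q⁻¹ * a) := by group
              _ = q * (q * (q⁻¹ * a)) * (q⁻¹ * a) := by rw [hcomm]
              _ = _ := by group
          rw [haa]
          rcases hTsq q hq with h | h <;> rcases IH2 _ hc with h' | h'
          · left; rw [h, h', one_mul]
          · right; rw [h, h', one_mul]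
          · right; rw [h, h', mul_one]
          · left; rw [h, h', hz2]


theorem QCase.card {T : Subgroup W} (h : QCase p E T) : Nat.card ↥T = 8 := by
  obtain ⟨-, ⟨f⟩, -, -, -⟩ := h
  obtain ⟨i, hiT, j, hjT, u, huT, hijne, hu1, hu2, hTsq', hgen, hcard, hi2⟩ := q_data f
  exact hcard

theorem QCase.moved {T : Subgroup W} (h : QCase p E T) : ¬ (∀ e ∈ E, ∀ x ∈ T, e x = x) := by
  obtain ⟨-, ⟨f⟩, -, hsq, -⟩ := h
  obtain ⟨i, hiT, j, hjT, u, huT, hijne, hu1, hu2, hTsq', hgen, hcard, hi2⟩ := q_data f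
  intro hA
  exact hi2 (hsq i hiT (fun e he => hA e he i hiT))

theorem QCase.nonab {T : Subgroup W} (h : QCase p E T) : ∃ i ∈ T, ∃ j ∈ T, i * j * i⁻¹ ≠ j := by
  obtain ⟨-, ⟨f⟩, -, hsq, -⟩ := h
  obtain ⟨i, hiT, j, hjT, u, huT, hijne, hu1, hu2, hTsq', hgen, hcard, hi2⟩ := q_data f
  exact ⟨i, hiT, j, hjT, hijne⟩

theorem center_small (C : Ctx p E) {z : W} (Z : ZD E z) :
    ∀ c ∈ Subgroup.center W, c = 1 ∨ c = z := by
  have hz2 := Z.sq
  have hcinv : ∀ e ∈ E, ∀ c ∈ Subgroup.center W, e c ∈ Subgroup.center W := by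
    intro e he c hc
    rw [Subgroup.mem_center_iff] at hc ⊢
    intro g
    have := congrArg e (hc (e⁻¹ g))
    simpa using this
  have h : Subgroup.center W ≤ Subgroup.zpowers z := by
    refine L1 C.hW C.hp E C.hE C.hab C.hnc (Subgroup.center W) (Subgroup.zpowers z) hcinv ?_
    intro e he hne c hc hec
    rw [mem_zpowers_z hz2]
    by_cases hc2 : c ^ 2 = 1
    · exact inv_of_fixed C Z he hne hec hc2
    · rcases L2fix C he hne with hA | hQ
      · exact Z.D c (fun e' he' => hA e' he' c hec)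
      · exfalso
        have hMT : Subgroup.center W ⊓ fix e = fix e := by
          refine hQ.2.2.1 _ inf_le_right ?_ ⟨c, ⟨hc, hec⟩, hc2⟩
          exact fun e' he' x hx => ⟨hcinv e' he' x hx.1, fix_inv C he e' he' x hx.2⟩
        obtain ⟨i, hiT, j, hjT, hijne⟩ := hQ.nonab
        have hi : i ∈ Subgroup.center W := by
          have : i ∈ Subgroup.center W ⊓ fix e := by rw [hMT]; exact hiT
          exact this.1
        apply hijne
        rw [← Subgroup.mem_center_iff.mp hi j]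
        group
  intro c hc
  exact (mem_zpowers_z hz2).mp (h hc)

theorem fix_ne_top {e : MulAut W} (hne : e ≠ 1) : fix e ≠ ⊤ := by
  intro h
  apply hne
  ext x
  have : x ∈ fix e := h ▸ Subgroup.mem_top x
  exact this

theorem card_gt (C : Ctx p E) {e0 : MulAut W} (he0 : e0 ∈ E) (hne : e0 ≠ 1)
    (hQ : QCase p E (fix e0)) : 8 < Nat.card W ∧ ∃ a b : W, a * b ≠ b * a := by
  constructor
  · by_contra hle
    push_neg at hle
    have : fix e0 = ⊤ := Subgroup.eq_top_of_le_card _ (by rw [hQ.card]; exact hle)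
    exact fix_ne_top hne this
  · obtain ⟨i, hiT, j, hjT, hijne⟩ := hQ.nonab
    refine ⟨i, j, fun h => hijne ?_⟩
    rw [h]; group

theorem fix_eq_of_le (C : Ctx p E) {e e' : MulAut W} (he : e ∈ E) (hne : e ≠ 1) (he' : e' ∈ E)
    (hne' : e' ≠ 1) (hQ : QCase p E (fix e)) (hle : fix e ≤ fix e') : fix e' = fix e := by
  rcases L2fix C he' hne' with hA | hQ'
  · exfalso
    exact hQ.moved (fun e'' he'' x hx => hA e'' he'' x (hle hx))
  · exact (Subgroup.eq_of_le_of_card_ge hle (by rw [hQ.card, hQ'.card])).symm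

theorem card_E (C : Ctx p E) (hp3 : p = 3) {e0 : MulAut W} (he0 : e0 ∈ E)
    (hne0 : e0 ≠ 1) (hQ0 : QCase p E (fix e0)) : Nat.card ↥E = 9 := by
  have hex : ∃ e2 ∈ E, e2 ≠ 1 ∧ ¬ (fix e2 ≤ fix e0) := by
    by_contra hcon
    push_neg at hcon
    have h := L1 C.hW C.hp E C.hE C.hab C.hnc ⊤ (fix e0) (fun _ _ _ _ => Subgroup.mem_top _)
      (fun e he hne x _ hx => hcon e he hne hx)
    exact fix_ne_top hne0 (top_le_iff.mp h)
  obtain ⟨e2, he2, hne2, hnle⟩ := hex
  rcases L2fix C he2 hne2 with hA | hQ2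
  · exfalso
    apply hnle
    intro x hx
    exact hA e0 he0 x hx
  · obtain ⟨K0, hK0i, hK0⟩ := hQ0.2.2.2.2
    obtain ⟨K2, hK2i, hK2⟩ := hQ2.2.2.2.2
    have hbot : K0 ⊓ K2 = ⊥ := by
      rw [eq_bot_iff]
      rintro e ⟨h0, h2⟩
      rw [Subgroup.mem_bot]
      by_contra hne
      have hne' : (e : MulAut W) ≠ 1 := fun h => hne (Subtype.ext h)
      have h0' : fix e0 ≤ fix (e : MulAut W) := fun x hx => (hK0 e).mp h0 x hx
      have h2' : fix e2 ≤ fix (e : MulAut W) := fun x hx => (hK2 e).mp h2 x hx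
      have e1 := fix_eq_of_le C he0 hne0 e.2 hne' hQ0 h0'
      have e2' := fix_eq_of_le C he2 hne2 e.2 hne' hQ2 h2'
      apply hnle
      rw [← e2', e1]
    have hle : Nat.card ↥E ≤ 9 := by
      have := Subgroup.index_inf_le (H := K0) (K := K2)
      rw [hbot, Subgroup.index_bot, hK0i, hK2i] at this
      exact this
    obtain ⟨k, hk⟩ := (IsPGroup.iff_card.mp C.hE)
    rw [hp3] at hk
    have hk2 : 2 ≤ k := by
      by_contra hlt
      push_neg at hlt
      apply C.hnc
      interval_cases k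
      · haveI : Subsingleton ↥E := (Nat.card_eq_one_iff_unique.mp (by simpa using hk)).1
        exact isCyclic_of_subsingleton
      · haveI : Fact (Nat.Prime 3) := ⟨by norm_num⟩
        exact isCyclic_of_prime_card (p := 3) (by simpa using hk)
    have : 3 ^ 2 ≤ 3 ^ k := Nat.pow_le_pow_right (by norm_num) hk2
    omega

theorem fix_card_le (C : Ctx p E) {e0 : MulAut W} (he0 : e0 ∈ E)
    (hQ0 : QCase p E (fix e0)) {e : MulAut W} (he : e ∈ E) (hne : e ≠ 1) :
    Nat.card ↥(fix e) ≤ 8 := by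
  rcases L2fix C he hne with hA | hQ
  · have hle : fix e ≤ fix e0 := fun x hx => hA e0 he0 x hx
    calc Nat.card ↥(fix e) ≤ Nat.card ↥(fix e0) := Subgroup.card_le_of_le hle
      _ = 8 := hQ0.card
  · exact hQ.card.le

theorem fix_normal {z : W} (hcz : ∀ a b : W, cz z a b) {e : MulAut W} (hz : e z = z) :
    (fix e).Normal := by
  refine ⟨fun n hn g => ?_⟩
  rcases hcz g n with h | h
  · rw [h]; exact hn
  · rw [h]; exact (fix e).mul_mem hz hn

theorem fix_of_sq {g : MulAut W} (h3 : g ^ 3 = 1) {x : W} (h : (g ^ 2) x = x) : g x = x := by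
  calc g x = g ((g ^ 2) x) := by rw [h]
    _ = (g ^ 3) x := by rw [pow_succ' g 2]; rfl
    _ = x := by rw [h3]; rfl


theorem card_W_le (C : Ctx p E) {z : W} (Z : ZD E z) (hcz : ∀ a b : W, cz z a b)
    (h9 : Nat.card ↥E = 9) {e0 : MulAut W} (he0 : e0 ∈ E)
    (hQ0 : QCase p E (fix e0)) : Nat.card W ≤ 2 ^ 9 := by
  have hc : ∀ a b : ↥E, a * b = b * a := C.hab.is_comm.comm
  obtain ⟨h3, a, b, hgen⟩ := Cfsg.Agent.Lib.Helper58.QFixC.E9_struct hc h9 C.hnc
  have hsurj : Function.Surjective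
      (fun ij : Fin 3 × Fin 3 => a ^ (ij.1 : ℕ) * b ^ (ij.2 : ℕ)) := by
    intro e
    obtain ⟨i, j, h⟩ := hgen e
    exact ⟨(i, j), h.symm⟩
  have hinj : Function.Injective
      (fun ij : Fin 3 × Fin 3 => a ^ (ij.1 : ℕ) * b ^ (ij.2 : ℕ)) := by
    have hcard : Nat.card (Fin 3 × Fin 3) = Nat.card ↥E := by
      rw [h9]; simp
    exact ((Nat.bijective_iff_surjective_and_card _).mpr ⟨hsurj, hcard⟩).1
  have ha1 : a ≠ 1 := by
    intro h
    have := @hinj (1, 0) (0, 0) (by simp [h])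
    simp at this
  have hb1 : b ≠ 1 := by
    intro h
    have := @hinj (0, 1) (0, 0) (by simp [h])
    simp at this
  have hab1 : a * b ≠ 1 := by
    intro h
    have := @hinj (1, 1) (0, 0) (by simpa using h)
    simp at this
  have hab21 : a * b ^ 2 ≠ 1 := by
    intro h
    have := @hinj (1, 2) (0, 0) (by simpa using h)
    simp at this
  have hcoe : ∀ g : ↥E, g ≠ 1 → (g : MulAut W) ≠ 1 := fun g hg h => hg (Subtype.ext h)
  have hcoe3 : ∀ g : ↥E, (g : MulAut W) ^ 3 = 1 := by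
    intro g
    have := congrArg Subtype.val (h3 g)
    simpa using this
  -- the four fixed-point subgroups
  have key : ∀ e' : ↥E, e' ≠ 1 → ∃ g : ↥E, (g = a ∨ g = b ∨ g = a * b ∨ g = a * b ^ 2) ∧
      (e' = g ∨ e' = g ^ 2) := by
    intro e' hne
    obtain ⟨i, j, h⟩ := hgen e'
    have hb4 : b ^ 4 = b := by
      rw [pow_succ, h3 b, one_mul]
    fin_cases i <;> fin_cases j
    · exfalso; apply hne; rw [h]; simp
    · exact ⟨b, Or.inr (Or.inl rfl), Or.inl (by rw [h]; simp)⟩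
    · exact ⟨b, Or.inr (Or.inl rfl), Or.inr (by rw [h]; simp)⟩
    · exact ⟨a, Or.inl rfl, Or.inl (by rw [h]; simp)⟩
    · exact ⟨a * b, Or.inr (Or.inr (Or.inl rfl)), Or.inl (by rw [h]; simp)⟩
    · exact ⟨a * b ^ 2, Or.inr (Or.inr (Or.inr rfl)), Or.inl (by rw [h]; simp)⟩
    · exact ⟨a, Or.inl rfl, Or.inr (by rw [h]; simp)⟩
    · refine ⟨a * b ^ 2, Or.inr (Or.inr (Or.inr rfl)), Or.inr ?_⟩
      rw [h, (show Commute a (b ^ 2) from hc a (b ^ 2)).mul_pow, ← pow_mul, hb4]
      simp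
    · refine ⟨a * b, Or.inr (Or.inr (Or.inl rfl)), Or.inr ?_⟩
      rw [h, (show Commute a b from hc a b).mul_pow]
  have hzf : ∀ g : ↥E, (g : MulAut W) z = z := fun g => Z.fixd _ g.2
  haveI n2 : (fix (b : MulAut W)).Normal := fix_normal hcz (hzf b)
  haveI n3 : (fix ((a * b : ↥E) : MulAut W)).Normal := fix_normal hcz (hzf _)
  haveI n4 : (fix ((a * b ^ 2 : ↥E) : MulAut W)).Normal := fix_normal hcz (hzf _)
  have hS : (⊤ : Subgroup W) ≤ ((fix (a : MulAut W) ⊔ fix (b : MulAut W))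
      ⊔ fix ((a * b : ↥E) : MulAut W)) ⊔ fix ((a * b ^ 2 : ↥E) : MulAut W) := by
    refine L1 C.hW C.hp E C.hE C.hab C.hnc ⊤ _ (fun _ _ _ _ => Subgroup.mem_top _) ?_
    intro e he hne x _ hx
    obtain ⟨g, hg, heg⟩ := key ⟨e, he⟩ (fun h => hne (congrArg Subtype.val h))
    have hgx : (g : MulAut W) x = x := by
      rcases heg with h | h
      · have : e = (g : MulAut W) := congrArg Subtype.val h
        rw [← this]; exact hx
      · have : e = (g : MulAut W) ^ 2 := by
          have := congrArg Subtype.val h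
          simpa using this
        apply fix_of_sq (hcoe3 g)
        rw [← this]; exact hx
    rcases hg with rfl | rfl | rfl | rfl
    · exact Subgroup.mem_sup_left (Subgroup.mem_sup_left (Subgroup.mem_sup_left hgx))
    · exact Subgroup.mem_sup_left (Subgroup.mem_sup_left (Subgroup.mem_sup_right hgx))
    · exact Subgroup.mem_sup_left (Subgroup.mem_sup_right hgx)
    · exact Subgroup.mem_sup_right hgx
  have hF1 := fix_card_le C he0 hQ0 a.2 (hcoe a ha1)
  have hF2 := fix_card_le C he0 hQ0 b.2 (hcoe b hb1)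
  have hF3 := fix_card_le C he0 hQ0 (a * b).2 (hcoe _ hab1)
  have hF4 := fix_card_le C he0 hQ0 (a * b ^ 2).2 (hcoe _ hab21)
  have c12 := Cfsg.Agent.Lib.Helper58.QFixC.card_sup_le (fix (a : MulAut W)) (fix (b : MulAut W))
    z Z.ne (hzf a) (hzf b)
  have c123 := Cfsg.Agent.Lib.Helper58.QFixC.card_sup_le
    (fix (a : MulAut W) ⊔ fix (b : MulAut W)) (fix ((a * b : ↥E) : MulAut W))
    z Z.ne (Subgroup.mem_sup_left (hzf a)) (hzf _)
  have c1234 := Cfsg.Agent.Lib.Helper58.QFixC.card_sup_le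
    ((fix (a : MulAut W) ⊔ fix (b : MulAut W)) ⊔ fix ((a * b : ↥E) : MulAut W))
    (fix ((a * b ^ 2 : ↥E) : MulAut W))
    z Z.ne (Subgroup.mem_sup_left (Subgroup.mem_sup_left (hzf a))) (hzf _)
  have m12 := Nat.mul_le_mul hF1 hF2
  have b12 : Nat.card ↥(fix (a : MulAut W) ⊔ fix (b : MulAut W)) ≤ 32 := by linarith
  have m123 := Nat.mul_le_mul b12 hF3
  have b123 : Nat.card ↥((fix (a : MulAut W) ⊔ fix (b : MulAut W))
      ⊔ fix ((a * b : ↥E) : MulAut W)) ≤ 128 := by linarith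
  have m1234 := Nat.mul_le_mul b123 hF4
  have b1234 : Nat.card ↥(((fix (a : MulAut W) ⊔ fix (b : MulAut W))
      ⊔ fix ((a * b : ↥E) : MulAut W)) ⊔ fix ((a * b ^ 2 : ↥E) : MulAut W)) ≤ 512 := by linarith
  rw [top_le_iff.mp hS, Subgroup.card_top] at b1234
  exact b1234

/-- The main theorem. -/
theorem main {W : Type*} [Group W] [Finite W] (hW : IsPGroup 2 W) {p : ℕ} [Fact p.Prime]
    (hp : p ≠ 2) (E : Subgroup (MulAut W)) (hE : IsPGroup p ↥E) (hab : IsMulCommutative ↥E)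
    (hnc : ¬ IsCyclic ↥E)
    (hfix : ∀ e ∈ E, e ≠ 1 → ∀ x y : W, orderOf x = 2 → orderOf y = 2 → e x = x → e y = y →
      x = y) :
    Nat.card ↥E = 9 ∧ Cfsg.IsExtraspecial 2 W ∧
      (Nat.card W = 2 ^ 5 ∨ Nat.card W = 2 ^ 7 ∨ Nat.card W = 2 ^ 9) ∧
      {x : W | ∀ e ∈ E, e x = x} = (Subgroup.center W : Set W) := by
  have C : Ctx p E := ⟨hW, hp, hE, hab, hnc, hfix⟩
  obtain ⟨z, Z, hp3, e0, he0, hne0, hQ0⟩ := exists_z C
  have hzc := z_central C Z
  have hz2 := Z.sq
  obtain ⟨hcz', hsq'⟩ := ind C Z (Nat.card (⊤ : Subgroup W)) ⊤ le_rfl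
    (fun _ _ _ _ => Subgroup.mem_top _)
  have hcz : ∀ a b : W, cz z a b := fun a b => hcz' a (Subgroup.mem_top a) b (Subgroup.mem_top b)
  have hsq : ∀ a : W, a * a = 1 ∨ a * a = z := fun a => hsq' a (Subgroup.mem_top a)
  have hcen := center_small C Z
  have h9 := card_E C hp3 he0 hne0 hQ0
  obtain ⟨hgt, hna⟩ := card_gt C he0 hne0 hQ0
  have hle := card_W_le C Z hcz h9 he0 hQ0
  have hes : Cfsg.IsExtraspecial 2 W := by
    refine Cfsg.Agent.Lib.Helper3.Extra4.es2_of_data hW z Z.ne (by rw [pow_two]; exact hz2) hzc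
      ?_ ?_ ?_ hna
    · intro c hc
      exact hcen c (Subgroup.mem_center_iff.mpr hc)
    · intro a b
      rcases hcz a b with h | h
      · refine ⟨1, fun g => by simp, ?_⟩
        rw [one_mul]
        calc a * b = (a * b * a⁻¹) * a := by group
          _ = b * a := by rw [h]
      · refine ⟨z, hzc, ?_⟩
        calc a * b = (a * b * a⁻¹) * a := by group
          _ = z * b * a := by rw [h]
    · intro a g
      rw [pow_two]
      rcases hsq a with h | h
      · rw [h]; simp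
      · rw [h]; exact hzc g
  refine ⟨h9, hes, ?_, ?_⟩
  · obtain ⟨m, hm1, hm, -⟩ := (Cfsg.Agent.S4416.result.{_, 0} W hes).1
    rw [hm] at hgt hle ⊢
    have hm2 : 2 ≤ m := by
      by_contra h
      have : m = 1 := by omega
      subst this
      norm_num at hgt
    have hm4 : m ≤ 4 := by
      by_contra h
      push_neg at h
      have : 2 ^ 11 ≤ 2 ^ (2 * m + 1) := Nat.pow_le_pow_right (by norm_num) (by omega)
      have h2 := le_trans this hle
      norm_num at h2
    interval_cases m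
    · left; rfl
    · right; left; rfl
    · right; right; rfl
  · ext x
    simp only [Set.mem_ofPred_eq, SetLike.mem_coe]
    constructor
    · intro hx
      rcases Z.D x hx with rfl | rfl
      · exact Subgroup.one_mem _
      · exact Subgroup.mem_center_iff.mpr hzc
    · intro hx e he
      rcases hcen x hx with rfl | rfl
      · exact map_one e
      · exact Z.fixd e he

end main

end Cfsg.Agent.Lib.Helper60.QFix
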