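import Mathlib
import Cfsg.Agent.Lib.Helper72.SCDefs
import Cfsg.Agent.Lib.Helper41.Cores

/-!
# S4394 (project SC, helper72), piece SC-RNG

The range of the conjugation action `rho p G` on the Frattini quotient of `O_p(G)` is
`p`-solvable and has trivial `O_p`, given that its kernel is `O_p(G)`.
-/

set_option autoImplicit false

namespace Cfsg.Agent.Lib.Helper60.SC

open Cfsg.Agent.Lib.Helper72.SC

universe u

/-- `p`-solvability passes to homomorphic images (local copy of the standard argument). -/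
theorem isPSolvable_image {p : ℕ} [Fact p.Prime] {A B : Type*} [Group A] [Group B]
    (f : A →* B) (hf : Function.Surjective f) (h : Cfsg.IsPSolvable p A) :
    Cfsg.IsPSolvable p B := by
  obtain ⟨n, H, h0, hlast, hmono, hnorm, hfac⟩ := h
  refine ⟨n, fun i => (H i).map f, ?_, ?_, ?_, ?_, ?_⟩
  · simp [h0]
  · simp only [hlast]; exact Subgroup.map_top_of_surjective f hf
  · intro i j hij; exact Subgroup.map_mono (hmono hij)
  · intro i; exact (hnorm i).map f hf
  · intro i
    have hle : H i.castSucc ≤ H i.succ := hmono (Fin.castSucc_lt_succ).le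
    have hn0 : (H i.castSucc).Normal := hnorm _
    have hdvd : ((H i.castSucc).map f).relIndex ((H i.succ).map f) ∣
        (H i.castSucc).relIndex (H i.succ) := by
      rw [Subgroup.relIndex_map_map]
      have e1 : H i.succ ⊔ f.ker = H i.succ ⊔ (H i.castSucc ⊔ f.ker) := by
        rw [← sup_assoc, sup_eq_left.mpr hle]
      rw [e1, Subgroup.relIndex_sup_right, ← Subgroup.inf_relIndex_right]
      have h1 : H i.castSucc ≤ (H i.castSucc ⊔ f.ker) ⊓ H i.succ := le_inf le_sup_left hle
      exact Dvd.intro_left _ (Subgroup.relIndex_mul_relIndex _ _ _ h1 inf_le_right)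
    rcases hfac i with ⟨m, hm⟩ | hc
    · left
      rw [hm] at hdvd
      obtain ⟨j, -, hj⟩ := (Nat.dvd_prime_pow Fact.out).mp hdvd
      exact ⟨j, hj⟩
    · right
      exact Nat.Coprime.coprime_dvd_left hdvd hc

theorem rng (h1 : KerStmt.{u}) : RngStmt.{u} := by
  intro G _ _ p _ hG hO
  have hker : (rho p G).ker = Cfsg.pCore p G := h1 G p hG hO
  have hsurj : Function.Surjective (rho p G).rangeRestrict := (rho p G).rangeRestrict_surjective
  refine ⟨isPSolvable_image (rho p G).rangeRestrict hsurj hG, ?_⟩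
  rw [eq_bot_iff]
  have hNp : IsPGroup p ↥(Cfsg.pCore p ↥(rho p G).range) :=
    Cfsg.Agent.Lib.Helper41.pCore_isPGroup p
  have hNn : (Cfsg.pCore p ↥(rho p G).range).Normal := by
    have h := Cfsg.Agent.Lib.Helper41.sSup_mem_of_sup_closed
      {N : Subgroup ↥(rho p G).range | N.Normal ∧ IsPGroup p N}
      ⟨⊥, inferInstance, IsPGroup.of_bot⟩ (by
        rintro A ⟨hA1, hA2⟩ B ⟨hB1, hB2⟩
        exact ⟨inferInstance, hA2.to_sup_of_normal_right hB2⟩)
    exact h.1
  have hMp : IsPGroup p ↥((Cfsg.pCore p ↥(rho p G).range).comap (rho p G).rangeRestrict) := by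
    apply hNp.comap_of_ker_isPGroup
    rw [MonoidHom.ker_rangeRestrict, hker]
    exact Cfsg.Agent.Lib.Helper41.pCore_isPGroup p
  have hle : (Cfsg.pCore p ↥(rho p G).range).comap (rho p G).rangeRestrict ≤ Cfsg.pCore p G :=
    Cfsg.Agent.Lib.Helper41.le_pCore _ hMp
  intro x hx
  obtain ⟨g, rfl⟩ := hsurj x
  have hg : g ∈ (rho p G).ker := by
    rw [hker]
    exact hle hx
  rw [Subgroup.mem_bot]
  apply Subtype.ext
  exact hg

end Cfsg.Agent.Lib.Helper60.SC
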