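import Mathlib
import Cfsg.Prelude.Def_GeometricClasses
import Cfsg.Prelude.Def_LieClassical
import Cfsg.Agent.Lib.Helper60.SUQTF

/-!
# Project SUQ (helper50), piece TFS (second, independent attempt by helper60)

From hermitian Gram matrices `G₁`, `G₂` to unitary forms: the tensor form structure of the
statements.
-/

set_option autoImplicit false

namespace Cfsg.Agent.Lib.Helper60.SUQTFS

open Matrix Cfsg.Geo
open Cfsg.Agent.Lib.Helper60.SUQTF (tf_frob)
open scoped Kronecker

variable {n : ℕ} {F : Type*} [Field F] [Fintype F] {q : ℕ}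

omit [Fintype F] in
/-- The Gram matrix of `formOfGram` is the matrix. -/
theorem tfs_gram (hq : q ≠ 0) {d : ℕ} (G : Matrix (Fin d) (Fin d) F) :
    gramMatrix (formOfGram (fun c : F => c ^ q) G) = G := by
  classical
  ext a b
  unfold gramMatrix formOfGram
  rw [Finset.sum_eq_single a, Finset.sum_eq_single b]
  · simp
  · intro b' _ hb'
    simp [hb', hq]
  · intro h
    exact absurd (Finset.mem_univ b) h
  · intro a' _ ha'
    apply Finset.sum_eq_zero
    intro b' _
    simp [ha']
  · intro h
    exact absurd (Finset.mem_univ a) h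

/-- A hermitian invertible matrix gives a unitary form. -/
theorem tfs_unitary (hF : Fintype.card F = q ^ 2) {d : ℕ} (G : Matrix (Fin d) (Fin d) F)
    (h1 : G.det ≠ 0) (hh1 : ∀ a b, G a b = (G b a) ^ q) :
    IsUnitaryFormPow q (formOfGram (fun c : F => c ^ q) G) := by
  classical
  obtain ⟨φ, hφ, hφφ⟩ := tf_frob hF
  have hherm : ∀ v w : Fin d → F, formOfGram (fun c : F => c ^ q) G v w =
      (formOfGram (fun c : F => c ^ q) G w v) ^ q := by
    intro v w
    unfold formOfGram
    rw [← hφ, map_sum]
    rw [Finset.sum_comm]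
    apply Finset.sum_congr rfl
    intro b _
    rw [map_sum]
    apply Finset.sum_congr rfl
    intro a _
    rw [map_mul, map_mul]
    show v a * G a b * (w b) ^ q = φ (w b) * φ (G b a) * φ ((v a) ^ q)
    rw [← hφ (v a), hφφ, hφ (G b a), ← hh1 a b, hφ]
    ring
  refine ⟨fun x y v => ?_, fun c x v => ?_, hherm, ?_⟩
  · unfold formOfGram
    simp only [Pi.add_apply, add_mul, Finset.sum_add_distrib]
  · unfold formOfGram
    simp only [Pi.smul_apply, smul_eq_mul, Finset.mul_sum, mul_assoc]
  · intro v hv
    have key : ∃ x, formOfGram (fun c : F => c ^ q) G x v ≠ 0 := by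
      by_contra hcon
      push Not at hcon
      apply hv
      have h3 : G *ᵥ (fun b => φ (v b)) = 0 := by
        funext i
        have h4 := hcon (Pi.single i 1)
        unfold formOfGram at h4
        rw [Finset.sum_eq_single i] at h4
        · simp only [Pi.single_eq_same, one_mul] at h4
          simp only [Matrix.mulVec, dotProduct, Pi.zero_apply]
          rw [← h4]
          apply Finset.sum_congr rfl
          intro b _
          rw [hφ]
        · intro a' _ ha'
          apply Finset.sum_eq_zero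
          intro b' _
          simp [ha']
        · intro h
          exact absurd (Finset.mem_univ i) h
      have h5 : (fun b => φ (v b)) = 0 := by
        by_contra h6
        exact h1 (Matrix.exists_mulVec_eq_zero_iff.mp ⟨_, h6, h3⟩)
      funext b
      have h7 := congrFun h5 b
      have h8 : φ (v b) = 0 := h7
      have h9 := congrArg φ h8
      rw [hφφ, map_zero] at h9
      exact h9
    refine ⟨key, ?_⟩
    obtain ⟨x, hx⟩ := key
    refine ⟨x, ?_⟩
    intro h0
    apply hx
    rw [hherm x v, h0]
    have hq0 : q ≠ 0 := by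
      intro hq0
      have h3 : 0 < Fintype.card F := Fintype.card_pos
      rw [hF, hq0] at h3
      simp at h3
    exact zero_pow hq0

/-- TFS: from hermitian Gram matrices to unitary forms: the tensor form structure of the
statements. -/
theorem TFS (hF : Fintype.card F = q ^ 2) {d k : ℕ} (e : Fin n ≃ Fin d × Fin k)
    (P : GL (Fin n) F) (G₁ : Matrix (Fin d) (Fin d) F) (G₂ : Matrix (Fin k) (Fin k) F)
    (h1 : G₁.det ≠ 0) (h2 : G₂.det ≠ 0) (hh1 : ∀ a b, G₁ a b = (G₁ b a) ^ q)
    (hh2 : ∀ a b, G₂ a b = (G₂ b a) ^ q)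
    (hid : ∀ x y : Fin d × Fin k → F,
      Cfsg.hermForm n F q (P.1 *ᵥ (x ∘ e)) (P.1 *ᵥ (y ∘ e)) =
        formOfGram (fun c : F => c ^ q) (G₁ ⊗ₖ G₂) x y) :
    ∃ (f₁ : (Fin d → F) → (Fin d → F) → F) (f₂ : (Fin k → F) → (Fin k → F) → F),
      IsUnitaryFormPow q f₁ ∧ IsUnitaryFormPow q f₂ ∧
      IsTensorFormStructure (fun x : F => x ^ q) (Cfsg.hermForm n F q) f₁ f₂ e P := by
  have hq0 : q ≠ 0 := by
    intro hq0
    have h3 : 0 < Fintype.card F := Fintype.card_pos
    rw [hF, hq0] at h3
    simp at h3
  refine ⟨formOfGram (fun c : F => c ^ q) G₁, formOfGram (fun c : F => c ^ q) G₂,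
    tfs_unitary hF G₁ h1 hh1, tfs_unitary hF G₂ h2 hh2, 1, one_ne_zero, fun x y => ?_⟩
  rw [tfs_gram hq0, tfs_gram hq0, one_mul]
  exact hid x y

end Cfsg.Agent.Lib.Helper60.SUQTFS
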