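import Mathlib
import Cfsg.Agent.Lib.Helper50.SubfMax

/-!
# Subfield subgroups of `SL_6` are maximal (job SL6-S6, project SL6 of helper1, S5798)

Lowers helper50's `subfield_isMaximalIn` (`7 ≤ n`) to `n = 6`.

* `r ≤ 5`: an element in general position forces `6 ≤ r`, so there is none.
* characteristic two: the dihedral argument of helper50 goes through with a vector supported on
  the coordinates `0, 2, 4`.
* odd characteristic, `r ≥ 7`: the two rational involution types `2` and `4` are negatives of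
  each other in dimension six, so the non-conjugate pair of the general argument does not exist.
  Instead: for `m ∈ M` outside `H1` and every rational shear `p`, an involution of `M` conjugates
  the rational involution `t` to `(p⁻¹ m) t (p⁻¹ m)⁻¹`; this gives elements `h x ∈ H1`
  (`x ∈ F₀ × F₀`) with `(m * h x)² = 1`, each preserving the `(-1)`-eigenplane of `t`.  By the
  pigeonhole principle on the `q₀ + 1` rational points of that plane two of them, `h x`, `h y`,
  send `e₀` to proportional vectors; then `h y * (h x)⁻¹` has a rational eigenvector and is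
  conjugate under `m` to `(h y)⁻¹ * h x ∈ H1`, which forces both to be scalar (general position
  of `m`, and `c ^ 6 ∈ F₀ → c ∈ F₀` as `r ≥ 7` is prime), whence `x = y`.
-/

set_option autoImplicit false

namespace Cfsg.Agent.Lib.Helper60.Subf6

open Matrix Cfsg.Agent.Lib.Helper97 Cfsg.Agent.Lib.Helper50

/-- Two involutions in a finite group: an involution of the dihedral group they generate
conjugates one to the other, or a power of their product is a central involution of that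
dihedral group. -/
theorem s6_dihedral {G : Type*} [Group G] [Finite G] (a b : G) (ha : a * a = 1)
    (hb : b * b = 1) :
    (∃ i : ℕ, (a * (a * b) ^ i) * (a * (a * b) ^ i) = 1 ∧
        (a * (a * b) ^ i) * a * (a * (a * b) ^ i) = b) ∨
    (∃ j : ℕ, (a * b) ^ j ≠ 1 ∧ (a * b) ^ j * (a * b) ^ j = 1 ∧
      a * (a * b) ^ j = (a * b) ^ j * a ∧ b * (a * b) ^ j = (a * b) ^ j * b) := by
  have hainv : a⁻¹ = a := inv_eq_of_mul_eq_one_left ha
  have hbinv : b⁻¹ = b := inv_eq_of_mul_eq_one_left hb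
  have hwinv : (a * b)⁻¹ = b * a := by rw [_root_.mul_inv_rev, hainv, hbinv]
  have haw : SemiconjBy a (a * b) (a * b)⁻¹ := by
    show a * (a * b) = (a * b)⁻¹ * a
    rw [hwinv, mul_assoc b a a, ha, mul_one, ← mul_assoc, ha, one_mul]
  have hbw : SemiconjBy b (a * b) (a * b)⁻¹ := by
    show b * (a * b) = (a * b)⁻¹ * b
    rw [hwinv, mul_assoc b a b]
  have hk : 0 < orderOf (a * b) := orderOf_pos (a * b)
  rcases Nat.even_or_odd' (orderOf (a * b)) with ⟨j, hj | hj⟩
  · right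
    have hsq : (a * b) ^ j * (a * b) ^ j = 1 := by
      rw [← pow_add, ← two_mul, ← hj]; exact pow_orderOf_eq_one (a * b)
    have h2 : ((a * b)⁻¹) ^ j = (a * b) ^ j := by
      rw [inv_pow]
      exact inv_eq_of_mul_eq_one_left hsq
    refine ⟨j, ?_, hsq, ?_, ?_⟩
    · intro h
      have h1 := orderOf_dvd_of_pow_eq_one h
      have h3 := Nat.le_of_dvd (by omega) h1
      omega
    · have h1 := (haw.pow_right j).eq
      rw [h1, h2]
    · have h1 := (hbw.pow_right j).eq
      rw [h1, h2]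
  · left
    refine ⟨j + 1, ?_, ?_⟩
    · have h1 := (haw.pow_right (j + 1)).eq
      calc a * (a * b) ^ (j + 1) * (a * (a * b) ^ (j + 1))
          = ((a * b)⁻¹) ^ (j + 1) * a * (a * (a * b) ^ (j + 1)) := by rw [h1]
        _ = ((a * b)⁻¹) ^ (j + 1) * (a * a) * (a * b) ^ (j + 1) := by group
        _ = 1 := by rw [ha, mul_one, inv_pow, inv_mul_cancel]
    · have h3 : (a * b) ^ (j + 1) * (a * b) ^ (j + 1) = a * b := by
        have h4 := pow_orderOf_eq_one (a * b)
        rw [hj] at h4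
        rw [← pow_add, show j + 1 + (j + 1) = (2 * j + 1) + 1 by ring, pow_succ, h4, one_mul]
      calc a * (a * b) ^ (j + 1) * a * (a * (a * b) ^ (j + 1))
          = a * (a * b) ^ (j + 1) * (a * a) * (a * b) ^ (j + 1) := by group
        _ = a * ((a * b) ^ (j + 1) * (a * b) ^ (j + 1)) := by rw [ha, mul_one, mul_assoc]
        _ = b := by rw [h3, ← mul_assoc, ha, one_mul]

section deg

variable {F : Type*} [Field F] [Finite F]

/-- In an extension of prime degree `r`, an element one of whose powers `y ^ d`, `0 < d < r`,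
lies in the small field lies in the small field. -/
theorem s6_mem_of_pow_mem (F₀ : Subfield F) (r : ℕ) (hr : r.Prime)
    (hfr : Module.finrank F₀ F = r) (d : ℕ) (hd : 0 < d) (hdr : d < r) (y : F)
    (hy : y ^ d ∈ F₀) : y ∈ F₀ := by
  have hint : IsIntegral F₀ y := Algebra.IsIntegral.isIntegral y
  set p : Polynomial F₀ := Polynomial.X ^ d - Polynomial.C ⟨y ^ d, hy⟩ with hp
  have hmon : p.Monic := Polynomial.monic_X_pow_sub_C _ hd.ne'
  have hroot : Polynomial.aeval y p = 0 := by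
    rw [hp, map_sub, map_pow, Polynomial.aeval_X, Polynomial.aeval_C]
    exact sub_self _
  have hdeg : (minpoly F₀ y).natDegree ≤ d := by
    have h1 := minpoly.min F₀ y hmon hroot
    have h2 : p.natDegree = d := Polynomial.natDegree_X_pow_sub_C
    rw [← h2]
    exact Polynomial.natDegree_le_natDegree h1
  have hfin : Module.finrank F₀ (IntermediateField.adjoin F₀ {y}) = (minpoly F₀ y).natDegree :=
    IntermediateField.adjoin.finrank hint
  have hdvd : Module.finrank F₀ (IntermediateField.adjoin F₀ {y}) ∣ r := by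
    rw [← hfr]
    exact ⟨_, (Module.finrank_mul_finrank F₀ (IntermediateField.adjoin F₀ {y}) F).symm⟩
  rcases (Nat.dvd_prime hr).mp hdvd with h1 | h1
  · have h2 := IntermediateField.finrank_adjoin_simple_eq_one_iff.mp h1
    obtain ⟨x, hx⟩ := IntermediateField.mem_bot.mp h2
    rw [← hx]
    exact x.2
  · rw [hfin] at h1
    omega

end deg

section x0

variable {F : Type*} [Field F]

theorem s6_two_by_three (p q : Fin 3 → F) :
    ∃ c : Fin 3 → F, c ≠ 0 ∧ p ⬝ᵥ c = 0 ∧ q ⬝ᵥ c = 0 := by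
  have hdet : (Matrix.of ![p, q, 0] : Matrix (Fin 3) (Fin 3) F).det = 0 :=
    Matrix.det_eq_zero_of_row_eq_zero 2 (fun j => rfl)
  obtain ⟨c, hc0, hc⟩ := Matrix.exists_mulVec_eq_zero_iff.mpr hdet
  exact ⟨c, hc0, congrFun hc 0, congrFun hc 1⟩

/-- A non-zero vector supported on three given coordinates whose image under `g` has two given
vanishing coordinates. -/
theorem s6_exists_x0 {n : ℕ} (g : Matrix (Fin n) (Fin n) F) (j0 j1 k0 k1 k2 : Fin n)
    (h01 : k0 ≠ k1) (h02 : k0 ≠ k2) (h12 : k1 ≠ k2) :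
    ∃ x0 : Fin n → F, x0 ≠ 0 ∧ (∀ k : Fin n, k ≠ k0 → k ≠ k1 → k ≠ k2 → x0 k = 0) ∧
      (g *ᵥ x0) j0 = 0 ∧ (g *ᵥ x0) j1 = 0 := by
  obtain ⟨c, hc0, hp, hq⟩ := s6_two_by_three
    (fun t => g j0 (![k0, k1, k2] t)) (fun t => g j1 (![k0, k1, k2] t))
  rw [dotProduct, Fin.sum_univ_three] at hp hq
  simp only [Matrix.cons_val_zero, Matrix.cons_val_one, Matrix.cons_val_two, Matrix.head_cons,
    Matrix.tail_cons] at hp hq
  refine ⟨c 0 • Pi.single k0 1 + c 1 • Pi.single k1 1 + c 2 • Pi.single k2 1, ?_, ?_, ?_, ?_⟩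
  · intro h
    apply hc0
    funext t
    fin_cases t
    · have h1 := congrFun h k0
      simpa [Pi.single_apply, h01, h02, h01.symm, h02.symm] using h1
    · have h1 := congrFun h k1
      simpa [Pi.single_apply, h01, h12, h01.symm, h12.symm] using h1
    · have h1 := congrFun h k2
      simpa [Pi.single_apply, h02, h12, h02.symm, h12.symm] using h1
  · intro k hk0 hk1 hk2
    simp [hk0, hk1, hk2]
  · rw [Matrix.mulVec_add, Matrix.mulVec_add, Matrix.mulVec_smul, Matrix.mulVec_smul,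
      Matrix.mulVec_smul, Matrix.mulVec_single_one, Matrix.mulVec_single_one,
      Matrix.mulVec_single_one]
    simp only [Pi.add_apply, Pi.smul_apply, Matrix.col_apply, smul_eq_mul]
    linear_combination hp
  · rw [Matrix.mulVec_add, Matrix.mulVec_add, Matrix.mulVec_smul, Matrix.mulVec_smul,
      Matrix.mulVec_smul, Matrix.mulVec_single_one, Matrix.mulVec_single_one,
      Matrix.mulVec_single_one]
    simp only [Pi.add_apply, Pi.smul_apply, Matrix.col_apply, smul_eq_mul]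
    linear_combination hq

end x0


section conj

variable {ι : Type} [Fintype ι] [DecidableEq ι] {F : Type*} [Field F]

/-- The dihedral argument without the non-conjugacy hypothesis: for `m ∈ M` outside `H1` an
involution of `M` conjugates `a` to `m b0 m⁻¹`. -/
theorem s6_conj_of_involutions {F₀ : Subfield F} {M : Subgroup (GL ι F)} [Finite (GL ι F)]
    (hGPl : ∀ m ∈ M, ¬ GP F₀ m → m ∈ H1 ι F₀)
    (hsq : ∀ c : F, c ^ 2 ∈ F₀ → c ∈ F₀)
    (a b0 : GL ι F) (haM : a ∈ M) (hb0M : b0 ∈ M)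
    (ha2 : a * a = 1) (hb2 : b0 * b0 = 1)
    (hb0p : (b0 : Matrix ι ι F) + 1 ≠ 0)
    (hP1 : ∀ z : GL ι F, a * z = z * a → ¬ GP F₀ z)
    (φ0 : ι → F) (hφ0 : RatV F₀ φ0) (hφ00 : φ0 ≠ 0)
    (hP2 : ∀ w : ι → F, (b0 : Matrix ι ι F) *ᵥ w = w → φ0 ⬝ᵥ w = 0)
    (hP4 : ∀ m : GL ι F, ∃ x0 : ι → F, x0 ≠ 0 ∧ (a : Matrix ι ι F) *ᵥ x0 = x0 ∧
        (b0 : Matrix ι ι F) *ᵥ (((m⁻¹ : GL ι F) : Matrix ι ι F) *ᵥ x0) =
          ((m⁻¹ : GL ι F) : Matrix ι ι F) *ᵥ x0)
    (m : GL ι F) (hm : m ∈ M) (hmH : m ∉ H1 ι F₀) :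
    ∃ u : GL ι F, u ∈ M ∧ u * u = 1 ∧ u * a * u = m * b0 * m⁻¹ := by
  have hGPm' : GP F₀ m⁻¹ := by
    by_contra h
    have h1 := (H1 ι F₀).inv_mem (hGPl m⁻¹ (M.inv_mem hm) h)
    rw [inv_inv] at h1
    exact hmH h1
  set b : GL ι F := m * b0 * m⁻¹ with hb
  have hbM : b ∈ M := M.mul_mem (M.mul_mem hm hb0M) (M.inv_mem hm)
  have hbb : b * b = 1 := by
    have h1 : b * b = m * (b0 * b0) * m⁻¹ := by rw [hb]; group
    rw [h1, hb2, mul_one, mul_inv_cancel]
  obtain ⟨i0, -⟩ := Function.ne_iff.mp hφ00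
  have hrat : ∀ z : GL ι F, z ∈ H1 ι F₀ → z * z = 1 → RatM F₀ (z : Matrix ι ι F) := by
    intro z hz hzz
    obtain ⟨c, hc0, A, hA, hzA⟩ := exists_of_mem_H1 F₀ z hz
    have h1 : (c ^ 2) • (A * A) = 1 := by
      have h2 := congrArg Units.val hzz
      rw [Units.val_mul, hzA, Matrix.smul_mul, Matrix.mul_smul, smul_smul, Units.val_one] at h2
      rw [pow_two]; exact h2
    have h2 := congrFun (congrFun h1 i0) i0
    rw [Matrix.smul_apply, Matrix.one_apply_eq, smul_eq_mul] at h2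
    have h3 : (c⁻¹) ^ 2 ∈ F₀ := by
      have h4 : (c⁻¹) ^ 2 = (A * A) i0 i0 := by
        rw [inv_pow]; exact inv_eq_of_mul_eq_one_right h2
      rw [h4]; exact ratM_mul hA hA i0 i0
    have h4 : c ∈ F₀ := by
      have h5 := F₀.inv_mem (hsq _ h3)
      rwa [inv_inv] at h5
    rw [hzA]; exact ratM_smul h4 hA
  have hkey : ∀ z y : GL ι F, RatM F₀ (z : Matrix ι ι F) → z * z = 1 →
      (z : Matrix ι ι F) - 1 ≠ 0 → (z : Matrix ι ι F) + 1 ≠ 0 → y * z = z * y → ¬ GP F₀ y := by
    intro z y hzr hzz hzm hzp hyz hGP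
    obtain ⟨k, hk⟩ := exists_col_ne_zero hzp
    obtain ⟨l, hl⟩ := exists_row_ne_zero hzm
    have hv : RatV F₀ (((z : Matrix ι ι F) + 1) *ᵥ Pi.single k 1) :=
      ratM_mulVec (ratM_add hzr (ratM_one F₀)) (ratV_single F₀ k F₀.one_mem)
    have hφ : RatV F₀ (Pi.single l 1 ᵥ* ((z : Matrix ι ι F) - 1)) :=
      ratM_vecMul (ratV_single F₀ l F₀.one_mem) (ratM_sub hzr (ratM_one F₀))
    apply hGP _ _ hv hφ hk hl
    have hyz' : (y : Matrix ι ι F) * (z : Matrix ι ι F) = (z : Matrix ι ι F) * (y : Matrix ι ι F) := by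
      rw [← Units.val_mul, ← Units.val_mul, hyz]
    have hzz' : (z : Matrix ι ι F) * (z : Matrix ι ι F) = 1 := by
      rw [← Units.val_mul, hzz, Units.val_one]
    have h1 : ((z : Matrix ι ι F) - 1) * ((y : Matrix ι ι F) * ((z : Matrix ι ι F) + 1)) = 0 := by
      calc ((z : Matrix ι ι F) - 1) * ((y : Matrix ι ι F) * ((z : Matrix ι ι F) + 1))
          = (z : Matrix ι ι F) * ((y : Matrix ι ι F) * (z : Matrix ι ι F))
            + (z : Matrix ι ι F) * (y : Matrix ι ι F)
            - (y : Matrix ι ι F) * (z : Matrix ι ι F) - (y : Matrix ι ι F) := by noncomm_ring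
        _ = (z : Matrix ι ι F) * (z : Matrix ι ι F) * (y : Matrix ι ι F)
            + (z : Matrix ι ι F) * (y : Matrix ι ι F)
            - (z : Matrix ι ι F) * (y : Matrix ι ι F) - (y : Matrix ι ι F) := by
          rw [hyz', ← mul_assoc]
        _ = 0 := by rw [hzz']; noncomm_ring
    rw [← Matrix.dotProduct_mulVec, Matrix.mulVec_mulVec, Matrix.mulVec_mulVec,
      Matrix.mul_assoc, h1, Matrix.zero_mulVec, dotProduct_zero]
  rcases s6_dihedral a b ha2 hbb with ⟨i, hu1, hu2⟩ | ⟨j, hz1, hzz, haz, hbz⟩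
  · exact ⟨a * (a * b) ^ i, M.mul_mem haM (M.pow_mem (M.mul_mem haM hbM) i), hu1, hu2⟩
  · exfalso
    set z : GL ι F := (a * b) ^ j with hz
    have hzM : z ∈ M := M.pow_mem (M.mul_mem haM hbM) j
    have hzH : z ∈ H1 ι F₀ := hGPl z hzM (hP1 z haz)
    have hzr := hrat z hzH hzz
    have hzm : (z : Matrix ι ι F) - 1 ≠ 0 := by
      intro h
      apply hz1
      apply Units.ext
      rw [Units.val_one]
      exact sub_eq_zero.mp h
    obtain ⟨x0, hx0, hax0, hbx0⟩ := hP4 m
    have hbx0' : (b : Matrix ι ι F) *ᵥ x0 = x0 := by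
      rw [hb, Units.val_mul, Units.val_mul, ← Matrix.mulVec_mulVec, ← Matrix.mulVec_mulVec,
        hbx0, gl_mulVec_inv]
    have hzx0 : (z : Matrix ι ι F) *ᵥ x0 = x0 := by
      rw [hz, Units.val_pow_eq_pow_val]
      apply pow_mulVec_fix
      rw [Units.val_mul, ← Matrix.mulVec_mulVec, hbx0', hax0]
    have hzp : (z : Matrix ι ι F) + 1 ≠ 0 := by
      intro h
      have h1 : (z : Matrix ι ι F) = -1 := eq_neg_of_add_eq_zero_left h
      rw [h1, Matrix.neg_mulVec, Matrix.one_mulVec] at hzx0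
      have h2 : (2 : F) = 0 := by
        obtain ⟨i1, hi1⟩ := Function.ne_iff.mp hx0
        have h3 := congrFun hzx0 i1
        rw [Pi.neg_apply] at h3
        have h4 : (2 : F) * x0 i1 = 0 := by
          rw [two_mul]
          nth_rewrite 1 [← h3]
          exact neg_add_cancel _
        rcases mul_eq_zero.mp h4 with h5 | h5
        · exact h5
        · exact absurd h5 hi1
      apply hzm
      rw [h1]
      have h6 : (-1 : Matrix ι ι F) - 1 = -((2 : F) • (1 : Matrix ι ι F)) := by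
        rw [two_smul]; abel
      rw [h6, h2, zero_smul, neg_zero]
    have hbGP := hkey z b hzr hzz hzm hzp hbz
    have hbH := hGPl b hbM hbGP
    have hbr := hrat b hbH hbb
    have hbp : (b : Matrix ι ι F) + 1 ≠ 0 := by
      intro h
      apply hb0p
      have h7 : (b : Matrix ι ι F) + 1 =
          (m : Matrix ι ι F) * ((b0 : Matrix ι ι F) + 1) * ((m⁻¹ : GL ι F) : Matrix ι ι F) := by
        rw [hb, Units.val_mul, Units.val_mul, Matrix.mul_add, Matrix.add_mul, Matrix.mul_one,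
          Units.mul_inv]
      have h8 : (b0 : Matrix ι ι F) + 1 = ((m⁻¹ : GL ι F) : Matrix ι ι F) *
          ((b : Matrix ι ι F) + 1) * (m : Matrix ι ι F) := by
        rw [h7]
        calc (b0 : Matrix ι ι F) + 1
            = (((m⁻¹ : GL ι F) : Matrix ι ι F) * (m : Matrix ι ι F)) * ((b0 : Matrix ι ι F) + 1)
              * (((m⁻¹ : GL ι F) : Matrix ι ι F) * (m : Matrix ι ι F)) := by
              rw [Units.inv_mul, one_mul, mul_one]
          _ = _ := by simp only [Matrix.mul_assoc]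
      rw [h8, h, Matrix.mul_zero, Matrix.zero_mul]
    obtain ⟨k, hk⟩ := exists_col_ne_zero hbp
    have hv'r : RatV F₀ (((b : Matrix ι ι F) + 1) *ᵥ Pi.single k 1) :=
      ratM_mulVec (ratM_add hbr (ratM_one F₀)) (ratV_single F₀ k F₀.one_mem)
    set v' : ι → F := ((b : Matrix ι ι F) + 1) *ᵥ Pi.single k 1 with hv'
    have hbv' : (b : Matrix ι ι F) *ᵥ v' = v' := by
      have h1 : (b : Matrix ι ι F) * ((b : Matrix ι ι F) + 1) = (b : Matrix ι ι F) + 1 := by
        rw [Matrix.mul_add, Matrix.mul_one, ← Units.val_mul, hbb, Units.val_one, add_comm]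
      rw [hv', Matrix.mulVec_mulVec, h1]
    clear_value v'
    have h5 : (b0 : Matrix ι ι F) *ᵥ (((m⁻¹ : GL ι F) : Matrix ι ι F) *ᵥ v') =
        ((m⁻¹ : GL ι F) : Matrix ι ι F) *ᵥ v' := by
      have h6 : (b : Matrix ι ι F) *ᵥ v' = (m : Matrix ι ι F) *ᵥ ((b0 : Matrix ι ι F) *ᵥ
          (((m⁻¹ : GL ι F) : Matrix ι ι F) *ᵥ v')) := by
        rw [hb, Units.val_mul, Units.val_mul, Matrix.mulVec_mulVec, Matrix.mulVec_mulVec,
          Matrix.mul_assoc]
      rw [hbv'] at h6
      have h7 : ((m⁻¹ : GL ι F) : Matrix ι ι F) *ᵥ v' = ((m⁻¹ : GL ι F) : Matrix ι ι F) *ᵥ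
          ((m : Matrix ι ι F) *ᵥ ((b0 : Matrix ι ι F) *ᵥ
          (((m⁻¹ : GL ι F) : Matrix ι ι F) *ᵥ v'))) :=
        congrArg (fun x => ((m⁻¹ : GL ι F) : Matrix ι ι F) *ᵥ x) h6
      rw [gl_inv_mulVec] at h7
      exact h7.symm
    exact hGPm' v' φ0 hv'r hφ0 hk hφ00 (hP2 _ h5)

omit [Fintype ι] [DecidableEq ι] in
theorem s6_ratM_det [Fintype ι] [DecidableEq ι] {F₀ : Subfield F} {A : Matrix ι ι F}
    (hA : RatM F₀ A) : A.det ∈ F₀ := by
  rw [Matrix.det_apply]
  refine F₀.sum_mem (fun σ _ => ?_)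
  rw [Units.smul_def, zsmul_eq_mul]
  exact F₀.mul_mem (intCast_mem F₀ _) (F₀.prod_mem (fun i _ => hA _ _))

/-- If `A = m B m⁻¹` with `A`, `B` in `H1`, `m` in general position, and `B` has a rational
eigenvector, then `A` is a scalar matrix. -/
theorem s6_ti_scalar {F₀ : Subfield F}
    (hdeg : ∀ y : F, y ^ Fintype.card ι ∈ F₀ → y ∈ F₀)
    (m : GL ι F) (hGP : GP F₀ m) (A B : GL ι F) (hA : A ∈ H1 ι F₀) (hB : B ∈ H1 ι F₀)
    (hAB : A * m = m * B) (e : ι → F) (he : RatV F₀ e) (he0 : e ≠ 0) (γ : F)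
    (hBe : (B : Matrix ι ι F) *ᵥ e = γ • e) :
    ∃ ζ : F, (A : Matrix ι ι F) = ζ • (1 : Matrix ι ι F) := by
  obtain ⟨c, hc0, A₀, hA₀, hAval⟩ := exists_of_mem_H1 F₀ A hA
  obtain ⟨c', hc'0, B₀, hB₀, hBval⟩ := exists_of_mem_H1 F₀ B hB
  obtain ⟨i, hi⟩ := Function.ne_iff.mp he0
  rw [Pi.zero_apply] at hi
  have h1 : c' * (B₀ *ᵥ e) i = γ * e i := by
    have h := congrFun hBe i
    rw [hBval, Matrix.smul_mulVec, Pi.smul_apply, Pi.smul_apply, smul_eq_mul, smul_eq_mul] at h
    exact h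
  have h2 : γ / c' ∈ F₀ := by
    have h3 : γ / c' = (B₀ *ᵥ e) i / e i := by
      field_simp
      linear_combination -h1
    rw [h3]
    exact F₀.div_mem (ratM_mulVec hB₀ he i) (he i)
  have hm0 : (m : Matrix ι ι F).det ≠ 0 :=
    ((Matrix.isUnit_iff_isUnit_det _).mp m.isUnit).ne_zero
  have hA0 : (A : Matrix ι ι F).det ≠ 0 :=
    ((Matrix.isUnit_iff_isUnit_det _).mp A.isUnit).ne_zero
  have hdet : (A : Matrix ι ι F).det = (B : Matrix ι ι F).det := by
    have h := congrArg (fun x : GL ι F => (x : Matrix ι ι F).det) hAB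
    simp only [Units.val_mul, Matrix.det_mul] at h
    exact mul_right_cancel₀ hm0 (by rw [h, mul_comm])
  rw [hAval, Matrix.det_smul] at hA0
  rw [hAval, hBval, Matrix.det_smul, Matrix.det_smul] at hdet
  have hdA : A₀.det ≠ 0 := fun h => hA0 (by rw [h, mul_zero])
  have h4 : (c / c') ^ Fintype.card ι ∈ F₀ := by
    have h5 : (c / c') ^ Fintype.card ι = B₀.det / A₀.det := by
      rw [div_pow]
      have hc'n : c' ^ Fintype.card ι ≠ 0 := pow_ne_zero _ hc'0
      field_simp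
      linear_combination hdet
    rw [h5]
    exact F₀.div_mem (s6_ratM_det hB₀) (s6_ratM_det hA₀)
  have h5 := hdeg _ h4
  have hβ : γ / c ∈ F₀ := by
    have h6 : γ / c = (γ / c') / (c / c') := by
      field_simp
    rw [h6]
    exact F₀.div_mem h2 h5
  have h6 : A₀ *ᵥ ((m : Matrix ι ι F) *ᵥ e) = (γ / c) • ((m : Matrix ι ι F) *ᵥ e) := by
    have h7 : (A : Matrix ι ι F) *ᵥ ((m : Matrix ι ι F) *ᵥ e) =
        γ • ((m : Matrix ι ι F) *ᵥ e) := by
      rw [Matrix.mulVec_mulVec, ← Units.val_mul, hAB, Units.val_mul, ← Matrix.mulVec_mulVec, hBe,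
        Matrix.mulVec_smul]
    rw [hAval, Matrix.smul_mulVec] at h7
    have h8 := congrArg (fun x => c⁻¹ • x) h7
    simp only [smul_smul, inv_mul_cancel₀ hc0, one_smul] at h8
    rw [h8, div_eq_inv_mul]
  have h9 : A₀ - (γ / c) • (1 : Matrix ι ι F) = 0 := by
    by_contra hne
    obtain ⟨l, hl⟩ := exists_row_ne_zero hne
    have hφr : RatV F₀ (Pi.single l 1 ᵥ* (A₀ - (γ / c) • (1 : Matrix ι ι F))) :=
      ratM_vecMul (ratV_single F₀ l F₀.one_mem) (ratM_sub hA₀ (ratM_smul hβ (ratM_one F₀)))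
    apply hGP e _ he hφr he0 hl
    rw [← Matrix.dotProduct_mulVec, Matrix.sub_mulVec, h6, Matrix.smul_mulVec, Matrix.one_mulVec,
      sub_self, dotProduct_zero]
  refine ⟨c * (γ / c), ?_⟩
  rw [hAval, sub_eq_zero.mp h9, smul_smul]

end conj

section Two

variable {F : Type*} [Field F] [Fintype F]

/-- The characteristic two instance of the dihedral argument, for `6 ≤ n`. -/
theorem s6_le_H1_two {n : ℕ} (hn : 6 ≤ n) {F₀ : Subfield F} {M : Subgroup (GL (Fin n) F)}
    (hHM : H1 (Fin n) F₀ ⊓ Cfsg.Geo.specialLinear (Fin n) F ≤ M)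
    (hGPl : ∀ m ∈ M, ¬ GP F₀ m → m ∈ H1 (Fin n) F₀)
    (hsq : ∀ c : F, c ^ 2 ∈ F₀ → c ∈ F₀) (h2 : (2 : F) = 0) : M ≤ H1 (Fin n) F₀ := by
  set i0 : Fin n := ⟨0, by omega⟩ with hi0
  set i1 : Fin n := ⟨1, by omega⟩ with hi1
  set i2 : Fin n := ⟨2, by omega⟩ with hi2
  set i3 : Fin n := ⟨3, by omega⟩ with hi3
  set i4 : Fin n := ⟨4, by omega⟩ with hi4
  have n01 : i0 ≠ i1 := by rw [hi0, hi1]; simp
  have n02 : i0 ≠ i2 := by rw [hi0, hi2]; simp
  have n03 : i0 ≠ i3 := by rw [hi0, hi3]; simp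
  have n04 : i0 ≠ i4 := by rw [hi0, hi4]; simp
  have n12 : i1 ≠ i2 := by rw [hi1, hi2]; simp
  have n13 : i1 ≠ i3 := by rw [hi1, hi3]; simp
  have n14 : i1 ≠ i4 := by rw [hi1, hi4]; simp
  have n23 : i2 ≠ i3 := by rw [hi2, hi3]; simp
  have n24 : i2 ≠ i4 := by rw [hi2, hi4]; simp
  have n34 : i3 ≠ i4 := by rw [hi3, hi4]; simp
  have h01 : (Pi.single i1 (1 : F) : Fin n → F) ⬝ᵥ Pi.single i0 1 = 0 :=
    single_dot_single_ne n01 1 1
  have h23 : (Pi.single i3 (1 : F) : Fin n → F) ⬝ᵥ Pi.single i2 1 = 0 :=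
    single_dot_single_ne n23 1 1
  set s0 : Fin n → F := Pi.single i0 1 with hs0
  set s2 : Fin n → F := Pi.single i2 1 with hs2
  have s0_0 : s0 i0 = 1 := by rw [hs0, Pi.single_eq_same]
  have s0_1 : s0 i1 = 0 := by rw [hs0, Pi.single_eq_of_ne (Ne.symm n01)]
  have s0_2 : s0 i2 = 0 := by rw [hs0, Pi.single_eq_of_ne (Ne.symm n02)]
  have s0_3 : s0 i3 = 0 := by rw [hs0, Pi.single_eq_of_ne (Ne.symm n03)]
  have s2_0 : s2 i0 = 0 := by rw [hs2, Pi.single_eq_of_ne n02]
  have s2_1 : s2 i1 = 0 := by rw [hs2, Pi.single_eq_of_ne n12]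
  have s2_2 : s2 i2 = 1 := by rw [hs2, Pi.single_eq_same]
  have s2_3 : s2 i3 = 0 := by rw [hs2, Pi.single_eq_of_ne (Ne.symm n23)]
  set b0 : GL (Fin n) F := tvG s0 (Pi.single i1 1) h01 with hb0
  set c0 : GL (Fin n) F := tvG s2 (Pi.single i3 1) h23 with hc0
  set a : GL (Fin n) F := b0 * c0 with ha
  have hbmv : ∀ y : Fin n → F, (b0 : Matrix (Fin n) (Fin n) F) *ᵥ y = y + y i1 • s0 := by
    intro y
    rw [hb0, tvG_val, tv_mulVec, single_dotProduct, one_mul]
  have hcmv : ∀ y : Fin n → F, (c0 : Matrix (Fin n) (Fin n) F) *ᵥ y = y + y i3 • s2 := by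
    intro y
    rw [hc0, tvG_val, tv_mulVec, single_dotProduct, one_mul]
  have hamv : ∀ y : Fin n → F, (a : Matrix (Fin n) (Fin n) F) *ᵥ y =
      y + y i3 • s2 + y i1 • s0 := by
    intro y
    rw [ha, Units.val_mul, ← Matrix.mulVec_mulVec, hcmv, hbmv, Pi.add_apply, Pi.smul_apply,
      s2_1, smul_zero, add_zero]
  have hb0M : b0 ∈ M := (rat_TM hHM (ratV_single F₀ i0 F₀.one_mem)
    (ratV_single F₀ i1 F₀.one_mem) h01).mem
  have hc0M : c0 ∈ M := (rat_TM hHM (ratV_single F₀ i2 F₀.one_mem)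
    (ratV_single F₀ i3 F₀.one_mem) h23).mem
  have haM : a ∈ M := M.mul_mem hb0M hc0M
  have hsmul2 : ∀ (x : F) (v : Fin n → F), x • v + x • v = 0 := by
    intro x v
    rw [← two_smul F (x • v), h2, zero_smul]
  have hb2 : b0 * b0 = 1 := by
    apply Units.ext
    apply ext_mulVec_single
    intro k
    rw [Units.val_mul, ← Matrix.mulVec_mulVec, hbmv, hbmv, Units.val_one, Matrix.one_mulVec,
      Pi.add_apply, Pi.smul_apply, s0_1, smul_zero, add_zero, add_assoc, hsmul2, add_zero]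
  have ha2 : a * a = 1 := by
    apply Units.ext
    apply ext_mulVec_single
    intro k
    rw [Units.val_mul, ← Matrix.mulVec_mulVec, hamv, hamv, Units.val_one, Matrix.one_mulVec]
    simp only [Pi.add_apply, Pi.smul_apply, s0_1, s0_3, s2_1, s2_3, smul_zero, add_zero]
    have h5 := hsmul2 ((Pi.single k 1 : Fin n → F) i3) s2
    have h6 := hsmul2 ((Pi.single k 1 : Fin n → F) i1) s0
    calc (Pi.single k 1 : Fin n → F) + (Pi.single k 1 : Fin n → F) i3 • s2
          + (Pi.single k 1 : Fin n → F) i1 • s0 + (Pi.single k 1 : Fin n → F) i3 • s2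
          + (Pi.single k 1 : Fin n → F) i1 • s0
        = (Pi.single k 1 : Fin n → F) + ((Pi.single k 1 : Fin n → F) i3 • s2
          + (Pi.single k 1 : Fin n → F) i3 • s2) + ((Pi.single k 1 : Fin n → F) i1 • s0
          + (Pi.single k 1 : Fin n → F) i1 • s0) := by abel
      _ = Pi.single k 1 := by rw [h5, h6, add_zero, add_zero]
  refine le_H1_of_involutions hGPl hsq a b0 haM hb0M ha2 hb2 ?_ ?_ (Pi.single i1 1)
    (ratV_single F₀ _ F₀.one_mem) (single_ne_zero_fin _) ?_ ?_ ?_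
  · intro h
    have h1 := congrFun (congrFun h i0) i1
    rw [hb0, tvG_val, tv, Matrix.add_apply, Matrix.add_apply, Matrix.vecMulVec_apply, s0_0,
      Pi.single_eq_same, Matrix.one_apply_ne n01, Matrix.zero_apply, zero_add, mul_one,
      add_zero] at h1
    exact one_ne_zero h1
  · intro z haz hGP
    have h3 : (a : Matrix (Fin n) (Fin n) F) *ᵥ s0 = s0 := by
      rw [hamv, s0_3, s0_1, zero_smul, zero_smul, add_zero, add_zero]
    have h1 : (a : Matrix (Fin n) (Fin n) F) *ᵥ ((z : Matrix (Fin n) (Fin n) F) *ᵥ s0) =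
        (z : Matrix (Fin n) (Fin n) F) *ᵥ s0 := by
      rw [Matrix.mulVec_mulVec, ← Units.val_mul, haz, Units.val_mul, ← Matrix.mulVec_mulVec, h3]
    rw [hamv] at h1
    have h4 := congrFun h1 i0
    simp only [Pi.add_apply, Pi.smul_apply, s2_0, s0_0, smul_eq_mul, mul_zero, mul_one,
      add_zero] at h4
    have h5 : ((z : Matrix (Fin n) (Fin n) F) *ᵥ s0) i1 = 0 := by
      linear_combination h4
    apply hGP s0 (Pi.single i1 1) (ratV_single F₀ _ F₀.one_mem) (ratV_single F₀ _ F₀.one_mem)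
      (single_ne_zero_fin _) (single_ne_zero_fin _)
    rw [single_dotProduct, one_mul, h5]
  · intro w hw
    rw [hbmv] at hw
    have h4 := congrFun hw i0
    simp only [Pi.add_apply, Pi.smul_apply, s0_0, smul_eq_mul, mul_one] at h4
    rw [single_dotProduct, one_mul]
    linear_combination h4
  · intro g hg
    have hmv : ∀ y : Fin n → F, (a : Matrix (Fin n) (Fin n) F) *ᵥ y =
        y + (((g⁻¹ : GL (Fin n) F) : Matrix (Fin n) (Fin n) F) *ᵥ y) i1 •
          ((g : Matrix (Fin n) (Fin n) F) *ᵥ s0) := by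
      intro y
      rw [hg, Units.val_mul, Units.val_mul, ← Matrix.mulVec_mulVec, ← Matrix.mulVec_mulVec,
        hbmv, Matrix.mulVec_add, Matrix.mulVec_smul, gl_mulVec_inv]
    have e1 := hmv (Pi.single i1 1)
    have e3 := hmv (Pi.single i3 1)
    rw [hamv] at e1 e3
    rw [Pi.single_eq_same, Pi.single_eq_of_ne (Ne.symm n13), zero_smul, add_zero, one_smul,
      add_right_inj] at e1
    rw [Pi.single_eq_same, Pi.single_eq_of_ne n13, zero_smul, add_zero, one_smul,
      add_right_inj] at e3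
    have f1 := congrFun e1 i0
    have f2 := congrFun e1 i2
    have f3 := congrFun e3 i2
    rw [Pi.smul_apply, smul_eq_mul, s0_0] at f1
    rw [Pi.smul_apply, smul_eq_mul, s0_2] at f2
    rw [Pi.smul_apply, smul_eq_mul, s2_2] at f3
    have hα : (((g⁻¹ : GL (Fin n) F) : Matrix (Fin n) (Fin n) F) *ᵥ Pi.single i1 1) i1 ≠ 0 := by
      intro h
      rw [h, zero_mul] at f1
      exact one_ne_zero f1
    have hw2 : ((g : Matrix (Fin n) (Fin n) F) *ᵥ s0) i2 = 0 := by
      rcases mul_eq_zero.mp f2.symm with h | h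
      · exact absurd h hα
      · exact h
    rw [hw2, mul_zero] at f3
    exact one_ne_zero f3
  · intro m
    obtain ⟨x0, hx0, hsupp, -, h1⟩ :=
      s6_exists_x0 ((m⁻¹ : GL (Fin n) F) : Matrix (Fin n) (Fin n) F) i1 i1 i0 i2 i4 n02 n04 n24
    refine ⟨x0, hx0, ?_, ?_⟩
    · rw [hamv, hsupp i3 (Ne.symm n03) (Ne.symm n23) n34, hsupp i1 (Ne.symm n01) n12 n14,
        zero_smul, zero_smul, add_zero, add_zero]
    · rw [hbmv, h1, zero_smul, add_zero]

end Two


section Odd

variable {F : Type*} [Field F] [Fintype F]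

/-- The odd characteristic instance at `n = 6`: a counting argument on the rational points of
the `(-1)`-eigenspace of a rational involution. -/
theorem s6_le_H1_odd {F₀ : Subfield F} {M : Subgroup (GL (Fin 6) F)}
    (hHM : H1 (Fin 6) F₀ ⊓ Cfsg.Geo.specialLinear (Fin 6) F ≤ M)
    (hGPl : ∀ m ∈ M, ¬ GP F₀ m → m ∈ H1 (Fin 6) F₀)
    (hsq : ∀ c : F, c ^ 2 ∈ F₀ → c ∈ F₀) (h2 : (2 : F) ≠ 0)
    (hdeg : ∀ y : F, y ^ 6 ∈ F₀ → y ∈ F₀) : M ≤ H1 (Fin 6) F₀ := by
  classical
  intro m hm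
  by_contra hmH
  have hGPm : GP F₀ m := by
    by_contra h
    exact hmH (hGPl m hm h)
  have hd2 : (dsign 6 2 F).det = 1 := by rw [dsign_det 6 2 (by omega)]; norm_num
  set t : GL (Fin 6) F := Matrix.GeneralLinearGroup.mkOfDetNeZero (dsign 6 2 F)
    (by rw [hd2]; exact one_ne_zero) with ht
  have htval : (t : Matrix (Fin 6) (Fin 6) F) = dsign 6 2 F := rfl
  have htM : t ∈ M := hHM ⟨mem_H1_of F₀ t 1 one_ne_zero _ (ratM_dsign F₀ 6 2)
    (by rw [one_smul, htval]), (mem_specialLinear_iff t).mpr (by rw [htval, hd2])⟩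
  have ht2 : t * t = 1 :=
    Units.ext (by rw [Units.val_mul, htval, dsign_mul_self, Units.val_one])
  have hneg : ∀ x : F, -1 * x = x → x = 0 := by
    intro x hx
    have h3 : (2 : F) * x = 0 := by linear_combination (-1 : F) * hx
    rcases mul_eq_zero.mp h3 with h4 | h4
    · exact absurd h4 h2
    · exact h4
  -- the action of `t` on the first three basis vectors
  have hte0 : (t : Matrix (Fin 6) (Fin 6) F) *ᵥ Pi.single 0 1 = -(Pi.single 0 1 : Fin 6 → F) := by
    funext k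
    rw [htval, dsign_mulVec, Pi.neg_apply]
    by_cases hk : k = 0
    · subst hk
      rw [if_pos (by decide), Pi.single_eq_same, mul_one]
    · rw [Pi.single_eq_of_ne hk, mul_zero, neg_zero]
  have hte1 : (t : Matrix (Fin 6) (Fin 6) F) *ᵥ Pi.single 1 1 = -(Pi.single 1 1 : Fin 6 → F) := by
    funext k
    rw [htval, dsign_mulVec, Pi.neg_apply]
    by_cases hk : k = 1
    · subst hk
      rw [if_pos (by decide), Pi.single_eq_same, mul_one]
    · rw [Pi.single_eq_of_ne hk, mul_zero, neg_zero]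
  have hte2 : (t : Matrix (Fin 6) (Fin 6) F) *ᵥ Pi.single 2 1 = (Pi.single 2 1 : Fin 6 → F) := by
    funext k
    rw [htval, dsign_mulVec]
    by_cases hk : k = 2
    · subst hk
      rw [if_neg (by decide), one_mul]
    · rw [Pi.single_eq_of_ne hk, mul_zero]
  have hcomm_mv : ∀ c : GL (Fin 6) F, t * c = c * t → ∀ v : Fin 6 → F,
      (t : Matrix (Fin 6) (Fin 6) F) *ᵥ ((c : Matrix (Fin 6) (Fin 6) F) *ᵥ v) =
        (c : Matrix (Fin 6) (Fin 6) F) *ᵥ ((t : Matrix (Fin 6) (Fin 6) F) *ᵥ v) := by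
    intro c hc v
    rw [Matrix.mulVec_mulVec, ← Units.val_mul, hc, Units.val_mul, ← Matrix.mulVec_mulVec]
  -- elements commuting with `t` are not in general position
  have hP1 : ∀ z : GL (Fin 6) F, t * z = z * t → ¬ GP F₀ z := by
    intro z haz hGP
    have h1 := hcomm_mv z haz (Pi.single 2 1)
    rw [hte2] at h1
    have h4 := congrFun h1 0
    rw [htval, dsign_mulVec, if_pos (by decide)] at h4
    have h5 := hneg _ h4
    apply hGP (Pi.single 2 1) (Pi.single 0 1) (ratV_single F₀ _ F₀.one_mem)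
      (ratV_single F₀ _ F₀.one_mem) (single_ne_zero_fin _) (single_ne_zero_fin _)
    rw [single_dotProduct, one_mul, h5]
  have hCt : ∀ z ∈ M, t * z = z * t → z ∈ H1 (Fin 6) F₀ :=
    fun z hz h => hGPl z hz (hP1 z h)
  -- conjugating involutions
  have hC1 : ∀ m' ∈ M, m' ∉ H1 (Fin 6) F₀ →
      ∃ u : GL (Fin 6) F, u ∈ M ∧ u * u = 1 ∧ u * t * u = m' * t * m'⁻¹ := by
    intro m' hm' hm'H
    refine s6_conj_of_involutions hGPl hsq t t htM htM ht2 ht2 ?_ hP1 (Pi.single 0 1)
      (ratV_single F₀ _ F₀.one_mem) (single_ne_zero_fin _) ?_ ?_ m' hm' hm'H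
    · intro h
      have h1 := congrFun (congrFun h 2) 2
      rw [htval, Matrix.add_apply, dsign, Matrix.diagonal_apply_eq, Matrix.one_apply_eq,
        Matrix.zero_apply, if_neg (by decide), one_add_one_eq_two] at h1
      exact h2 h1
    · intro w hw
      have h4 := congrFun hw 0
      rw [htval, dsign_mulVec, if_pos (by decide)] at h4
      rw [single_dotProduct, one_mul, hneg _ h4]
    · intro m''
      obtain ⟨x0, hx0, hsupp, h0, h1⟩ :=
        s6_exists_x0 ((m''⁻¹ : GL (Fin 6) F) : Matrix (Fin 6) (Fin 6) F) 0 1 2 3 4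
          (by decide) (by decide) (by decide)
      refine ⟨x0, hx0, ?_, ?_⟩
      · funext k
        rw [htval, dsign_mulVec]
        split_ifs with hk
        · rw [hsupp k (by intro h; rw [h] at hk; revert hk; decide)
            (by intro h; rw [h] at hk; revert hk; decide)
            (by intro h; rw [h] at hk; revert hk; decide), mul_zero]
        · rw [one_mul]
      · funext k
        rw [htval, dsign_mulVec]
        split_ifs with hk
        · have h5 : k = 0 ∨ k = 1 := by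
            rcases Nat.lt_or_ge k.val 1 with h6 | h6
            · left; exact Fin.ext (by simp; omega)
            · right; exact Fin.ext (by simp; omega)
          rcases h5 with h5 | h5
          · rw [h5, h0, mul_zero]
          · rw [h5, h1, mul_zero]
        · rw [one_mul]
  -- the family of shears
  let _ : Fintype F₀ := Fintype.ofFinite F₀
  set us : F₀ × F₀ → (Fin 6 → F) :=
    fun x => (x.1 : F) • Pi.single 0 1 + (x.2 : F) • Pi.single 1 1 with hus
  have hus_rat : ∀ x, RatV F₀ (us x) := fun x =>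
    ratV_add (ratV_smul x.1.2 (ratV_single F₀ 0 F₀.one_mem))
      (ratV_smul x.2.2 (ratV_single F₀ 1 F₀.one_mem))
  have hus0 : ∀ x, us x 0 = (x.1 : F) := by
    intro x
    simp [hus]
  have hus1 : ∀ x, us x 1 = (x.2 : F) := by
    intro x
    simp [hus]
  have hus2' : ∀ x, us x 2 = 0 := by
    intro x
    simp [hus]
  have hus2 : ∀ x, (Pi.single 2 1 : Fin 6 → F) ⬝ᵥ us x = 0 := by
    intro x
    rw [single_dotProduct, one_mul, hus2']
  have htus : ∀ x, (t : Matrix (Fin 6) (Fin 6) F) *ᵥ us x = -us x := by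
    intro x
    rw [hus]
    simp only []
    rw [Matrix.mulVec_add, Matrix.mulVec_smul, Matrix.mulVec_smul, hte0, hte1, smul_neg,
      smul_neg, neg_add]
  set p : F₀ × F₀ → GL (Fin 6) F := fun x => tvG (us x) (Pi.single 2 1) (hus2 x) with hp
  have hpM : ∀ x, p x ∈ M := fun x =>
    (rat_TM hHM (hus_rat x) (ratV_single F₀ 2 F₀.one_mem) (hus2 x)).mem
  have hpH : ∀ x, p x ∈ H1 (Fin 6) F₀ := fun x =>
    tvG_mem_H1 (hus_rat x) (ratV_single F₀ 2 F₀.one_mem) (hus2 x)
  have hpmv : ∀ x (y : Fin 6 → F),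
      (p x : Matrix (Fin 6) (Fin 6) F) *ᵥ y = y + y 2 • us x := by
    intro x y
    rw [hp]
    simp only []
    rw [tvG_val, tv_mulVec, single_dotProduct, one_mul]
  -- the elements `h x`
  have hex : ∀ x : F₀ × F₀, ∃ hx : GL (Fin 6) F, hx ∈ H1 (Fin 6) F₀ ∧
      (m * hx) * (m * hx) = 1 ∧ t * (hx * p x) = (hx * p x) * t := by
    intro x
    have hm'M : (p x)⁻¹ * m ∈ M := M.mul_mem (M.inv_mem (hpM x)) hm
    have hm'H : (p x)⁻¹ * m ∉ H1 (Fin 6) F₀ := by
      intro h
      apply hmH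
      have h1 := (H1 (Fin 6) F₀).mul_mem (hpH x) h
      rwa [mul_inv_cancel_left] at h1
    obtain ⟨u, huM, hu1, hu2⟩ := hC1 _ hm'M hm'H
    have h4 : t = m⁻¹ * p x * (u * t * u) * (p x)⁻¹ * m := by
      rw [hu2]; group
    have hc : t * (m⁻¹ * p x * u) = (m⁻¹ * p x * u) * t := by
      calc t * (m⁻¹ * p x * u)
          = (m⁻¹ * p x * (u * t * u) * (p x)⁻¹ * m) * (m⁻¹ * p x * u) := by
            conv_lhs => rw [h4]
        _ = m⁻¹ * p x * u * t * (u * u) := by group
        _ = (m⁻¹ * p x * u) * t := by rw [hu1, mul_one]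
    have hcM : m⁻¹ * p x * u ∈ M := M.mul_mem (M.mul_mem (M.inv_mem hm) (hpM x)) huM
    have hcH : m⁻¹ * p x * u ∈ H1 (Fin 6) F₀ := hCt _ hcM hc
    refine ⟨m⁻¹ * p x * u * (p x)⁻¹, ?_, ?_, ?_⟩
    · exact (H1 (Fin 6) F₀).mul_mem hcH ((H1 (Fin 6) F₀).inv_mem (hpH x))
    · calc m * (m⁻¹ * p x * u * (p x)⁻¹) * (m * (m⁻¹ * p x * u * (p x)⁻¹))
          = p x * (u * u) * (p x)⁻¹ := by group
        _ = 1 := by rw [hu1, mul_one, mul_inv_cancel]
    · have h5 : m⁻¹ * p x * u * (p x)⁻¹ * p x = m⁻¹ * p x * u := by group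
      rw [h5]
      exact hc
  choose h hhH hhinv hhc using hex
  -- the vectors `w x = (h x)⁻¹ e₀`
  set w : F₀ × F₀ → (Fin 6 → F) := fun x =>
    (((h x)⁻¹ : GL (Fin 6) F) : Matrix (Fin 6) (Fin 6) F) *ᵥ Pi.single 0 1 with hw
  have hw_supp : ∀ x (k : Fin 6), 2 ≤ k.val → w x k = 0 := by
    intro x k hk
    set c : GL (Fin 6) F := h x * p x with hc
    set v : Fin 6 → F :=
      ((c⁻¹ : GL (Fin 6) F) : Matrix (Fin 6) (Fin 6) F) *ᵥ Pi.single 0 1 with hv
    have hcinv : t * c⁻¹ = c⁻¹ * t := by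
      have h3 := hhc x
      calc t * c⁻¹ = c⁻¹ * (c * t) * c⁻¹ := by group
        _ = c⁻¹ * (t * c) * c⁻¹ := by rw [h3]
        _ = c⁻¹ * t := by group
    have htv : (t : Matrix (Fin 6) (Fin 6) F) *ᵥ v = -v := by
      rw [hv, hcomm_mv _ hcinv, hte0, Matrix.mulVec_neg]
    have hvk : ∀ k' : Fin 6, 2 ≤ k'.val → v k' = 0 := by
      intro k' hk'
      have h4 := congrFun htv k'
      rw [htval, dsign_mulVec, if_neg (by omega), one_mul, Pi.neg_apply] at h4
      have h5 : (2 : F) * v k' = 0 := by linear_combination h4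
      rcases mul_eq_zero.mp h5 with h6 | h6
      · exact absurd h6 h2
      · exact h6
    have hwv : w x = v := by
      have h7 : (p x : Matrix (Fin 6) (Fin 6) F) *ᵥ v = w x := by
        rw [hv, hw]
        simp only []
        rw [Matrix.mulVec_mulVec, ← Units.val_mul]
        have h8 : p x * c⁻¹ = (h x)⁻¹ := by rw [hc]; group
        rw [h8]
      rw [← h7, hpmv, hvk 2 (by decide), zero_smul, add_zero]
    rw [hwv]
    exact hvk k hk
  have hw_ne : ∀ x, w x ≠ 0 := by
    intro x h0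
    have h3 := gl_mulVec_inv (h x) (Pi.single 0 1)
    have h4 : (((h x)⁻¹ : GL (Fin 6) F) : Matrix (Fin 6) (Fin 6) F) *ᵥ Pi.single 0 1 = w x := rfl
    rw [h4, h0, Matrix.mulVec_zero] at h3
    exact single_ne_zero_fin (0 : Fin 6) h3.symm
  have hratio : ∀ x, w x 0 ≠ 0 → w x 1 / w x 0 ∈ F₀ := by
    intro x hx0
    obtain ⟨c₁, hc₁, A₁, hA₁, hval⟩ :=
      exists_of_mem_H1 F₀ _ ((H1 (Fin 6) F₀).inv_mem (hhH x))
    have e0 : w x 0 = c₁ * A₁ 0 0 := by
      rw [hw]
      simp only []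
      rw [hval, Matrix.smul_mulVec, Matrix.mulVec_single_one, Pi.smul_apply, smul_eq_mul,
        Matrix.col_apply]
    have e1 : w x 1 = c₁ * A₁ 1 0 := by
      rw [hw]
      simp only []
      rw [hval, Matrix.smul_mulVec, Matrix.mulVec_single_one, Pi.smul_apply, smul_eq_mul,
        Matrix.col_apply]
    rw [e0, e1, mul_div_mul_left _ _ hc₁]
    exact F₀.div_mem (hA₁ 1 0) (hA₁ 0 0)
  have hk01 : ∀ k : Fin 6, ¬ 2 ≤ k.val → k = 0 ∨ k = 1 := by
    intro k hk
    rcases Nat.lt_or_ge k.val 1 with h6 | h6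
    · left; exact Fin.ext (by simp; omega)
    · right; exact Fin.ext (by simp; omega)
  -- pigeonhole
  set f : F₀ × F₀ → Option F₀ := fun x =>
    if hx : w x 0 ≠ 0 ∧ w x 1 / w x 0 ∈ F₀ then some ⟨w x 1 / w x 0, hx.2⟩ else none with hf
  have hfsome : ∀ x (hx0 : w x 0 ≠ 0), f x = some ⟨w x 1 / w x 0, hratio x hx0⟩ := by
    intro x hx0
    rw [hf]
    simp only []
    rw [dif_pos ⟨hx0, hratio x hx0⟩]
  have hfnone : ∀ x, w x 0 = 0 → f x = none := by
    intro x hx0
    rw [hf]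
    simp only []
    rw [dif_neg (fun hh => hh.1 hx0)]
  have hcard' : Fintype.card (Option F₀) < Fintype.card (F₀ × F₀) := by
    rw [Fintype.card_option, Fintype.card_prod]
    have h1 : 1 < Fintype.card F₀ := Fintype.one_lt_card
    nlinarith
  obtain ⟨x, y, hxy, hfxy⟩ := Fintype.exists_ne_map_eq_of_card_lt f hcard'
  have hprop : ∃ γ : F, w x = γ • w y := by
    by_cases hx0 : w x 0 = 0
    · have hy0 : w y 0 = 0 := by
        by_contra hy0
        rw [hfnone x hx0, hfsome y hy0] at hfxy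
        exact Option.some_ne_none _ hfxy.symm
      have hy1 : w y 1 ≠ 0 := by
        intro hy1
        apply hw_ne y
        funext k
        by_cases hk : 2 ≤ k.val
        · exact hw_supp y k hk
        · rcases hk01 k hk with rfl | rfl
          · exact hy0
          · exact hy1
      refine ⟨w x 1 / w y 1, ?_⟩
      funext k
      rw [Pi.smul_apply, smul_eq_mul]
      by_cases hk : 2 ≤ k.val
      · rw [hw_supp x k hk, hw_supp y k hk, mul_zero]
      · rcases hk01 k hk with rfl | rfl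
        · rw [hx0, hy0, mul_zero]
        · field_simp
    · have hy0 : w y 0 ≠ 0 := by
        intro hy0
        rw [hfsome x hx0, hfnone y hy0] at hfxy
        exact Option.some_ne_none _ hfxy
      rw [hfsome x hx0, hfsome y hy0] at hfxy
      have hr : w x 1 / w x 0 = w y 1 / w y 0 :=
        congrArg (fun z : F₀ => (z : F)) (Option.some.inj hfxy)
      refine ⟨w x 0 / w y 0, ?_⟩
      funext k
      rw [Pi.smul_apply, smul_eq_mul]
      by_cases hk : 2 ≤ k.val
      · rw [hw_supp x k hk, hw_supp y k hk, mul_zero]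
      · rcases hk01 k hk with rfl | rfl
        · field_simp
        · field_simp at hr ⊢
          linear_combination hr
  obtain ⟨γ, hγ⟩ := hprop
  -- the element `h y * (h x)⁻¹` has the rational eigenvector `e₀`
  have e1 : (h x)⁻¹ = m * h x * m :=
    inv_eq_of_mul_eq_one_left (by rw [← hhinv x]; group)
  have e2 : m * h y = (h y)⁻¹ * m⁻¹ := by
    have h3 : (m * h y)⁻¹ = m * h y := inv_eq_of_mul_eq_one_left (hhinv y)
    rw [← h3, _root_.mul_inv_rev]
  have hAB : (h y)⁻¹ * h x * m = m * (h y * (h x)⁻¹) := by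
    rw [← mul_assoc m, e2, e1]; group
  have hBe : ((h y * (h x)⁻¹ : GL (Fin 6) F) : Matrix (Fin 6) (Fin 6) F) *ᵥ Pi.single 0 1 =
      γ • (Pi.single 0 1 : Fin 6 → F) := by
    have h4 : (((h x)⁻¹ : GL (Fin 6) F) : Matrix (Fin 6) (Fin 6) F) *ᵥ Pi.single 0 1 = w x := rfl
    have h5 : (((h y)⁻¹ : GL (Fin 6) F) : Matrix (Fin 6) (Fin 6) F) *ᵥ Pi.single 0 1 = w y := rfl
    rw [Units.val_mul, ← Matrix.mulVec_mulVec, h4, hγ, Matrix.mulVec_smul, ← h5, gl_mulVec_inv]
  obtain ⟨ζ, hζ⟩ := s6_ti_scalar (F₀ := F₀)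
    (by intro z hz; rw [Fintype.card_fin] at hz; exact hdeg z hz) m hGPm
    ((h y)⁻¹ * h x) (h y * (h x)⁻¹)
    ((H1 (Fin 6) F₀).mul_mem ((H1 (Fin 6) F₀).inv_mem (hhH y)) (hhH x))
    ((H1 (Fin 6) F₀).mul_mem (hhH y) ((H1 (Fin 6) F₀).inv_mem (hhH x)))
    hAB (Pi.single 0 1) (ratV_single F₀ 0 F₀.one_mem) (single_ne_zero_fin _) γ hBe
  have hxy' : (h x : Matrix (Fin 6) (Fin 6) F) = ζ • (h y : Matrix (Fin 6) (Fin 6) F) := by
    have h3 : (h x : Matrix (Fin 6) (Fin 6) F) = (h y : Matrix (Fin 6) (Fin 6) F) *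
        (((h y)⁻¹ * h x : GL (Fin 6) F) : Matrix (Fin 6) (Fin 6) F) := by
      rw [← Units.val_mul]
      congr 1
      group
    rw [h3, hζ, Matrix.mul_smul, Matrix.mul_one]
  have hζ0 : ζ ≠ 0 := by
    intro h0
    have h3 := gl_mulVec_inv (h x) (Pi.single 0 1)
    rw [hxy', h0, zero_smul, Matrix.zero_mulVec] at h3
    exact single_ne_zero_fin (0 : Fin 6) h3.symm
  -- compare the actions on `e₂`
  have hpe2 : ∀ z, (p z : Matrix (Fin 6) (Fin 6) F) *ᵥ Pi.single 2 1 = Pi.single 2 1 + us z := by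
    intro z
    rw [hpmv, Pi.single_eq_same, one_smul]
  have hpus : ∀ z z', (p z : Matrix (Fin 6) (Fin 6) F) *ᵥ us z' = us z' := by
    intro z z'
    rw [hpmv, hus2', zero_smul, add_zero]
  have E3 : ∀ z, (t : Matrix (Fin 6) (Fin 6) F) *ᵥ ((h y : Matrix (Fin 6) (Fin 6) F) *ᵥ us z) =
      -((h y : Matrix (Fin 6) (Fin 6) F) *ᵥ us z) := by
    intro z
    have h3 := hcomm_mv _ (hhc y) (us z)
    rw [Units.val_mul, ← Matrix.mulVec_mulVec, hpus, htus, Matrix.mulVec_neg,
      ← Matrix.mulVec_mulVec, hpus] at h3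
    exact h3
  have E2 : (t : Matrix (Fin 6) (Fin 6) F) *ᵥ ((h y : Matrix (Fin 6) (Fin 6) F) *ᵥ
      (Pi.single 2 1 + us y)) = (h y : Matrix (Fin 6) (Fin 6) F) *ᵥ (Pi.single 2 1 + us y) := by
    have h3 := hcomm_mv _ (hhc y) (Pi.single 2 1)
    rw [hte2, Units.val_mul, ← Matrix.mulVec_mulVec, hpe2] at h3
    exact h3
  have E1 : (t : Matrix (Fin 6) (Fin 6) F) *ᵥ ((h y : Matrix (Fin 6) (Fin 6) F) *ᵥ
      (Pi.single 2 1 + us x)) = (h y : Matrix (Fin 6) (Fin 6) F) *ᵥ (Pi.single 2 1 + us x) := by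
    have h3 := hcomm_mv _ (hhc x) (Pi.single 2 1)
    rw [hte2, Units.val_mul, ← Matrix.mulVec_mulVec, hpe2, hxy', Matrix.smul_mulVec,
      Matrix.mulVec_smul] at h3
    have h4 := congrArg (fun z => ζ⁻¹ • z) h3
    simp only [smul_smul, inv_mul_cancel₀ hζ0, one_smul] at h4
    exact h4
  rw [Matrix.mulVec_add, Matrix.mulVec_add, E3] at E1 E2
  have hU : (h y : Matrix (Fin 6) (Fin 6) F) *ᵥ us x = (h y : Matrix (Fin 6) (Fin 6) F) *ᵥ us y := by
    funext k
    have hk1 := congrFun E1 k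
    have hk2 := congrFun E2 k
    simp only [Pi.add_apply, Pi.neg_apply] at hk1 hk2
    have h3 : (2 : F) * (((h y : Matrix (Fin 6) (Fin 6) F) *ᵥ us x) k -
        ((h y : Matrix (Fin 6) (Fin 6) F) *ᵥ us y) k) = 0 := by
      linear_combination hk2 - hk1
    rcases mul_eq_zero.mp h3 with h4 | h4
    · exact absurd h4 h2
    · exact sub_eq_zero.mp h4
  have hus_eq : us x = us y := by
    have h3 := congrArg (fun z => (((h y)⁻¹ : GL (Fin 6) F) : Matrix (Fin 6) (Fin 6) F) *ᵥ z) hU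
    simp only [gl_inv_mulVec] at h3
    exact h3
  apply hxy
  have h0 := congrFun hus_eq 0
  have h1 := congrFun hus_eq 1
  rw [hus0, hus0] at h0
  rw [hus1, hus1] at h1
  exact Prod.ext (Subtype.ext h0) (Subtype.ext h1)

/-- The subfield group (in standard position) is maximal in `SL_6`. -/
theorem s6_subfield_max_aux (F₀ : Subfield F) (r : ℕ) (hr : r.Prime)
    (hcard : Fintype.card F = Nat.card F₀ ^ r) :
    Cfsg.Geo.IsMaximalIn (Cfsg.Geo.specialLinear (Fin 6) F)
      (H1 (Fin 6) F₀ ⊓ Cfsg.Geo.specialLinear (Fin 6) F) := by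
  classical
  have h3 : ∀ i j : Fin 6, ∃ k, k ≠ i ∧ k ≠ j := fin_third (by omega)
  have : Nontrivial (Fin 6) := Fin.nontrivial_iff_two_le.mpr (by omega)
  refine ⟨lt_of_le_of_ne inf_le_right ?_, fun M hHM hMK => ?_⟩
  · intro heq
    have hex : ∃ c : F, c ∉ F₀ := by
      by_contra hcon
      push Not at hcon
      have h1 : Nat.card F₀ = Fintype.card F := by
        rw [← Nat.card_eq_fintype_card]
        exact Nat.card_congr (Equiv.subtypeUnivEquiv hcon)
      have h4 : 1 < Nat.card F₀ := by rw [h1]; exact Fintype.one_lt_card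
      rw [← h1] at hcard
      have h5 : Nat.card F₀ ^ 1 = Nat.card F₀ ^ r := by rw [pow_one]; exact hcard
      have h6 := Nat.pow_right_injective h4 h5
      exact hr.one_lt.ne h6
    obtain ⟨c, hc⟩ := hex
    set i0 : Fin 6 := ⟨0, by omega⟩ with hi0
    set i1 : Fin 6 := ⟨1, by omega⟩ with hi1
    have n01 : i0 ≠ i1 := by rw [hi0, hi1]; simp
    have h01 : (Pi.single i1 c : Fin 6 → F) ⬝ᵥ Pi.single i0 1 = 0 :=
      single_dot_single_ne n01 c 1
    have ht : tvG (Pi.single i0 1) (Pi.single i1 c) h01 ∈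
        H1 (Fin 6) F₀ ⊓ Cfsg.Geo.specialLinear (Fin 6) F := by
      rw [heq]; exact tvG_mem_specialLinear _ _ h01
    obtain ⟨c', hc'0, A, hA, htA⟩ := exists_of_mem_H1 F₀ _ ht.1
    have e00 := congrFun (congrFun htA i0) i0
    have e01 := congrFun (congrFun htA i0) i1
    rw [tvG_val, tv, Matrix.add_apply, Matrix.vecMulVec_apply, Matrix.smul_apply,
      Pi.single_eq_same, Pi.single_eq_of_ne n01, mul_zero, add_zero, Matrix.one_apply_eq,
      smul_eq_mul] at e00
    rw [tvG_val, tv, Matrix.add_apply, Matrix.vecMulVec_apply, Matrix.smul_apply,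
      Pi.single_eq_same, Pi.single_eq_same, one_mul, Matrix.one_apply_ne n01, zero_add,
      smul_eq_mul] at e01
    have hc'mem : c' ∈ F₀ := by
      have h7 : c' = (A i0 i0)⁻¹ := eq_inv_of_mul_eq_one_left e00.symm
      rw [h7]; exact F₀.inv_mem (hA i0 i0)
    apply hc
    rw [e01]
    exact F₀.mul_mem hc'mem (hA i0 i1)
  · rcases inW_dichotomy hHM h3 r hr hcard with hW | hall
    · left
      have hGPl : ∀ m ∈ M, ¬ GP F₀ m → m ∈ H1 (Fin 6) F₀ :=
        fun m hm h => mem_H1_of_not_GP hHM h3 hW m hm h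
      have hle : M ≤ H1 (Fin 6) F₀ := by
        by_cases hr6 : r < 6
        · intro m hm
          by_contra hmH
          have hGP : GP F₀ m := by
            by_contra h
            exact hmH (hGPl m hm h)
          have h5 := card_le_of_GP F₀ r hcard m hGP (0 : Fin 6)
          rw [Fintype.card_fin] at h5
          omega
        · have hr7 : 6 < r := by
            rcases Nat.lt_or_ge 6 r with h | h
            · exact h
            · have h6 : r = 6 := by omega
              rw [h6] at hr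
              exact absurd hr (by norm_num)
          have hrodd : Odd r := (hr.eq_two_or_odd').resolve_left (by omega)
          by_cases h2 : (2 : F) = 0
          · exact s6_le_H1_two (le_refl 6) hHM hGPl (mem_of_sq_mem F₀ r hcard (Or.inl h2)) h2
          · exact s6_le_H1_odd hHM hGPl (mem_of_sq_mem F₀ r hcard (Or.inr hrodd)) h2
              (fun y hy => s6_mem_of_pow_mem F₀ r hr (finrank_of_card F₀ r hcard) 6
                (by norm_num) hr7 y hy)
      exact le_antisymm (fun m hm => ⟨hle hm, hMK hm⟩) hHM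
    · right
      exact le_antisymm hMK (sl_le_of_inW hall)

/-- The subfield subgroup of `SL_6(F)` for a subfield of prime degree is maximal. -/
theorem subfield_isMaximalIn6 (F₀ : Subfield F) (r : ℕ) (hr : r.Prime)
    (hcard : Fintype.card F = Nat.card F₀ ^ r) (P : Matrix.GeneralLinearGroup (Fin 6) F) :
    Cfsg.Geo.IsMaximalIn (Cfsg.Geo.specialLinear (Fin 6) F)
      (Cfsg.Geo.subfieldSubgroup F₀ P ⊓ Cfsg.Geo.specialLinear (Fin 6) F) := by
  have h := isMaximalIn_map (MulAut.conj P) (s6_subfield_max_aux F₀ r hr hcard)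
  rw [Subgroup.map_inf_eq _ _ _ (MulAut.conj P).injective, sl_map_conj] at h
  exact h

end Odd

end Cfsg.Agent.Lib.Helper60.Subf6
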