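import Cfsg.Agent.Lib.Helper4.TPDefs

/-!
# Project TP (helper4, S4033), piece SOLVA (helper60)

A nontrivial solvable normal subgroup `N` of a finite group `Q` contains a nontrivial normal
(in `Q`) `r`-subgroup.
-/

set_option autoImplicit false

namespace Cfsg.Agent.Lib.Helper4.TP

universe u

theorem solva_helper60_aux (Q : Type u) [Group Q] [Finite Q] (n : ℕ) :
    ∀ (N : Subgroup Q), Nat.card N ≤ n → N.Normal → N ≠ ⊥ → Group.IsSolvable N →
      ∃ (r : ℕ) (R : Subgroup Q), r.Prime ∧ R.Normal ∧ R ≠ ⊥ ∧ IsPGroup r R ∧ R ≤ N := by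
  induction n with
  | zero =>
    intro N hn
    exfalso
    have h1 : 0 < Nat.card N := Nat.card_pos
    omega
  | succ n ih =>
    intro N hn hN hne hsol
    by_cases hc : ⁅N, N⁆ = ⊥
    · -- `N` is abelian
      have hab : ∀ x ∈ N, ∀ y ∈ N, x * y = y * x := by
        intro x hx y hy
        have h1 : N ≤ Subgroup.centralizer (N : Set Q) :=
          Subgroup.commutator_eq_bot_iff_le_centralizer.mp hc
        exact Subgroup.mem_centralizer_iff.mp (h1 hy) x hx
      have hcard1 : Nat.card N ≠ 1 := by
        intro h1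
        exact hne (Subgroup.card_eq_one.mp h1)
      obtain ⟨r, hr, hrd⟩ := Nat.exists_prime_and_dvd hcard1
      have hrF : Fact r.Prime := ⟨hr⟩
      obtain ⟨x, hx⟩ := exists_prime_orderOf_dvd_card' (G := N) r hrd
      have hxo : orderOf (x : Q) = r := by
        rw [Subgroup.orderOf_coe]
        exact hx
      let R : Subgroup Q :=
        { carrier := {y | y ∈ N ∧ ∃ k : ℕ, y ^ (r ^ k) = 1}
          mul_mem' := by
            rintro a b ⟨ha, k, hk⟩ ⟨hb, l, hl⟩
            refine ⟨N.mul_mem ha hb, k + l, ?_⟩
            have hcomm : Commute a b := hab a ha b hb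
            rw [hcomm.mul_pow, pow_add, pow_mul, hk, one_pow, one_mul, mul_comm (r ^ k) (r ^ l),
              pow_mul, hl, one_pow]
          one_mem' := ⟨N.one_mem, 0, by simp⟩
          inv_mem' := by
            rintro a ⟨ha, k, hk⟩
            exact ⟨N.inv_mem ha, k, by rw [inv_pow, hk, inv_one]⟩ }
      refine ⟨r, R, hr, ?_, ?_, ?_, ?_⟩
      · constructor
        rintro a ⟨ha, k, hk⟩ g
        refine ⟨hN.conj_mem a ha g, k, ?_⟩
        rw [conj_pow, hk, mul_one, mul_inv_cancel]
      · intro hbot
        have hxR : (x : Q) ∈ R := by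
          refine ⟨x.2, 1, ?_⟩
          rw [pow_one, ← hxo]
          exact pow_orderOf_eq_one _
        rw [hbot, Subgroup.mem_bot] at hxR
        rw [hxR, orderOf_one] at hxo
        exact hr.one_lt.ne hxo
      · rintro ⟨a, ha, k, hk⟩
        refine ⟨k, ?_⟩
        apply Subtype.ext
        rw [Subgroup.coe_pow]
        exact hk
      · intro a ha
        exact ha.1
    · -- pass to the commutator subgroup
      have hnt : Nontrivial N := (Subgroup.nontrivial_iff_ne_bot N).mpr hne
      have hlt : ⁅N, N⁆ < N := by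
        have h1 := Group.IsSolvable.commutator_lt_top_of_nontrivial (G := N)
        have h2 : (commutator N).map N.subtype < (⊤ : Subgroup N).map N.subtype :=
          Subgroup.map_subtype_lt_map_subtype.mpr h1
        rw [Subgroup.map_subtype_commutator] at h2
        rwa [← MonoidHom.range_eq_map, Subgroup.range_subtype] at h2
      have hcard : Nat.card (⁅N, N⁆ : Subgroup Q) < Nat.card N := by
        by_contra hge
        push Not at hge
        exact hlt.ne (Subgroup.eq_of_le_of_card_ge hlt.le hge)
      have hsol' : Group.IsSolvable (⁅N, N⁆ : Subgroup Q) :=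
        Group.isSolvable_of_isSolvable_injective (Subgroup.inclusion_injective hlt.le)
      obtain ⟨r, R, hr, hRn, hRne, hRp, hRle⟩ :=
        ih ⁅N, N⁆ (by omega) (Subgroup.commutator_normal N N) hc hsol'
      exact ⟨r, R, hr, hRn, hRne, hRp, hRle.trans hlt.le⟩

theorem solva : SolvAStmt.{u} := by
  intro Q _ _ N hN hne hsol
  exact solva_helper60_aux Q (Nat.card N) N le_rfl hN hne hsol

end Cfsg.Agent.Lib.Helper4.TP
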